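import Cfsg.Agent.Omega.FFThmM

/-!
# UNI_T (helper995 #27055, helper860 #27010, helper528 #27296): the abstract frame

`T` 2-group, `R` a minimal parabolic over `T`, `U = zl T R`, `Q_R = O₂(R) = C_T(U)`; blocks `N b` with lines `l b`;
`O ≤ T` with `AA(O)`; `j` the block moved by `R`, `E c` (`c ≠ j`) elementary abelian, `R`-invariant, `N j, N c, Ω₁Z(T) ≤ E c ≤ O`.

* `Full A N l` : `A` acts on `N` as the full root group with centre `l`;
* `Fr` : the frame;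
* `thom` : Thompson's inequality for every elementary abelian `X ≤ O`; `swap_mem` : the exchange.
-/

set_option autoImplicit false
set_option linter.unusedSectionVars false

namespace Cfsg.Agent.Omega.NOThreeL.RWide.UniT

open Subgroup Cfsg Cfsg.Agent.Omega.MinPar
open Cfsg.Agent.ZN (zc o2 zl)
open Cfsg.Agent.ZN.ChoiceBase (cj AA)
open Cfsg.Agent.ZN.ChoiceSit (Syl)
open Cfsg.Agent.MinSimple.MinParabolic (IsMinPar)

universe u v

variable {G : Type u} [Group G] {ι : Type v}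

/-- `A` acts on `N` as the full root group with centre `l`. -/
structure Full (A N l : Subgroup G) : Prop where
  cent : A ≤ centralizer (l : Set G)
  inl : ∀ a ∈ A, ∀ v ∈ N, a * v * a⁻¹ * v⁻¹ ∈ l
  onA : ∀ v ∈ N, v ∉ l → ∀ z ∈ l, ∃ a ∈ A, a * v * a⁻¹ * v⁻¹ = z
  onN : ∀ a ∈ A, a ∉ centralizer (N : Set G) → ∀ z ∈ l, ∃ v ∈ N, a * v * a⁻¹ * v⁻¹ = z
  cardA : Nat.card A = Nat.card ↥(A ⊓ centralizer (N : Set G)) * Nat.card l
  ne : ¬ A ≤ centralizer (N : Set G)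

/-- The blocks under `T`. -/
structure Rts (T O : Subgroup G) (N l : ι → Subgroup G) : Prop where
  two : IsPGroup 2 T
  OT : O ≤ T
  com : ∀ a b, N a ≤ centralizer (N b : Set G)
  sq : ∀ b, ∀ v ∈ N b, v * v = 1
  NO : ∀ b, N b ≤ O
  lN : ∀ b, l b ≤ N b
  dis : ∀ a b, a ≠ b → N a ⊓ N b = ⊥
  TN : ∀ b, T ≤ normalizer (N b : Set G)
  Tl : ∀ b, T ≤ normalizer (l b : Set G)
  cardN : ∀ b, Nat.card (N b) = Nat.card (l b) * Nat.card (l b)
  lne : ∀ b, l b ≠ ⊥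
  /-- an element of `T` which centralises the line acts as a root element -/
  rt : ∀ b, ∀ t ∈ T, t ∈ centralizer (l b : Set G) → (∀ v ∈ N b, t * v * t⁻¹ * v⁻¹ ∈ l b) ∧
    (t ∉ centralizer (N b : Set G) → ∀ z ∈ l b, ∃ v ∈ N b, t * v * t⁻¹ * v⁻¹ = z)
  /-- ... and is covered by every full root group -/
  rep : ∀ b, ∀ A ≤ T, Full A (N b) (l b) → ∀ t ∈ T, t ∈ centralizer (l b : Set G) →
    ∃ a ∈ A, a⁻¹ * t ∈ centralizer (N b : Set G)
  /-- the ROOT LEMMA -/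
  off : ∀ b, ∀ A ≤ T, IsElementaryAbelian 2 A →
    Nat.card (N b) * Nat.card ↥(A ⊓ centralizer (N b : Set G)) ≤
      Nat.card A * Nat.card ↥(N b ⊓ centralizer (A : Set G)) →
    A ≤ centralizer (N b : Set G) ∨ Full A (N b) (l b)
  /-- pure members of `AA(O)` -/
  pure : ∀ b, ∃ A ∈ AA O, ¬ A ≤ centralizer (N b : Set G) ∧ ∀ c, c ≠ b → A ≤ centralizer (N c : Set G)
  I4 : zc (T ⊓ centralizer ((⨆ b, l b : Subgroup G) : Set G)) ≤ ⨆ b, l b

/-- **The frame.** -/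
structure Fr [Finite G] (T O R : Subgroup G) (N l E : ι → Subgroup G) (j : ι) : Prop extends Rts T O N l where
  syl : Syl T R
  par : IsMinPar T R
  /-- `O₂(R) = C_T(U)` -/
  UQ : T ⊓ centralizer (zl T R : Set G) = o2 R
  cR : R ⊓ centralizer (o2 R : Set G) ≤ o2 R
  zT : zc T ≤ ⨆ b, (l b ⊓ centralizer (T : Set G))
  RF : ∀ b, b ≠ j → R ≤ centralizer ((l b ⊓ centralizer (T : Set G) : Subgroup G) : Set G)
  mv : ¬ R ≤ centralizer ((l j ⊓ centralizer (T : Set G) : Subgroup G) : Set G)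
  ex : ∃ c, c ≠ j
  EO : ∀ c, c ≠ j → E c ≤ O
  eab : ∀ c, c ≠ j → IsElementaryAbelian 2 (E c)
  RE : ∀ c, c ≠ j → R ≤ normalizer (E c : Set G)
  jE : ∀ c, c ≠ j → N j ≤ E c
  NE : ∀ c, c ≠ j → N c ≤ E c
  ZE : ∀ c, c ≠ j → zc T ≤ E c
  /-- an element of `L c` which moves the line -/
  lam : ∀ c, c ≠ j → ∃ m, m ∈ normalizer (E c : Set G) ∧ m ∈ normalizer (N c : Set G) ∧
    (∀ b, b ≠ c → m ∈ centralizer (N b : Set G)) ∧
    m ∈ normalizer ((T ⊓ centralizer ((⨆ b, N b : Subgroup G) : Set G) : Subgroup G) : Set G) ∧ cj m (l c) ⊓ l c = ⊥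

/-! ### Thompson's exchange -/

section thom

variable [Finite G] {O A X : Subgroup G}

theorem comA (hA : IsElementaryAbelian 2 A) : A ≤ centralizer (A : Set G) := fun x hx =>
  mem_centralizer_iff.2 fun a ha => congrArg (fun t : A => (t : G)) (hA.1.is_comm.comm ⟨a, ha⟩ ⟨x, hx⟩)

theorem eab_mono (hA : IsElementaryAbelian 2 A) (hX : X ≤ A) : IsElementaryAbelian 2 X :=
  ⟨⟨⟨fun a b => Subtype.ext (congrArg (fun t : A => (t : G)) (hA.1.is_comm.comm ⟨a, hX a.2⟩ ⟨b, hX b.2⟩))⟩⟩,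
    fun a ha => hA.2 a (hX ha)⟩

/-- **Thompson's inequality** -/
theorem thom (hA : A ∈ AA O) (hX : IsElementaryAbelian 2 X) (hXO : X ≤ O) :
    Nat.card X * Nat.card ↥(A ⊓ centralizer (X : Set G)) ≤ Nat.card A * Nat.card ↥(X ⊓ centralizer (A : Set G)) := by
  have hc : A ⊓ centralizer (X : Set G) ≤ centralizer (X : Set G) := inf_le_right
  have h1 := Cfsg.Agent.PLocal.ElemAbSup.isElementaryAbelian_sup hX (eab_mono hA.1 inf_le_left) hc
  have h2 := hA.2.2 _ h1 (sup_le hXO (inf_le_left.trans hA.2.1))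
  have h3 := Cfsg.Agent.PLocal.ElemAbSup.card_sup_mul_card_inf hc
  have h4 : Nat.card ↥(X ⊓ (A ⊓ centralizer (X : Set G))) ≤ Nat.card ↥(X ⊓ centralizer (A : Set G)) :=
    Subgroup.card_le_of_le (le_inf inf_le_left (inf_le_right.trans (inf_le_left.trans (comA hA.1))))
  rw [← h3]
  exact Nat.mul_le_mul h2 h4

/-- `C_X(A) ≤ A` -/
theorem cent_le (hA : A ∈ AA O) (hX : IsElementaryAbelian 2 X) (hXO : X ≤ O) : X ⊓ centralizer (A : Set G) ≤ A := by
  have hc : X ⊓ centralizer (A : Set G) ≤ centralizer (A : Set G) := inf_le_right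
  have h1 := Cfsg.Agent.PLocal.ElemAbSup.isElementaryAbelian_sup hA.1 (eab_mono hX inf_le_left) hc
  have h2 := hA.2.2 _ h1 (sup_le hA.2.1 (inf_le_left.trans hXO))
  have h3 : A ⊔ (X ⊓ centralizer (A : Set G)) = A :=
    (Subgroup.eq_of_le_of_card_ge le_sup_left h2).symm
  exact sup_eq_left.1 h3

/-- **the exchange** : equality gives `C_A(X) X ∈ AA(O)` -/
theorem swap_mem (hA : A ∈ AA O) (hX : IsElementaryAbelian 2 X) (hXO : X ≤ O)
    (h : Nat.card A * Nat.card ↥(X ⊓ centralizer (A : Set G)) ≤ Nat.card X * Nat.card ↥(A ⊓ centralizer (X : Set G))) :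
    (A ⊓ centralizer (X : Set G)) ⊔ X ∈ AA O := by
  have hc : A ⊓ centralizer (X : Set G) ≤ centralizer (X : Set G) := inf_le_right
  have h1 := Cfsg.Agent.PLocal.ElemAbSup.isElementaryAbelian_sup hX (eab_mono hA.1 inf_le_left) hc
  have h3 := Cfsg.Agent.PLocal.ElemAbSup.card_sup_mul_card_inf hc
  have h4 : Nat.card ↥(X ⊓ (A ⊓ centralizer (X : Set G))) ≤ Nat.card ↥(X ⊓ centralizer (A : Set G)) :=
    Subgroup.card_le_of_le (le_inf inf_le_left (inf_le_right.trans (inf_le_left.trans (comA hA.1))))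
  rw [sup_comm]
  refine ⟨h1, sup_le hXO (inf_le_left.trans hA.2.1), fun B hB hBO => (hA.2.2 B hB hBO).trans ?_⟩
  rw [← h3] at h
  have h5 : Nat.card A * Nat.card ↥(X ⊓ centralizer (A : Set G)) ≤
      Nat.card ↥(X ⊔ A ⊓ centralizer (X : Set G)) * Nat.card ↥(X ⊓ centralizer (A : Set G)) :=
    h.trans (Nat.mul_le_mul_left _ h4)
  exact Nat.le_of_mul_le_mul_right h5 Nat.card_pos

end thom

end Cfsg.Agent.Omega.NOThreeL.RWide.UniT
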