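import Cfsg.Agent.Omega.NOThreeL.RWide.ParT.EndA
import Cfsg.Agent.Omega.EDel.Bx.ZJBase

/-!
# UNI_T, CASE 1 (helper995 #27055, PART N): `J(O) ≤ O₂(R)`

`R ∈ 𝒫(T)`, `R ≤ Y_j` moves `F j`; `D = C_G(Ω₁Z(T))`, `O = O₂(D)`, `Z_J = ∏ l b`, `D_J = C_G(Z_J)`.

* `mx_iff`, `LJ_eq` : for `D_J ≤ D' ≤ N_G(Z_J)` with `O₂(D') ≤ T` the groups `O₂(D')`, `O₂(D_J)` have the same elementary
  abelian subgroups of maximal order;
* `case_one_abs`, **`Tf.case_one`** : if all of these (for `O`) are in `O₂(R)` then `R` normalises `Z_J` and all blocks.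
-/

set_option autoImplicit false
set_option linter.unusedSectionVars false

namespace Cfsg.Agent.Omega.NOThreeL.RWide.UniT

open Subgroup Cfsg Cfsg.Agent.Omega.MinPar
open Cfsg.Agent.ZN (zc zl o2)
open Cfsg.Agent.ZN.ChoiceBase (cj cj_mono cj_inf cj_centralizer cj_eq_of_mem_normalizer mem_normalizer_iff_cj mem_zc)
open Cfsg.Agent.ZN.ChoiceSit (Syl o2_le_syl syl_not_dvd)
open Cfsg.Agent.MinSimple.MinParabolic (IsMinPar)
open Cfsg.Agent.MinSimple.VModule (zc_le normalizer_le_normalizer_zc le_centralizer_zc le_normalizer_o2 o2_isPGroup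
  le_o2 o2_le zl_le_zc zc_le_zl zc_le_zc_o2 le_normalizer_centralizer_zl)
open Cfsg.Agent.Omega.KL.TwoS (Mx)
open Cfsg.Agent.Omega.EDel.ZJBase (LJ LJ_norm mem_LJ)
open Cfsg.Agent.Omega.NOThreeL.RWide.TAct (TT BB Tf)
open Cfsg.Agent.Omega.EDel.ThmU (XF)

universe u v

variable {G : Type u} [Group G]

theorem norm_cent {Z : Subgroup G} : normalizer (Z : Set G) ≤ normalizer ((centralizer (Z : Set G) : Subgroup G) : Set G) := by
  intro g hg
  rw [mem_normalizer_iff_cj, cj_centralizer, cj_eq_of_mem_normalizer hg]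

variable [Finite G]

/-- `O₂(D_J) ≤ O₂(D')` -/
theorem o2_le_of {ZJ D' : Subgroup G} (DJ : centralizer (ZJ : Set G) ≤ D') (Dn : D' ≤ normalizer (ZJ : Set G)) :
    o2 (centralizer (ZJ : Set G)) ≤ o2 D' :=
  le_o2 ((o2_le _).trans DJ) (o2_isPGroup _)
    ((Dn.trans norm_cent).trans (Cfsg.Agent.Omega.normalizer_le_normalizer_o2' _))

/-- the same elementary abelian subgroups of maximal order -/
theorem mx_iff {T V ZJ D' A : Subgroup G} (DJ : centralizer (ZJ : Set G) ≤ D') (Dn : D' ≤ normalizer (ZJ : Set G))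
    (OT : o2 D' ≤ T) (hV : V ≤ o2 (centralizer (ZJ : Set G))) (Vsq : ∀ v ∈ V, v ^ 2 = 1)
    (off : ∀ A : Subgroup G, A ≤ T → (∀ a ∈ A, a ^ 2 = 1) →
      (centralizer (A : Set G)).relIndex V ≤ (centralizer (V : Set G)).relIndex A → A ≤ centralizer (ZJ : Set G)) :
    Mx (o2 D') A ↔ Mx (o2 (centralizer (ZJ : Set G))) A := by
  have h1 := o2_le_of DJ Dn
  have h2 : ∀ A : Subgroup G, Mx (o2 D') A → Mx (o2 (centralizer (ZJ : Set G))) A := by
    intro A hA
    have h3 : A ≤ centralizer (ZJ : Set G) := off A (hA.le.trans OT) hA.sq (hA.thom (hV.trans h1) Vsq)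
    have h4 : o2 D' ⊓ centralizer (ZJ : Set G) ≤ o2 (centralizer (ZJ : Set G)) := by
      refine le_o2 inf_le_right ((o2_isPGroup _).to_le inf_le_left) fun d hd => ?_
      rw [mem_normalizer_iff_cj, cj_inf, cj_eq_of_mem_normalizer (le_normalizer_o2 _ (DJ hd)),
        cj_eq_of_mem_normalizer (Subgroup.le_normalizer hd)]
    exact ⟨(le_inf hA.le h3).trans h4, hA.sq, fun B hB hB2 => hA.max B (hB.trans h1) hB2⟩
  refine ⟨h2 A, fun hA => ?_⟩
  obtain ⟨A', hA'⟩ := Mx.exists_mx (o2 D')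
  exact hA'.of_card (hA.le.trans h1) hA.sq (hA.max A' (h2 A' hA').le hA'.sq)

/-- `Ω₁Z(J(O₂(D'))) ≤ Ω₁Z(J(O₂(D_J)))` and conversely -/
theorem LJ_eq {T V ZJ D' : Subgroup G} (DJ : centralizer (ZJ : Set G) ≤ D') (Dn : D' ≤ normalizer (ZJ : Set G))
    (OT : o2 D' ≤ T) (hV : V ≤ o2 (centralizer (ZJ : Set G))) (Vsq : ∀ v ∈ V, v ^ 2 = 1)
    (off : ∀ A : Subgroup G, A ≤ T → (∀ a ∈ A, a ^ 2 = 1) →
      (centralizer (A : Set G)).relIndex V ≤ (centralizer (V : Set G)).relIndex A → A ≤ centralizer (ZJ : Set G)) :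
    LJ (o2 D') = LJ (o2 (centralizer (ZJ : Set G))) := by
  have h1 := o2_le_of DJ Dn
  have hm : ∀ A : Subgroup G, Mx (o2 D') A ↔ Mx (o2 (centralizer (ZJ : Set G))) A := fun A =>
    mx_iff DJ Dn OT hV Vsq off
  ext x
  rw [mem_LJ, mem_LJ]
  constructor
  · rintro ⟨hx, hx2, hxc⟩
    refine ⟨?_, hx2, fun A hA => hxc A ((hm A).2 hA)⟩
    obtain ⟨A, hA⟩ := Mx.exists_mx (o2 D')
    exact ((hm A).1 hA).le (Cfsg.Agent.Omega.EDel.ZJBase.LJ_le_mem hA (mem_LJ.2 ⟨hx, hx2, hxc⟩))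
  · rintro ⟨hx, hx2, hxc⟩
    exact ⟨h1 hx, hx2, fun A hA => hxc A ((hm A).1 hA)⟩

/-- **CASE 1, abstract.** -/
theorem case_one_abs {T R V ZJ F : Subgroup G} (hTR : Syl T R) (hP : IsMinPar T R)
    (hc : R ⊓ centralizer (o2 R : Set G) ≤ o2 R) (sylD : Syl T (centralizer (zc T : Set G)))
    (ZJT : ZJ ≤ T) (ZJc : ZJ ≤ centralizer (ZJ : Set G)) (zcB : zc (T ⊓ centralizer (ZJ : Set G)) ≤ ZJ)
    (zTJ : zc T ≤ ZJ) (DN : centralizer (zc T : Set G) ≤ normalizer (ZJ : Set G)) (FZ : F ≤ zc T)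
    (hRF : ¬ R ≤ centralizer (F : Set G)) (hV : V ≤ o2 (centralizer (ZJ : Set G))) (Vsq : ∀ v ∈ V, v ^ 2 = 1)
    (off : ∀ A : Subgroup G, A ≤ T → (∀ a ∈ A, a ^ 2 = 1) →
      (centralizer (A : Set G)).relIndex V ≤ (centralizer (V : Set G)).relIndex A → A ≤ centralizer (ZJ : Set G))
    (lam : LJ (o2 (centralizer (ZJ : Set G))) = ZJ) (UO : zl T R ≤ o2 (centralizer (zc T : Set G)))
    (hJ : ∀ A : Subgroup G, Mx (o2 (centralizer (zc T : Set G))) A → A ≤ o2 R) :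
    R ≤ normalizer (ZJ : Set G) := by
  have hT2 := hTR.2.1
  have hs := syl_not_dvd hTR
  have hO : o2 R ≤ T := o2_le_syl hTR
  have hUc : zl T R ≤ zc (o2 R) := zl_le_zc hTR.1 hT2 hs hc
  have hTz : T ≤ centralizer (zc T : Set G) := le_centralizer_zc T
  have DJD : centralizer (ZJ : Set G) ≤ centralizer (zc T : Set G) := centralizer_le (by exact_mod_cast zTJ)
  have OTT : o2 (centralizer (zc T : Set G)) ≤ T := o2_le_syl sylD
  -- `U ≤ Z_J`
  have hU : zl T R ≤ ZJ := by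
    rw [← lam, ← LJ_eq DJD DN OTT hV Vsq off]
    intro x hx
    have h1 := mem_zc.1 (hUc hx)
    refine mem_LJ.2 ⟨UO hx, h1.2.1, fun A hA => ?_⟩
    rw [mem_centralizer_iff]
    exact fun a ha => h1.2.2 a (hJ A hA ha)
  -- `B ≤ O₂(R)`
  have hB : T ⊓ centralizer (ZJ : Set G) ≤ o2 R := by
    rcases hP.sup_eq_or_inf_le hT2 hs inf_le_left (le_normalizer_centralizer_zl T R) with h1 | h1
    · exfalso
      apply hRF
      rw [← h1]
      have h2 : F ≤ zl T R := FZ.trans (zc_le_zl T R)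
      exact sup_le (inf_le_right.trans (centralizer_le (by exact_mod_cast h2)))
        (hTz.trans (centralizer_le (by exact_mod_cast FZ)))
    · refine le_trans (le_inf inf_le_left (le_inf (inf_le_left.trans hTR.1) (inf_le_right.trans ?_))) h1
      exact centralizer_le (by exact_mod_cast hU)
  -- `Ω₁Z(O₂(R)) ≤ Z_J`
  have hZJB : ZJ ≤ T ⊓ centralizer (ZJ : Set G) := le_inf ZJT ZJc
  have hz : zc (o2 R) ≤ ZJ := by
    intro x hx
    obtain ⟨h1, h2, h3⟩ := mem_zc.1 hx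
    exact zcB (mem_zc.2 ⟨mem_inf.2 ⟨hO h1, mem_centralizer_iff.2 fun y hy => h3 y (hB (hZJB hy))⟩, h2,
      fun y hy => h3 y (hB hy)⟩)
  have hz' : zc T ≤ zc (o2 R) := zc_le_zc_o2 hTR.1 hT2 hs hc
  set D' : Subgroup G := centralizer (zc (o2 R) : Set G) with hD'
  have DJ' : centralizer (ZJ : Set G) ≤ D' := centralizer_le (by exact_mod_cast hz)
  have D'D : D' ≤ centralizer (zc T : Set G) := centralizer_le (by exact_mod_cast hz')
  have hRz : R ≤ normalizer (zc (o2 R) : Set G) := (le_normalizer_o2 R).trans (normalizer_le_normalizer_zc _)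
  have hRD : R ≤ normalizer (o2 D' : Set G) :=
    (hRz.trans norm_cent).trans (Cfsg.Agent.Omega.normalizer_le_normalizer_o2' _)
  have OT' : o2 D' ≤ T := by
    have h1 : IsPGroup 2 (T ⊔ o2 D' : Subgroup G) :=
      IsPGroup.to_sup_of_normal_right' hT2 (o2_isPGroup D') (hTR.1.trans hRD)
    have h2 := sylD.2.2 (T ⊔ o2 D') (sup_le hTz ((o2_le D').trans D'D)) h1 le_sup_left
    rw [← h2]
    exact le_sup_right
  have h3 : LJ (o2 D') = ZJ := by rw [← lam]; exact LJ_eq DJ' (D'D.trans DN) OT' hV Vsq off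
  rw [← h3]
  exact hRD.trans (LJ_norm _)

/-- a 2-subgroup of odd index is a Sylow group -/
theorem syl_of_odd {T X : Subgroup G} (hT : IsPGroup 2 T) (hTX : T ≤ X) (h : ¬ 2 ∣ T.relIndex X) : Syl T X := by
  have : Fact (Nat.Prime 2) := ⟨Nat.prime_two⟩
  refine ⟨hTX, hT, fun Q hQX hQ hTQ => ?_⟩
  have h1 := relIndex_mul_relIndex T Q X hTQ hQX
  have h2 : T.relIndex Q ∣ Nat.card Q := relIndex_dvd_card T Q
  obtain ⟨n, hn⟩ := IsPGroup.iff_card.1 hQ
  rw [hn] at h2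
  obtain ⟨m, -, hm⟩ := (Nat.dvd_prime_pow Nat.prime_two).1 h2
  have h3 : m = 0 := by
    by_contra hm0
    apply h
    rw [← h1, hm]
    exact dvd_mul_of_dvd_left (dvd_pow_self 2 hm0) _
  rw [h3, pow_zero] at hm
  exact le_antisymm (relIndex_eq_one.1 hm) hTQ

section tf

variable {ι : Type v} [Finite ι] [Nonempty ι] {S : Sylow 2 G} {V : Subgroup G} {N l : ι → Subgroup G}

/-- `X_ij` has characteristic 2 -/
theorem char2_XF (t : Tf S V N l) (hG : IsCharacteristicTwoType G) (three : ∀ i j : ι, ∃ k, k ≠ i ∧ k ≠ j) (i j : ι) :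
    XF (TAct.FF (S : Subgroup G) N l) i j ⊓ centralizer (o2 (XF (TAct.FF (S : Subgroup G) N l) i j) : Set G) ≤
      o2 (XF (TAct.FF (S : Subgroup G) N l) i j) := by
  have e : XF (TAct.FF (S : Subgroup G) N l) i j =
      centralizer ((closure {x | ∃ n, n ≠ i ∧ n ≠ j ∧ x ∈ TAct.FF (S : Subgroup G) N l n} : Subgroup G) : Set G) :=
    (centralizer_closure _).symm
  have hle : closure {x | ∃ n, n ≠ i ∧ n ≠ j ∧ x ∈ TAct.FF (S : Subgroup G) N l n} ≤ TT (S : Subgroup G) N := by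
    rw [closure_le]
    rintro _ ⟨n, -, -, hx⟩
    exact ZN.zc_le _ (t.F_le n hx)
  rw [e]
  refine Cfsg.Agent.Omega.NOne.LemmaT.char2_centralizer hG (t.T2.to_le hle) ?_
  obtain ⟨l, hl1, hl2⟩ := three i j
  intro e1
  apply t.ne l
  rw [eq_bot_iff, ← e1]
  exact fun x hx => subset_closure ⟨l, hl1, hl2, hx⟩

omit [Finite ι] [Nonempty ι] in
theorem D_le_XF (t : Tf S V N l) (i j : ι) : centralizer (zc (TT (S : Subgroup G) N) : Set G) ≤
    XF (TAct.FF (S : Subgroup G) N l) i j := by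
  intro x hx
  rw [XF, mem_centralizer_iff]
  rintro y ⟨n, -, -, hy⟩
  exact mem_centralizer_iff.1 hx y (t.F_le n hy)

/-- `Ω₁Z(T) ≤ Ω₁Z(O₂(X_ij))`, `O₂(X_ij) ≤ O₂(D)` -/
theorem zcT_XF (t : Tf S V N l) (hG : IsCharacteristicTwoType G) (three : ∀ i j : ι, ∃ k, k ≠ i ∧ k ≠ j)
    (oT : ∀ i j : ι, o2 (XF (TAct.FF (S : Subgroup G) N l) i j) ≤ TT (S : Subgroup G) N) (i j : ι) :
    zc (TT (S : Subgroup G) N) ≤ zc (o2 (XF (TAct.FF (S : Subgroup G) N l) i j)) ∧
      o2 (XF (TAct.FF (S : Subgroup G) N l) i j) ≤ o2 (centralizer (zc (TT (S : Subgroup G) N) : Set G)) := by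
  have hTz : TT (S : Subgroup G) N ≤ centralizer (zc (TT (S : Subgroup G) N) : Set G) := le_centralizer_zc _
  refine ⟨fun x hx => ?_, ?_⟩
  · have hx' := mem_zc.1 hx
    have hc : x ∈ centralizer (o2 (XF (TAct.FF (S : Subgroup G) N l) i j) : Set G) :=
      mem_centralizer_iff.2 fun y hy => hx'.2.2 y (oT i j hy)
    have h3 := char2_XF t hG three i j ⟨D_le_XF t i j (hTz hx'.1), hc⟩
    exact mem_zc.2 ⟨h3, hx'.2.1, fun y hy => mem_centralizer_iff.1 hc y hy⟩
  · exact le_o2 ((oT i j).trans hTz) (o2_isPGroup _) ((D_le_XF t i j).trans (le_normalizer_o2 _))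

/-- **CASE 1**: if all elementary abelian subgroups of maximal order of `O₂(D)` are in `O₂(R)` then `R` normalises
all blocks. -/
theorem case_one (t : Tf S V N l) (hG : IsCharacteristicTwoType G) (three : ∀ i j : ι, ∃ k, k ≠ i ∧ k ≠ j)
    (oT : ∀ i j : ι, o2 (XF (TAct.FF (S : Subgroup G) N l) i j) ≤ TT (S : Subgroup G) N)
    (ln : ∀ c ∈ centralizer (zc (S : Subgroup G) : Set G), ∀ b, ∃ b', cj c (l b) = l b')
    (low : V ≤ o2 (centralizer (zc (S : Subgroup G) : Set G)))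
    (off : ∀ A : Subgroup G, A ≤ TT (S : Subgroup G) N → (∀ a ∈ A, a ^ 2 = 1) →
      (centralizer (A : Set G)).relIndex V ≤ (centralizer (V : Set G)).relIndex A →
      A ≤ centralizer ((⨆ b, l b : Subgroup G) : Set G))
    (lam : LJ (o2 (centralizer ((⨆ b, l b : Subgroup G) : Set G))) = ⨆ b, l b) {j : ι} {R : Subgroup G}
    (hP : IsMinPar (TT (S : Subgroup G) N) R) (hRY : R ≤ YY (TAct.FF (S : Subgroup G) N l) j)
    (hRF : ¬ R ≤ centralizer (TAct.FF (S : Subgroup G) N l j : Set G))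
    (hJ : ∀ A : Subgroup G, Mx (o2 (centralizer (zc (TT (S : Subgroup G) N) : Set G))) A → A ≤ o2 R) :
    (R ≤ normalizer ((⨆ b, l b : Subgroup G) : Set G)) ∧ ∀ b, R ≤ normalizer (N b : Set G) := by
  set T := TT (S : Subgroup G) N with hT
  set ZJ : Subgroup G := ⨆ b, l b with hZJ
  have hDZ : centralizer (zc T : Set G) ≤ centralizer (zc (S : Subgroup G) : Set G) :=
    centralizer_le (by exact_mod_cast t.Z_le_zcT)
  have hDY : ∀ j, centralizer (zc T : Set G) ≤ YY (TAct.FF (S : Subgroup G) N l) j := fun j =>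
    le_YY fun b _ => centralizer_le (by exact_mod_cast t.F_le b)
  have hTz : T ≤ centralizer (zc T : Set G) := le_centralizer_zc T
  have hTR : Syl T R := syl_of_odd t.T2 hP.le (t.syl_sub hP.le hRY)
  have sylD : Syl T (centralizer (zc T : Set G)) := syl_of_odd t.T2 hTz (t.syl_sub hTz (hDY j))
  have DN : centralizer (zc T : Set G) ≤ normalizer (ZJ : Set G) := by
    intro c hc
    refine Cfsg.Agent.ZN.ChoiceBase.mem_normalizer_of_cj_le ?_
    rw [hZJ, cj, Subgroup.map_iSup]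
    refine iSup_le fun b => ?_
    obtain ⟨b', hb'⟩ := ln c (hDZ hc) b
    exact (le_of_eq hb').trans (le_iSup l b')
  have hBe : T ⊓ centralizer (ZJ : Set G) = BB (S : Subgroup G) l :=
    le_antisymm (le_inf (inf_le_left.trans inf_le_left) inf_le_right) (le_inf t.BT inf_le_right)
  have hV : V ≤ o2 (centralizer (ZJ : Set G)) := by
    have h1 : centralizer (ZJ : Set G) ≤ centralizer (zc (S : Subgroup G) : Set G) := t.DC
    have h2 : o2 (centralizer (zc (S : Subgroup G) : Set G)) ⊓ centralizer (ZJ : Set G) ≤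
        o2 (centralizer (ZJ : Set G)) := by
      refine le_o2 inf_le_right ((o2_isPGroup _).to_le inf_le_left) fun d hd => ?_
      rw [mem_normalizer_iff_cj, cj_inf, cj_eq_of_mem_normalizer (le_normalizer_o2 _ (h1 hd)),
        cj_eq_of_mem_normalizer (Subgroup.le_normalizer hd)]
    exact (le_inf low (t.com.trans (centralizer_le (by exact_mod_cast t.RV)))).trans h2
  obtain ⟨i, hi, -⟩ := three j j
  obtain ⟨z1, z2⟩ := zcT_XF t hG three oT j i
  have hRX : R ≤ XF (TAct.FF (S : Subgroup G) N l) j i :=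
    hRY.trans (centralizer_le fun _ ⟨n, h1, _, h3⟩ => ⟨n, h1, h3⟩)
  -- `R` has characteristic 2
  have hc : R ⊓ centralizer (o2 R : Set G) ≤ o2 R := by
    have h1 : o2 (XF (TAct.FF (S : Subgroup G) N l) j i) ≤ o2 R :=
      le_o2 ((oT j i).trans hP.le) (o2_isPGroup _) (hRX.trans (le_normalizer_o2 _))
    rintro x ⟨hx, hxc⟩
    exact h1 (char2_XF t hG three j i ⟨hRX hx, centralizer_le (by exact_mod_cast h1) hxc⟩)
  have UO : zl T R ≤ o2 (centralizer (zc T : Set G)) :=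
    (Cfsg.Agent.MinSimple.VModule.zl_le z1
      (hRX.trans ((le_normalizer_o2 _).trans (normalizer_le_normalizer_zc _)))).trans ((zc_le _).trans z2)
  have key : R ≤ normalizer (ZJ : Set G) :=
    case_one_abs hTR hP hc sylD (t.RB.trans t.BT) (t.RV.trans (t.com.trans (centralizer_le (by exact_mod_cast t.RV))))
      (by rw [hBe]; exact t.I4) t.zcT_le_R DN (t.F_le j) hRF hV t.sq off lam UO hJ
  exact ⟨key, fun b => t.norm_of_R hP hRY key hRF b⟩

end tf

end Cfsg.Agent.Omega.NOThreeL.RWide.UniT
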