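import Cfsg.Agent.Omega.NOThreeL.RWide.UniT.FrOf

/-!
# `lamj` : the field `lam` of `Fr` for the moved block `j` (helper819 #28024)
-/

set_option autoImplicit false

namespace Cfsg.Agent.Omega.NOThreeL.RWide.UniT

open Subgroup Cfsg
open Cfsg.Agent.ZN (zc)
open Cfsg.Agent.ZN.ChoiceBase (cj)
open Cfsg.Agent.Omega.EDel.ThmU (XF XF_comm)
open Cfsg.Agent.Omega.NOThreeL.RWide.ParT.Loc (Typ0)
open Cfsg.Agent.Omega.NOThreeL.RWide.TBlk (Bls)

universe u v

variable {G : Type u} [Group G] {ι : Type v}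

/-- an element of `L_j` which moves the line `l j` and normalises `E_ja`, for every `a` -/
theorem lam_swap [Finite G] {S T V : Subgroup G} {F N l E : ι → Subgroup G} (hB : Bls S V N l E) (t : Typ0 T F N)
    (j a : ι) : ∃ m, m ∈ normalizer (XS (zc T) (XF F j a) : Set G) ∧ m ∈ normalizer (N j : Set G) ∧
      (∀ b, b ≠ j → m ∈ centralizer (N b : Set G)) ∧
      m ∈ normalizer ((T ⊓ centralizer ((⨆ b, N b : Subgroup G) : Set G) : Subgroup G) : Set G) ∧
      cj m (l j) ⊓ l j = ⊥ := by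
  have h1 := lam hB t a j
  rwa [XF_comm] at h1

/-- **`lamj`** -/
theorem lamj [Finite G] {S T V : Subgroup G} {F N l E : ι → Subgroup G} (hB : Bls S V N l E) (t : Typ0 T F N)
    (j : ι) : ∃ a, a ≠ j ∧ ∃ m, m ∈ normalizer (XS (zc T) (XF F j a) : Set G) ∧ m ∈ normalizer (N j : Set G) ∧
      (∀ b, b ≠ j → m ∈ centralizer (N b : Set G)) ∧
      m ∈ normalizer ((T ⊓ centralizer ((⨆ b, N b : Subgroup G) : Set G) : Subgroup G) : Set G) ∧
      cj m (l j) ⊓ l j = ⊥ := by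
  obtain ⟨a, ha⟩ := t.exists_ne j
  exact ⟨a, ha, lam_swap hB t j a⟩

end Cfsg.Agent.Omega.NOThreeL.RWide.UniT
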