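import Cfsg.Agent.Omega.NOThreeL.RWide.UniT.RootOff
import Cfsg.Agent.Omega.NOThreeL.RWide.ParT.EndG
import Cfsg.Agent.Omega.NOThreeL.RWide.ParQ.I

/-!
# `parT`, (A1) (helper528 #27296): `⟨Ω₁Z(T)^P⟩ ≤ ∏ l b` implies that `P` normalises all blocks

`D' = C_G(U)`, `U = zl T P`: `J(O₂(D')) = J(O)`, so `P ≤ N_G(J(O)) ≤ N_G(∏ l b)`. No `lam`.

* `JC` : `J(O)` centralises the lines;  `CJ` : `V ∩ C(J(O)) ≤ ∏ l b`;
* `P_le_NJ` : `P ≤ N_G(J(O))`;  **`a_one`** : literal (A1) of `UniT.parT_of`.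
-/

set_option autoImplicit false
set_option linter.unusedSectionVars false

namespace Cfsg.Agent.Omega.NOThreeL.RWide.UniT.AOne

open Subgroup Cfsg Cfsg.Agent.Omega.MinPar
open Cfsg.Agent.ZN (zc o2 zl jj)
open Cfsg.Agent.ZN.ChoiceBase (cj cj_mono cj_inf cj_centralizer cj_eq_of_mem_normalizer mem_normalizer_iff_cj
  AA AA_nonempty jj_eq jj_le le_jj jj_eq_of_jj_le jj_cj normalizer_le_of_cj)
open Cfsg.Agent.ZN.ChoiceSit (Syl)
open Cfsg.Agent.MinSimple.MinParabolic (IsMinPar)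
open Cfsg.Agent.MinSimple.VModule (zc_le le_centralizer_zc le_normalizer_o2 o2_isPGroup le_o2 o2_le o2_le_of_sylow
  zc_le_zl le_normalizer_zl)
open Cfsg.Agent.Omega.NoFF.Basic (comm_symm)
open Cfsg.Agent.Omega.NOThreeL.RWide.TBlk (NB Bls Kd)
open Cfsg.Agent.Omega.NOThreeL.RWide.TAct (TT BB Tf OT)
open Cfsg.Agent.Omega.NOThreeL.RWide.ParQ (toTf)

universe u v

variable {G : Type u} [Group G] [Finite G] {ι : Type v} [Finite ι] [Nonempty ι] {S : Sylow 2 G} {V : Subgroup G}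
  {N l E : ι → Subgroup G}

omit [Finite ι] [Nonempty ι] in
/-- a normal 2-subgroup of `D'` under `T`, `D' ≤ D`, `T` Sylow in `D` -/
theorem o2_le_T {T D D' : Subgroup G} (hT : Syl T D) (h1 : D' ≤ D) (h2 : T ≤ normalizer (D' : Set G)) : o2 D' ≤ T := by
  have h3 : IsPGroup 2 (T ⊔ o2 D' : Subgroup G) :=
    IsPGroup.to_sup_of_normal_right' hT.2.1 (o2_isPGroup _)
      (h2.trans (Cfsg.Agent.Omega.normalizer_le_normalizer_o2' _))
  have h4 := hT.2.2 _ (sup_le hT.1 ((o2_le _).trans h1)) h3 le_sup_left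
  rw [← h4]
  exact le_sup_right

theorem sylD (h : TFm S V N l E) : Syl (TT (S : Subgroup G) N) (centralizer (zc (TT (S : Subgroup G) N) : Set G)) := by
  have t := toTf h
  have hj : Nonempty ι := inferInstance
  obtain ⟨j⟩ := hj
  refine ParT.EndG.syl_of (le_centralizer_zc _) t.T2 fun h2 => t.syl_YY j ?_
  rw [← relIndex_mul_relIndex _ (centralizer (zc (TT (S : Subgroup G) N) : Set G)) _ (le_centralizer_zc _)
    (le_YY fun b _ => centralizer_le (t.F_le b))]
  exact h2.mul_right _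

theorem OT_le (h : TFm S V N l E) : OT (TT (S : Subgroup G) N) ≤ TT (S : Subgroup G) N :=
  o2_le_T (sylD h) le_rfl ((le_centralizer_zc _).trans le_normalizer)

/-- `V ≤ O` -/
theorem V_le_O (h : TFm S V N l E) (hc : IsCharacteristicTwoType G) (three : ∀ i j : ι, ∃ k, k ≠ i ∧ k ≠ j) :
    V ≤ OT (TT (S : Subgroup G) N) := by
  rw [← h.sup]
  refine iSup_le fun b => ?_
  have h1 := ParQ.cj_le_O h hc three (x := (1 : G)) (j := b) (one_mem _) b
  rwa [Cfsg.Agent.ZN.ChoiceBase.cj_one] at h1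

/-- a member of `AA(O')`, `V ≤ O'`, under `T` centralises the lines -/
theorem AA_cent (h : TFm S V N l E) {O' A : Subgroup G} (hV : V ≤ O') (hA : A ∈ AA O')
    (hAT : A ≤ TT (S : Subgroup G) N) : A ≤ centralizer ((⨆ b, l b : Subgroup G) : Set G) := by
  have hVe : IsElementaryAbelian 2 V := ⟨⟨⟨fun a b => Subtype.ext (h.com a a.2 b b.2)⟩⟩, fun v hv => h.sq v hv⟩
  have h1 := thom hA hVe hV
  rw [← RootOff.card_split A V] at h1
  refine RootCnt.root_le h.toBls hAT hA.1.2 ?_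
  have h2 : 0 < Nat.card ↥(A ⊓ centralizer (V : Set G)) := Nat.card_pos
  refine Nat.le_of_mul_le_mul_left (c := Nat.card ↥(A ⊓ centralizer (V : Set G))) ?_ h2
  calc Nat.card ↥(A ⊓ centralizer (V : Set G)) * Nat.card V
      = Nat.card V * Nat.card ↥(A ⊓ centralizer (V : Set G)) := mul_comm _ _
    _ ≤ _ := h1
    _ = _ := by ring

/-- **`J(O)` centralises the lines** -/
theorem JC (h : TFm S V N l E) (hc : IsCharacteristicTwoType G) (three : ∀ i j : ι, ∃ k, k ≠ i ∧ k ≠ j) :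
    jj (OT (TT (S : Subgroup G) N)) ≤ centralizer ((⨆ b, l b : Subgroup G) : Set G) := by
  rw [jj_eq]
  exact sSup_le fun A hA => AA_cent h (V_le_O h hc three) hA (hA.2.1.trans (OT_le h))

/-- **`V ∩ C(J(O)) ≤ ∏ l b`** -/
theorem CJ (h : TFm S V N l E) (hc : IsCharacteristicTwoType G) (three : ∀ i j : ι, ∃ k, k ≠ i ∧ k ≠ j)
    (all : ∀ b, ∃ A ∈ AA (OT (TT (S : Subgroup G) N)), ¬ A ≤ centralizer (N b : Set G)) :
    V ⊓ centralizer (jj (OT (TT (S : Subgroup G) N)) : Set G) ≤ ⨆ b, l b := by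
  obtain ⟨F, i1, i2, i3, x, y, kd⟩ := h.toBls.exists_kd
  rintro v ⟨hv, hvc⟩
  refine kd.memZ.2 ⟨hv, fun b => ?_⟩
  obtain ⟨A, hA, hm⟩ := all b
  have hAB : A ≤ TBlk.BB (S : Subgroup G) l := le_inf ((hA.2.1.trans (OT_le h)).trans inf_le_left)
    ((le_jj hA).trans (JC h hc three))
  by_contra hy
  apply hm
  intro a ha
  obtain ⟨t, ht⟩ := kd.actB S.isPGroup' (hAB ha)
  have h1 : a * v * a⁻¹ = v := by
    have h2 := mem_centralizer_iff.1 hvc a (le_jj hA ha)
    rw [h2, mul_inv_cancel_right]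
  have h3 := (ht v hv b).1
  rw [h1] at h3
  have h4 : t b = 0 := by
    have h5 : t b * y v b = 0 := left_eq_add.1 h3
    exact (mul_eq_zero.1 h5).resolve_right hy
  refine mem_centralizer_iff.2 fun w hw => ?_
  obtain ⟨hwV, hx0, hy0⟩ := (kd.memN b w).1 hw
  have haV : a * w * a⁻¹ ∈ V := kd.conj_mem (kd.SV (hAB ha).1) hwV
  have h6 : a * w * a⁻¹ = w := by
    refine kd.ext haV hwV (fun c => ?_) fun c => (ht w hwV c).2
    rw [(ht w hwV c).1]
    by_cases hcb : c = b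
    · subst hcb
      rw [h4, zero_mul, add_zero]
    · rw [hy0 c hcb, mul_zero, add_zero]
  calc w * a = (a * w * a⁻¹) * a := by rw [h6]
    _ = a * w := by group

/-- **`P ≤ N_G(J(O))`** -/
theorem P_le_NJ (h : TFm S V N l E) (hc : IsCharacteristicTwoType G) (three : ∀ i j : ι, ∃ k, k ≠ i ∧ k ≠ j)
    (I1s : centralizer (zc (S : Subgroup G) : Set G) ≤ normalizer ((⨆ b, l b : Subgroup G) : Set G)) {P : Subgroup G}
    (hTP : TT (S : Subgroup G) N ≤ P) (hU : zl (TT (S : Subgroup G) N) P ≤ ⨆ b, l b) :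
    P ≤ normalizer (jj (OT (TT (S : Subgroup G) N)) : Set G) := by
  have t := toTf h
  set T := TT (S : Subgroup G) N with hT
  set U := zl T P with hUdef
  set D := centralizer (zc T : Set G) with hD
  set D' := centralizer (U : Set G) with hD'
  have hD'D : D' ≤ D := centralizer_le (zc_le_zl T P)
  have hPn : P ≤ normalizer (D' : Set G) := by
    intro p hp
    rw [mem_normalizer_iff_cj, hD', cj_centralizer, cj_eq_of_mem_normalizer (le_normalizer_zl T P hp)]
  have hDJ : centralizer ((⨆ b, l b : Subgroup G) : Set G) ≤ D' := centralizer_le hU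
  have hDN : D ≤ normalizer ((⨆ b, l b : Subgroup G) : Set G) := (centralizer_le t.Z_le_zcT).trans I1s
  have hOD' : OT T ⊓ D' ≤ o2 D' := by
    refine le_o2 inf_le_right ((o2_isPGroup _).to_le inf_le_left) fun d hd => ?_
    rw [mem_normalizer_iff_cj, cj_inf, cj_eq_of_mem_normalizer (le_normalizer_o2 _ (hD'D hd)),
      cj_eq_of_mem_normalizer (Subgroup.le_normalizer hd)]
  have hVO := V_le_O h hc three
  have hVD' : V ≤ D' := (h.comV).trans (centralizer_le (hU.trans t.RV))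
  have hVo : V ≤ o2 D' := (le_inf hVO hVD').trans hOD'
  have hoT : o2 D' ≤ T := o2_le_T (sylD h) hD'D (hTP.trans hPn)
  -- `C_G(∏ l b)` is normal in `D`
  have hDJn : D ≤ normalizer ((centralizer ((⨆ b, l b : Subgroup G) : Set G) : Subgroup G) : Set G) := by
    intro d hd
    rw [mem_normalizer_iff_cj, cj_centralizer, cj_eq_of_mem_normalizer (hDN hd)]
  have h1 : jj (o2 D') ≤ OT T := by
    rw [jj_eq]
    refine sSup_le fun A hA => ?_
    have h2 : A ≤ centralizer ((⨆ b, l b : Subgroup G) : Set G) := AA_cent h hVo hA (hA.2.1.trans hoT)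
    have h3 : o2 D' ⊓ centralizer ((⨆ b, l b : Subgroup G) : Set G) ≤
        o2 (centralizer ((⨆ b, l b : Subgroup G) : Set G)) := by
      refine le_o2 inf_le_right ((o2_isPGroup _).to_le inf_le_left) fun d hd => ?_
      rw [mem_normalizer_iff_cj, cj_inf, cj_eq_of_mem_normalizer (le_normalizer_o2 _ (hDJ hd)),
        cj_eq_of_mem_normalizer (Subgroup.le_normalizer hd)]
    have h4 : o2 (centralizer ((⨆ b, l b : Subgroup G) : Set G)) ≤ OT T :=
      le_o2 ((o2_le _).trans (hDJ.trans hD'D)) (o2_isPGroup _)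
        (hDJn.trans (Cfsg.Agent.Omega.normalizer_le_normalizer_o2' _))
    exact ((le_inf hA.2.1 h2).trans h3).trans h4
  have h2 : jj (OT T) ≤ o2 D' := (le_inf (jj_le _) ((JC h hc three).trans hDJ)).trans hOD'
  -- `J(O) = J(O ⊓ O₂(D')) = J(O₂(D'))`
  have h3 : jj (OT T ⊓ o2 D') = jj (OT T) := jj_eq_of_jj_le (le_inf (jj_le _) h2) inf_le_left
  have h4 : jj (OT T ⊓ o2 D') = jj (o2 D') := jj_eq_of_jj_le (le_inf h1 (jj_le _)) inf_le_right
  have h5 : jj (o2 D') = jj (OT T) := h4.symm.trans h3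
  rw [← h5]
  intro p hp
  exact normalizer_le_of_cj (F := jj) jj_cj _ (Cfsg.Agent.Omega.normalizer_le_normalizer_o2' _ (hPn hp))

/-- **(A1).** -/
theorem a_one (h : TFm S V N l E) (hc : IsCharacteristicTwoType G) (three : ∀ i j : ι, ∃ k, k ≠ i ∧ k ≠ j)
    (ln : ∀ c ∈ centralizer (zc (S : Subgroup G) : Set G), ∀ b, ∃ b', cj c (l b) = l b')
    (all : ∀ b, ∃ A ∈ AA (OT (TT (S : Subgroup G) N)), ¬ A ≤ centralizer (N b : Set G)) {j : ι} {P : Subgroup G}
    (hP : IsMinPar (TT (S : Subgroup G) N) P) (hPX : P ≤ YY (TAct.FF (S : Subgroup G) N l) j)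
    (hm : ¬ P ≤ centralizer (TAct.FF (S : Subgroup G) N l j : Set G))
    (hU : zl (TT (S : Subgroup G) N) P ≤ ⨆ b, l b) (b : ι) : P ≤ normalizer (N b : Set G) := by
  have t := toTf h
  have I1s : centralizer (zc (S : Subgroup G) : Set G) ≤ normalizer ((⨆ b, l b : Subgroup G) : Set G) := by
    intro c hc'
    refine Cfsg.Agent.ZN.ChoiceBase.mem_normalizer_of_cj_le ?_
    rw [cj, Subgroup.map_iSup]
    refine iSup_le fun b => ?_
    obtain ⟨b', hb'⟩ := ln c hc' b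
    exact (le_of_eq hb').trans (le_iSup l b')
  exact t.norm_of_R hP hPX ((P_le_NJ h hc three I1s hP.le hU).trans
    (t.J_le (JC h hc three) (CJ h hc three all) I1s)) hm b

end Cfsg.Agent.Omega.NOThreeL.RWide.UniT.AOne
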