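import Cfsg.Agent.Omega.NOThreeL.RWide.UniT.Exc

/-!
# UNI_T: LEMMA FIX (helper860 #27010 (7)) over the frame `Fr`

* `Fr.fixV'` : `X ≤ E c ∩ Q`, `[X, Q] ≤ l c` ⇒ `[X, Q] = 1` (`Q = C_T(∏ N b)`).
-/

set_option autoImplicit false
set_option linter.unusedSectionVars false

namespace Cfsg.Agent.Omega.NOThreeL.RWide.UniT

open Subgroup Cfsg Cfsg.Agent.Omega.MinPar
open Cfsg.Agent.ZN (zc o2 zl)
open Cfsg.Agent.ZN.ChoiceBase (cj cj_mono cj_inf cj_centralizer cj_eq_of_mem_normalizer mem_cj mem_normalizer_iff_cj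
  cj_cj_inv cj_inv_cj cj_cj cj_one isPGroup_cj card_cj AA mem_normalizer_of_cj_le cj_le_iff isElementaryAbelian_cj)
open Cfsg.Agent.ZN.ChoiceSit (Syl syl_not_dvd le_normalizer_o2 o2_le_syl o2_le)
open Cfsg.Agent.MinSimple.MinParabolic (IsMinPar)
open Cfsg.Agent.Omega.SQ1.Bau (mem_sup_comm)

universe u v

variable {G : Type u} [Group G] {ι : Type v}

/-- counting along a homomorphism -/
theorem card_ker_range [Finite G] {K : Subgroup G} (φ : K →* G) {C D : Subgroup G}
    (hC : ∀ k : K, φ k = 1 → (k : G) ∈ C) (hD : ∀ k : K, φ k ∈ D) : Nat.card K ≤ Nat.card ↥(K ⊓ C) * Nat.card D := by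
  have h1 : Nat.card K = Nat.card φ.ker * Nat.card φ.range := by
    rw [← Subgroup.card_mul_index φ.ker, Subgroup.index_ker]
  rw [h1]
  refine Nat.mul_le_mul ?_ ?_
  · refine Nat.card_le_card_of_injective (fun k : φ.ker => (⟨(k : K), mem_inf.2 ⟨(k : K).2, hC _ k.2⟩⟩ : ↥(K ⊓ C))) ?_
    intro a b hab
    have h2 := congrArg Subtype.val hab
    exact Subtype.ext (Subtype.ext h2)
  · refine Subgroup.card_le_of_le ?_
    rintro _ ⟨k, rfl⟩
    exact hD k

/-- counting along a homomorphism, from below -/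
theorem card_ker_range' [Finite G] {K : Subgroup G} (φ : K →* G) {C D : Subgroup G}
    (hC : ∀ k : K, (k : G) ∈ C → φ k = 1) (hD : ∀ d ∈ D, ∃ k : K, φ k = d) :
    Nat.card ↥(K ⊓ C) * Nat.card D ≤ Nat.card K := by
  have h1 : Nat.card K = Nat.card φ.ker * Nat.card φ.range := by
    rw [← Subgroup.card_mul_index φ.ker, Subgroup.index_ker]
  rw [h1]
  refine Nat.mul_le_mul ?_ ?_
  · refine Nat.card_le_card_of_injective
      (fun k : ↥(K ⊓ C) => (⟨⟨(k : G), (mem_inf.1 k.2).1⟩, hC _ (mem_inf.1 k.2).2⟩ : φ.ker)) ?_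
    intro a b hab
    have h2 := congrArg (fun t : φ.ker => ((t : K) : G)) hab
    exact Subtype.ext h2
  · refine Subgroup.card_le_of_le ?_
    intro d hd
    obtain ⟨k, hk⟩ := hD d hd
    exact ⟨k, hk⟩

namespace Fr

variable [Finite G] {T O R : Subgroup G} {N l E : ι → Subgroup G} {j : ι} (h : Fr T O R N l E j)
include h

theorem T_norm_V : T ≤ normalizer ((⨆ b, N b : Subgroup G) : Set G) := by
  intro t ht
  refine mem_normalizer_of_cj_le ?_
  show Subgroup.map _ (⨆ b, N b) ≤ _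
  rw [Subgroup.map_iSup]
  exact iSup_mono fun b => (cj_eq_of_mem_normalizer (h.TN b ht)).le

theorem T_norm_Q : T ≤ normalizer ((T ⊓ centralizer ((⨆ b, N b : Subgroup G) : Set G) : Subgroup G) : Set G) := by
  intro t ht
  rw [mem_normalizer_iff_cj, cj_inf, cj_centralizer, cj_eq_of_mem_normalizer (h.T_norm_V ht),
    cj_eq_of_mem_normalizer (le_normalizer ht)]

/-- **LEMMA FIX** -/
theorem fixV' {c : ι} (hc : c ≠ j) {X : Subgroup G} (hX : X ≤ E c)
    (hXQ : X ≤ T ⊓ centralizer ((⨆ b, N b : Subgroup G) : Set G))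
    (hl : ∀ x ∈ X, ∀ g ∈ T ⊓ centralizer ((⨆ b, N b : Subgroup G) : Set G), x * g * x⁻¹ * g⁻¹ ∈ l c) :
    T ⊓ centralizer ((⨆ b, N b : Subgroup G) : Set G) ≤ centralizer (X : Set G) := by
  set V : Subgroup G := ⨆ b, N b with hV
  set Q := T ⊓ centralizer (V : Set G) with hQ
  have hNV : ∀ b, N b ≤ V := le_iSup N
  obtain ⟨m, hmE, hmN, hmC, hmQ, hml⟩ := h.lam c hc
  obtain ⟨A, hA, hAc, hAb⟩ := h.pure c
  have hAT : A ≤ T := hA.2.1.trans h.OT
  have hF : Full A (N c) (l c) := (h.T_one hc (h.EO c hc) (h.NE c hc) hA hAT).resolve_left hAc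
  intro g0 hg0
  rw [mem_c]
  intro e he
  set f := m * e * m⁻¹ with hf
  have hfE : f ∈ E c := by
    have := conj_cj (g := m) (hX he)
    rwa [cj_eq_of_mem_normalizer hmE] at this
  have hfQ : f ∈ Q := by
    have := conj_cj (g := m) (hXQ he)
    rwa [cj_eq_of_mem_normalizer hmQ] at this
  have hy : ∀ g ∈ Q, f * g * f⁻¹ * g⁻¹ ∈ cj m (l c) := by
    intro g hg
    have h1 : m⁻¹ * g * m ∈ Q := by
      have := conj_cj (g := m⁻¹) hg
      rwa [cj_eq_of_mem_normalizer (inv_mem hmQ), inv_inv] at this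
    have h2 := conj_cj (g := m) (hl e he _ h1)
    have e1 : m * (e * (m⁻¹ * g * m) * e⁻¹ * (m⁻¹ * g * m)⁻¹) * m⁻¹ = f * g * f⁻¹ * g⁻¹ := by rw [hf]; group
    rwa [e1] at h2
  have hyN : cj m (l c) ≤ N c := by
    have := cj_mono m (h.lN c)
    rwa [cj_eq_of_mem_normalizer hmN] at this
  -- `A₀ = C_A(N c) ≤ Q`
  set A0 := A ⊓ centralizer (N c : Set G) with hA0
  have hA0Q : A0 ≤ Q := by
    refine le_inf (inf_le_left.trans hAT) fun a ha => mem_c.2 fun v hv => ?_
    have h1 : V ≤ centralizer ((zpowers a : Subgroup G) : Set G) := by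
      refine iSup_le fun b w hw => ?_
      rw [mem_centralizer_iff]
      rintro _ ⟨k, rfl⟩
      have h2 : a * w = w * a := by
        by_cases hb : b = c
        · subst hb
          exact mem_c.1 (mem_inf.1 ha).2 w hw
        · exact mem_c.1 (hAb b hb (mem_inf.1 ha).1) w hw
      exact (Commute.zpow_left (show Commute a w from h2) k)
    exact (mem_centralizer_iff.1 (h1 hv)) _ (mem_zpowers _)
  have hQV : ∀ g ∈ Q, ∀ v ∈ V, g * v = v * g := fun g hg v hv => mem_c.1 (mem_inf.1 hg).2 v hv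
  have hAQ : ∀ a ∈ A, ∀ g ∈ Q, a * g * a⁻¹ ∈ Q := fun a ha g hg => by
    have := conj_cj (g := a) hg
    rwa [cj_eq_of_mem_normalizer (h.T_norm_Q (hAT ha))] at this
  by_cases hcase : ∀ α ∈ A0, f * α = α * f
  · -- (i)
    have hE1 : A0 ⊔ N c ∈ AA O := by
      refine swap_mem hA (h.Neab c) (h.NO c) ?_
      rw [hF.inf_eq (h.lN c) (h.lne c), hF.cardA, h.cardN c]
      exact le_of_eq (by ring)
    have hfz : zpowers f ≤ E c := by rwa [zpowers_le]
    have hfE1 : f ∈ A0 ⊔ N c := by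
      refine cent_le hE1 (eab_mono (h.eab c hc) hfz) (hfz.trans (h.EO c hc)) (mem_inf.2 ⟨mem_zpowers f, ?_⟩)
      rw [mem_c]
      intro x hx
      have hcA : ∀ α ∈ A0, ∀ n ∈ N c, α * n = n * α := fun α hα n hn => mem_c.1 (mem_inf.1 hα).2 n hn
      obtain ⟨α, hα, n, hn, rfl⟩ := mem_sup_comm hcA hx
      rw [← mul_assoc, hcase α hα, mul_assoc, hQV f hfQ n (hNV c hn), mul_assoc]
    have hcA : ∀ α ∈ A0, ∀ n ∈ N c, α * n = n * α := fun α hα n hn => mem_c.1 (mem_inf.1 hα).2 n hn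
    obtain ⟨α, hα, n, hn, hfan⟩ := mem_sup_comm hcA hfE1
    have hAf : ∀ a ∈ A, a * f * a⁻¹ * f⁻¹ ∈ l c := by
      intro a ha
      have e1 : a * α = α * a := eab_comm hA.1 ha (mem_inf.1 hα).1
      have e2 : a * (α * n) * a⁻¹ * (α * n)⁻¹ = α * (a * n * a⁻¹ * n⁻¹) * α⁻¹ := by
        calc a * (α * n) * a⁻¹ * (α * n)⁻¹ = (a * α) * n * a⁻¹ * n⁻¹ * α⁻¹ := by group
          _ = (α * a) * n * a⁻¹ * n⁻¹ * α⁻¹ := by rw [e1]
          _ = _ := by group
      rw [hfan, e2]
      have h1 := hF.inl a ha n hn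
      rw [hcA α hα _ (h.lN c h1), mul_inv_cancel_right]
      exact h1
    have hw1 : ∀ g ∈ Q, f * g * f⁻¹ * g⁻¹ = 1 := by
      intro g hg
      by_contra hw
      set w := f * g * f⁻¹ * g⁻¹ with hwdef
      have hwy := hy g hg
      have hwl : w ∉ l c := fun h1 => hw (by
        have : w ∈ cj m (l c) ⊓ l c := mem_inf.2 ⟨hwy, h1⟩
        rwa [hml, mem_bot] at this)
      obtain ⟨z, hz, hz1⟩ := exists_ne_of (h.lne c)
      obtain ⟨a, ha, haz⟩ := hF.onA w (hyN hwy) hwl z hz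
      have h1 : a * w * a⁻¹ ∈ cj m (l c) := by
        obtain ⟨z', hz', hzf⟩ : ∃ z' ∈ l c, a * f * a⁻¹ = z' * f := ⟨_, hAf a ha, by group⟩
        have hz'V : z' ∈ V := hNV c (h.lN c hz')
        have hg' := hAQ a ha g hg
        have e1 : a * w * a⁻¹ = (a * f * a⁻¹) * (a * g * a⁻¹) * (a * f * a⁻¹)⁻¹ * (a * g * a⁻¹)⁻¹ := by
          rw [hwdef]; group
        set g' := a * g * a⁻¹ with hg'def
        have e2 : z' * f * g' * (z' * f)⁻¹ * g'⁻¹ = z' * (f * g' * f⁻¹ * g'⁻¹) * z'⁻¹ := by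
          have e3 : z'⁻¹ * g'⁻¹ = g'⁻¹ * z'⁻¹ := (show Commute z' g' from (hQV g' hg' z' hz'V).symm).inv_inv.eq
          calc z' * f * g' * (z' * f)⁻¹ * g'⁻¹ = z' * f * g' * f⁻¹ * (z'⁻¹ * g'⁻¹) := by group
            _ = _ := by rw [e3]; group
        rw [e1, hzf, e2]
        have h2 := hy g' hg'
        have h3 : (f * g' * f⁻¹ * g'⁻¹) ∈ V := hNV c (hyN h2)
        rw [mem_c.1 (h.com c c (h.lN c hz')) _ (hyN h2), mul_inv_cancel_right]
        exact h2
      have h2 : z ∈ cj m (l c) ⊓ l c := by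
        refine mem_inf.2 ⟨?_, hz⟩
        rw [← haz]
        exact mul_mem h1 (inv_mem hwy)
      rw [hml, mem_bot] at h2
      exact hz1 h2
    -- back to `e`
    have h1 : m * g0 * m⁻¹ ∈ Q := by
      have := conj_cj (g := m) hg0
      rwa [cj_eq_of_mem_normalizer hmQ] at this
    have h2 := comm_of_one (hw1 _ h1)
    have e1 : g0 * e = m⁻¹ * ((m * g0 * m⁻¹) * f) * m := by rw [hf]; group
    have e2 : e * g0 = m⁻¹ * (f * (m * g0 * m⁻¹)) * m := by rw [hf]; group
    rw [e1, e2, h2]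
  · -- (ii)
    exfalso
    push Not at hcase
    obtain ⟨α, hα, hαf⟩ := hcase
    set X' : Subgroup G := N c ⊔ closure {x | ∃ a ∈ A, a * f * a⁻¹ = x} with hX'
    have hAE : ∀ a ∈ A, ∀ x ∈ E c, a * x * a⁻¹ ∈ E c := fun a ha x hx => by
      have := conj_cj (g := a) hx
      rwa [h.cjE hc (h.TR (hAT ha))] at this
    have hX'E : X' ≤ E c := by
      refine sup_le (h.NE c hc) ((closure_le _).2 ?_)
      rintro _ ⟨a, ha, rfl⟩
      exact hAE a ha f hfE
    have hX'eab := eab_mono (h.eab c hc) hX'E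
    have hfX : ∀ a ∈ A, a * f * a⁻¹ ∈ X' := fun a ha => le_sup_right (a := N c) (subset_closure ⟨a, ha, rfl⟩)
    have hthom := thom hA hX'eab (hX'E.trans (h.EO c hc))
    -- `|A₀| ≤ |A₁| q`
    have hcomm : ∀ β ∈ A0, ∀ v ∈ N c, β * v = v * β := fun β hβ v hv => mem_c.1 (mem_inf.1 hβ).2 v hv
    let φ : A0 →* G :=
      { toFun := fun β => f * β * f⁻¹ * (β : G)⁻¹
        map_one' := by simp
        map_mul' := by
          intro β γ
          have h1 : f * γ * f⁻¹ * (γ : G)⁻¹ ∈ N c := hyN (hy _ (hA0Q γ.2))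
          have h2 := hcomm β β.2 _ h1
          have e1 : f * ((β : G) * (γ : G)) * f⁻¹ * ((β : G) * (γ : G))⁻¹ =
              (f * β * f⁻¹ * (β : G)⁻¹) * (β * (f * γ * f⁻¹ * (γ : G)⁻¹) * (β : G)⁻¹) := by group
          show f * ((β : G) * (γ : G)) * f⁻¹ * ((β : G) * (γ : G))⁻¹ = _
          rw [e1, h2, mul_inv_cancel_right] }
    have hA1 : Nat.card A0 ≤ Nat.card ↥(A0 ⊓ centralizer ((zpowers f : Subgroup G) : Set G)) * Nat.card (l c) := by
      have h1 := card_ker_range φ (C := centralizer ((zpowers f : Subgroup G) : Set G)) (D := cj m (l c)) ?_ ?_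
      · rwa [card_cj] at h1
      · intro β hβ
        have h2 : f * β = β * f := comm_of_one hβ
        rw [mem_centralizer_iff]
        rintro _ ⟨k, rfl⟩
        exact (Commute.zpow_left (show Commute f (β : G) from h2) k)
      · exact fun β => hy _ (hA0Q β.2)
    have hA1X : A0 ⊓ centralizer ((zpowers f : Subgroup G) : Set G) ≤ A ⊓ centralizer (X' : Set G) := by
      intro β hβ
      obtain ⟨hβ0, hβf⟩ := mem_inf.1 hβ
      refine mem_inf.2 ⟨(mem_inf.1 hβ0).1, ?_⟩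
      have hbf : f * β = β * f := (mem_c.1 hβf f (mem_zpowers f)).symm
      have h1 : X' ≤ centralizer ((zpowers β : Subgroup G) : Set G) := by
        have key : ∀ w, β * w = w * β → w ∈ centralizer ((zpowers β : Subgroup G) : Set G) := by
          intro w hw
          rw [mem_centralizer_iff]
          rintro _ ⟨k, rfl⟩
          exact (Commute.zpow_left (show Commute β w from hw) k)
        refine sup_le (fun w hw => key w (hcomm β hβ0 w hw)) ((closure_le _).2 ?_)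
        rintro _ ⟨a, ha, rfl⟩
        refine key _ ?_
        have e1 : β * a = a * β := eab_comm hA.1 (mem_inf.1 hβ0).1 ha
        have e2 : a⁻¹ * β = β * a⁻¹ := eab_comm hA.1 (inv_mem ha) (mem_inf.1 hβ0).1
        calc β * (a * f * a⁻¹) = (β * a) * f * a⁻¹ := by group
          _ = a * (β * f) * a⁻¹ := by rw [e1]; group
          _ = a * f * (β * a⁻¹) := by rw [← hbf]; group
          _ = a * f * a⁻¹ * β := by rw [← e2]; group
      rw [mem_c]
      intro x hx
      exact (mem_centralizer_iff.1 (h1 hx)) _ (mem_zpowers _)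
    -- `|X'| ≥ 2 q² |C_X'(A)|`
    have hαT : α ∈ T := hAT (mem_inf.1 hα).1
    have hαE : ∀ x ∈ E c, α * x * α⁻¹ ∈ E c := hAE α (mem_inf.1 hα).1
    let θ : X' →* G :=
      { toFun := fun x => x * (α * (x : G)⁻¹ * α⁻¹)
        map_one' := by simp
        map_mul' := by
          intro x y
          have h1 : α * (x : G)⁻¹ * α⁻¹ ∈ E c := hαE _ (inv_mem (hX'E x.2))
          have h2 : α * (y : G)⁻¹ * α⁻¹ ∈ E c := hαE _ (inv_mem (hX'E y.2))
          have h3 := eab_comm (h.eab c hc) (mul_mem (hX'E y.2) h2) h1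
          show (x : G) * y * (α * ((x : G) * y)⁻¹ * α⁻¹) = _
          calc (x : G) * y * (α * ((x : G) * y)⁻¹ * α⁻¹)
              = x * ((y * (α * (y : G)⁻¹ * α⁻¹)) * (α * (x : G)⁻¹ * α⁻¹)) := by group
            _ = x * ((α * (x : G)⁻¹ * α⁻¹) * (y * (α * (y : G)⁻¹ * α⁻¹))) := by rw [h3]
            _ = _ := by group }
    set μ := f * α * f⁻¹ * α⁻¹ with hμ
    have hμy : μ ∈ cj m (l c) := hy α (hA0Q hα)
    have hμ1 : μ ≠ 1 := fun h1 => hαf (comm_of_one h1)
    have hμl : μ ∉ l c := fun h1 => hμ1 (by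
      have : μ ∈ cj m (l c) ⊓ l c := mem_inf.2 ⟨hμy, h1⟩
      rwa [hml, mem_bot] at this)
    have hθf : ∀ a ∈ A, ∀ ha : a * f * a⁻¹ ∈ X', θ ⟨a * f * a⁻¹, ha⟩ = a * μ * a⁻¹ := by
      intro a ha haX
      show (a * f * a⁻¹) * (α * (a * f * a⁻¹)⁻¹ * α⁻¹) = a * μ * a⁻¹
      have e1 : α * a = a * α := eab_comm hA.1 (mem_inf.1 hα).1 ha
      have e2 : a⁻¹ * α⁻¹ = α⁻¹ * a⁻¹ := eab_comm hA.1 (inv_mem ha) (inv_mem (mem_inf.1 hα).1)
      calc (a * f * a⁻¹) * (α * (a * f * a⁻¹)⁻¹ * α⁻¹)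
          = a * f * a⁻¹ * (α * a) * f⁻¹ * (a⁻¹ * α⁻¹) := by group
        _ = a * μ * a⁻¹ := by rw [e1, e2, hμ]; group
    set D := θ.range with hD
    have hμD : μ ∈ D := by
      have h1 : (1 : G) * f * (1 : G)⁻¹ ∈ X' := hfX 1 (one_mem A)
      refine ⟨⟨_, h1⟩, ?_⟩
      rw [hθf 1 (one_mem A) h1, one_mul, inv_one, mul_one]
    have hlD : l c ≤ D := by
      intro z hz
      obtain ⟨a, ha, haz⟩ := hF.onA μ (hyN hμy) hμl z hz
      rw [← haz]
      exact mul_mem ⟨⟨_, hfX a ha⟩, hθf a ha _⟩ (inv_mem hμD)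
    have hD2 : 2 * Nat.card (l c) ≤ Nat.card D := by
      obtain ⟨k, hk⟩ := Subgroup.card_dvd_of_le hlD
      have h1 : k ≠ 1 := by
        rintro rfl
        rw [mul_one] at hk
        exact hμl ((Subgroup.eq_of_le_of_card_ge hlD hk.le).ge hμD)
      have h2 : k ≠ 0 := by
        rintro rfl
        rw [mul_zero] at hk
        exact Nat.card_pos.ne' hk
      rw [hk, mul_comm]
      exact Nat.mul_le_mul_left _ (by omega)
    have hX1 : Nat.card ↥(X' ⊓ centralizer ((zpowers α : Subgroup G) : Set G)) * Nat.card D ≤ Nat.card X' := by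
      refine card_ker_range' θ ?_ (fun d hd => hd)
      intro x hx
      have h1 : (x : G) * α = α * x := mem_c.1 hx α (mem_zpowers α)
      have h2 : α * (x : G)⁻¹ = (x : G)⁻¹ * α := (show Commute α (x : G) from h1.symm).inv_right.eq
      show (x : G) * (α * (x : G)⁻¹ * α⁻¹) = 1
      rw [h2]
      group
    have hX2 : Nat.card (l c) * Nat.card ↥(X' ⊓ centralizer (A : Set G)) ≤
        Nat.card ↥(X' ⊓ centralizer ((zpowers α : Subgroup G) : Set G)) := by
      have h1 : X' ⊓ centralizer (A : Set G) ≤ centralizer (N c : Set G) := fun x hx =>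
        mem_c.2 fun v hv => eab_comm hX'eab (mem_inf.1 hx).1 (le_sup_left (a := N c) hv)
      have h2 := Cfsg.Agent.PLocal.ElemAbSup.card_sup_mul_card_inf h1
      have h3 : N c ⊓ (X' ⊓ centralizer (A : Set G)) = l c := by
        rw [← inf_assoc, inf_eq_left.2 (le_sup_left : N c ≤ X'), hF.inf_eq (h.lN c) (h.lne c)]
      rw [h3, h.cardN c] at h2
      have h4 : N c ⊔ (X' ⊓ centralizer (A : Set G)) ≤ X' ⊓ centralizer ((zpowers α : Subgroup G) : Set G) := by
        have h5 : zpowers α ≤ A := by rw [zpowers_le]; exact (mem_inf.1 hα).1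
        refine sup_le (le_inf le_sup_left fun v hv => ?_) (inf_le_inf_left _ (centralizer_le h5))
        rw [mem_centralizer_iff]
        rintro _ ⟨k, rfl⟩
        exact (Commute.zpow_left (show Commute α v from hcomm α hα v hv) k)
      have h6 := Subgroup.card_le_of_le h4
      refine le_trans ?_ h6
      have h7 : 0 < Nat.card (l c) := Nat.card_pos
      refine Nat.le_of_mul_le_mul_right ?_ h7
      rw [h2]
      exact le_of_eq (by ring)
    -- the contradiction
    have hAc' : Nat.card A ≤ Nat.card ↥(A ⊓ centralizer (X' : Set G)) * Nat.card (l c) * Nat.card (l c) := by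
      rw [hF.cardA]
      exact Nat.mul_le_mul_right _ (hA1.trans (Nat.mul_le_mul_right _ (Subgroup.card_le_of_le hA1X)))
    have hp1 : 0 < Nat.card ↥(A ⊓ centralizer (X' : Set G)) := Nat.card_pos
    have hp2 : 0 < Nat.card ↥(X' ⊓ centralizer (A : Set G)) := Nat.card_pos
    have hp3 : 0 < Nat.card (l c) := Nat.card_pos
    have hfin : Nat.card X' ≤ Nat.card (l c) * Nat.card (l c) * Nat.card ↥(X' ⊓ centralizer (A : Set G)) := by
      refine Nat.le_of_mul_le_mul_right ?_ hp1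
      calc Nat.card X' * Nat.card ↥(A ⊓ centralizer (X' : Set G))
          ≤ Nat.card A * Nat.card ↥(X' ⊓ centralizer (A : Set G)) := hthom
        _ ≤ (Nat.card ↥(A ⊓ centralizer (X' : Set G)) * Nat.card (l c) * Nat.card (l c)) *
            Nat.card ↥(X' ⊓ centralizer (A : Set G)) := Nat.mul_le_mul_right _ hAc'
        _ = _ := by ring
    have hlow : 2 * (Nat.card (l c) * Nat.card (l c) * Nat.card ↥(X' ⊓ centralizer (A : Set G))) ≤ Nat.card X' := by
      calc 2 * (Nat.card (l c) * Nat.card (l c) * Nat.card ↥(X' ⊓ centralizer (A : Set G)))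
          = (Nat.card (l c) * Nat.card ↥(X' ⊓ centralizer (A : Set G))) * (2 * Nat.card (l c)) := by ring
        _ ≤ Nat.card ↥(X' ⊓ centralizer ((zpowers α : Subgroup G) : Set G)) * Nat.card D := Nat.mul_le_mul hX2 hD2
        _ ≤ _ := hX1
    have hp4 : 0 < Nat.card (l c) * Nat.card (l c) * Nat.card ↥(X' ⊓ centralizer (A : Set G)) :=
      Nat.mul_pos (Nat.mul_pos hp3 hp3) hp2
    omega

end Fr

end Cfsg.Agent.Omega.NOThreeL.RWide.UniT
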