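import Cfsg.Agent.Omega.SQ1.FFKNat
import Cfsg.Agent.Omega.SQ1.FFOf
import Cfsg.Agent.Omega.SQ1.SymCyc

/-!
# `cT_le`: part F of the uniqueness of blocks in the left case (#27055 (6))

`R` a minimal parabolic over `T`, `U = zl T R`; a module `Y` with a line `l ≤ U` on which an offender `A` of `U`
acts with full transvections: `T ∩ C(Y) ≤ O₂(R)`.
-/

set_option autoImplicit false
set_option linter.unusedSectionVars false
set_option linter.unusedVariables false

namespace Cfsg.Agent.Omega.NOThreeL.RWide.UniT.FF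

open Subgroup Cfsg Cfsg.Agent.ZN Cfsg.Agent.ZN.ChoiceBase Cfsg.Agent.ZN.ChoiceSit
open Cfsg.Agent.Omega.NatPair Cfsg.Agent.Lib.SL2Mat
open Cfsg.Agent.Omega.SQ1.FFOne (MinH minH_of mem_norm_of)
open Cfsg.Agent.Omega.SQ1.FFOf (cv_le cv_norm)
open Cfsg.Agent.Omega.FFThm
open Cfsg.Agent.Omega.FrameFF (cv)
open Cfsg.Agent.MinSimple.MinParabolic (IsMinPar)
open Cfsg.Agent.MinSimple.VModule (oddGen mem_oddGen oddGen_def oddGen_le_of_sup le_normalizer_oddGen
  oddGen_le)

universe u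

variable {G : Type u} [Group G]

/-! ### Coordinates -/

section add

variable {U : Subgroup G} {M : Type*} [AddGroup M] {e : G → M}

theorem e_one (h : ∀ v ∈ U, ∀ w ∈ U, e (v * w) = e v + e w) : e 1 = 0 := by
  have := h 1 (one_mem U) 1 (one_mem U)
  rw [one_mul] at this
  exact left_eq_add.1 this

theorem e_inv (h : ∀ v ∈ U, ∀ w ∈ U, e (v * w) = e v + e w) {v : G} (hv : v ∈ U) : e v⁻¹ = - e v := by
  have := h v hv v⁻¹ (inv_mem hv)
  rw [mul_inv_cancel, e_one h] at this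
  exact (neg_eq_of_add_eq_zero_right this.symm).symm

theorem e_div (h : ∀ v ∈ U, ∀ w ∈ U, e (v * w) = e v + e w) {v w : G} (hv : v ∈ U) (hw : w ∈ U) :
    e (v * w⁻¹) = e v - e w := by
  rw [h v hv w⁻¹ (inv_mem hw), e_inv h hw, sub_eq_add_neg]

end add

/-! ### Elementary facts -/

variable [Finite G] {T R Y l A : Subgroup G}

private theorem oddGen_sup_syl {P S : Subgroup G} (hS : Syl S P) : oddGen P ⊔ S = P := by
  have : Fact (Nat.Prime 2) := ⟨Nat.prime_two⟩
  have hSyl := syl_not_dvd hS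
  apply le_antisymm (sup_le (oddGen_le P) hS.1)
  have hN : ((oddGen P).subgroupOf P).Normal :=
    normal_subgroupOf_of_le_normalizer (le_normalizer_oddGen P)
  have h1 : IsPGroup 2 (P ⧸ (oddGen P).subgroupOf P) := by
    intro q
    obtain ⟨x, rfl⟩ := QuotientGroup.mk_surjective q
    obtain ⟨a, m, hm, ha⟩ := Nat.exists_eq_pow_mul_and_not_dvd (orderOf_pos (x : G)).ne' 2 (by norm_num)
    refine ⟨a, ?_⟩
    rw [← QuotientGroup.mk_pow, QuotientGroup.eq_one_iff, mem_subgroupOf]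
    refine mem_oddGen (P.pow_mem x.2 _) ?_
    have hm0 : 0 < m := Nat.pos_of_ne_zero (by rintro rfl; simp at hm)
    have h2 : orderOf ((x : G) ^ 2 ^ a) = m := by
      rw [orderOf_pow_of_dvd (by positivity) (ha ▸ Dvd.intro _ rfl), ha,
        Nat.mul_div_cancel_left _ (by positivity)]
    rw [coe_pow, h2]
    exact Nat.not_even_iff_odd.1 fun h => hm h.two_dvd
  obtain ⟨k, hk⟩ := IsPGroup.iff_card.1 h1
  have h2 : (oddGen P ⊔ S).relIndex P ∣ 2 ^ k := by
    have h3 : (oddGen P ⊔ S).relIndex P ∣ (oddGen P).relIndex P := relIndex_dvd_of_le_left _ le_sup_left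
    have h4 : (oddGen P).relIndex P = 2 ^ k := by
      rw [← hk, relIndex, index_eq_card]
    rwa [h4] at h3
  obtain ⟨j, -, hj⟩ := (Nat.dvd_prime_pow Nat.prime_two).1 h2
  have h5 : (oddGen P ⊔ S).relIndex P ∣ S.relIndex P := relIndex_dvd_of_le_left _ le_sup_right
  rw [hj] at h5
  rcases Nat.eq_zero_or_pos j with rfl | hj0
  · rw [pow_zero] at hj
    exact relIndex_eq_one.1 hj
  · exact absurd ((dvd_pow_self 2 hj0.ne').trans h5) hSyl

/-- The elementary facts on `U = zl T R`. -/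
structure Bas (T R : Subgroup G) : Prop where
  hm : MinH R T
  Un : ∀ h ∈ R, ∀ v ∈ zl T R, h * v * h⁻¹ ∈ zl T R
  Usq : ∀ v ∈ zl T R, v ^ 2 = 1
  UcQ : ∀ x ∈ o2 R, ∀ v ∈ zl T R, x * v = v * x

theorem Bas.of (hT : Syl T R) (hP : IsMinPar T R) (hc : R ⊓ centralizer (o2 R : Set G) ≤ o2 R) :
    Bas T R where
  hm := minH_of hT hP hc
  Un h hh v hv := (mem_normalizer_iff.1 (MinSimple.VModule.le_normalizer_zl T R hh) v).1 hv
  Usq v hv := (ChoiceBase.mem_zc.1
    (MinSimple.VModule.zl_le_zc hT.1 hT.2.1 (syl_not_dvd hT) hc hv)).2.1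
  UcQ x hx v hv := by
    have := (ChoiceBase.mem_zc.1
      (MinSimple.VModule.zl_le_zc hT.1 hT.2.1 (syl_not_dvd hT) hc hv)).2.2 x hx
    exact this

/-- A point of `Z(T)` which `R` moves. -/
structure Mov (T R : Subgroup G) (z : G) : Prop where
  mem : z ∈ zl T R
  cen : ∀ t ∈ T, t * z = z * t
  mov : ¬ ∀ r ∈ R, r * z = z * r

theorem Mov.not_odd {z : G} (hz : Mov T R z) (hT : Syl T R) : ¬ ∀ x ∈ oddGen R, x * z = z * x := by
  intro h
  apply hz.mov
  intro r hr
  have h1 : R ≤ centralizer ({z} : Set G) := by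
    conv_lhs => rw [← oddGen_sup_syl hT]
    exact sup_le (fun x hx => mem_centralizer_singleton_iff.2 (h x hx))
      fun x hx => mem_centralizer_singleton_iff.2 (hz.cen x hx)
  exact mem_centralizer_singleton_iff.1 (h1 hr)

theorem Mov.not_cv {z : G} (hz : Mov T R z) (hT : Syl T R) : z ∉ cv T R := fun h =>
  hz.not_odd hT fun x hx => mem_centralizer_iff.1 h.2 x hx

/-- Elements of `T` which are trivial on `U / D` lie in `O₂(R)`. -/
theorem Bas.mem_o2 (h : Bas T R) {z t : G} (hz : Mov T R z) (ht : t ∈ T)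
    (hD : ∀ u ∈ zl T R, t * u * t⁻¹ * u⁻¹ ∈ cv T R) : t ∈ o2 R := by
  have hT := h.hm.syl
  let N : Subgroup G :=
    { carrier := {x | x ∈ R ∧ ∀ u ∈ zl T R, x * u * x⁻¹ * u⁻¹ ∈ cv T R}
      mul_mem' := by
        rintro x y ⟨hx, hx'⟩ ⟨hy, hy'⟩
        refine ⟨mul_mem hx hy, fun u hu => ?_⟩
        have e : x * y * u * (x * y)⁻¹ * u⁻¹ =
            (x * (y * u * y⁻¹) * x⁻¹ * (y * u * y⁻¹)⁻¹) * (y * u * y⁻¹ * u⁻¹) := by group
        rw [e]
        exact mul_mem (hx' _ (h.Un y hy u hu)) (hy' u hu)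
      one_mem' := by
        refine ⟨one_mem R, fun u hu => ?_⟩
        rw [one_mul, inv_one, mul_one, mul_inv_cancel]
        exact one_mem _
      inv_mem' := by
        rintro x ⟨hx, hx'⟩
        refine ⟨inv_mem hx, fun u hu => ?_⟩
        have h1 := inv_mem (hx' _ (h.Un x⁻¹ (inv_mem hx) u hu))
        have e : (x * (x⁻¹ * u * x⁻¹⁻¹) * x⁻¹ * (x⁻¹ * u * x⁻¹⁻¹)⁻¹)⁻¹ =
            x⁻¹ * u * x⁻¹⁻¹ * u⁻¹ := by group
        rwa [e] at h1 }
  have hNR : N ≤ R := fun x hx => hx.1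
  have hNn : ∀ g ∈ R, ∀ x ∈ N, g * x * g⁻¹ ∈ N := by
    rintro g hg x ⟨hx, hx'⟩
    refine ⟨mul_mem (mul_mem hg hx) (inv_mem hg), fun u hu => ?_⟩
    have h1 := cv_norm g hg _ (hx' _ (h.Un g⁻¹ (inv_mem hg) u hu))
    have e : g * (x * (g⁻¹ * u * g⁻¹⁻¹) * x⁻¹ * (g⁻¹ * u * g⁻¹⁻¹)⁻¹) * g⁻¹ =
        g * x * g⁻¹ * u * (g * x * g⁻¹)⁻¹ * u⁻¹ := by group
    rwa [e] at h1
  have hne : N ⊔ T ≠ R := by
    intro e
    have h1 : oddGen R ≤ N := oddGen_le_of_sup (fun g hg => mem_norm_of (hNn g hg)) e.ge hT.1 hNR hT.2.1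
    apply hz.not_odd hT
    have h2 : oddGen R ≤ centralizer ({z} : Set G) := by
      rw [oddGen_def, closure_le]
      rintro x ⟨hx, ho⟩
      have hxo : x ∈ oddGen R := mem_oddGen hx ho
      obtain ⟨-, hx2⟩ := h1 hxo
      have hd := hx2 z hz.mem
      set d := x * z * x⁻¹ * z⁻¹ with hdd
      have hxd : x * d = d * x := mem_centralizer_iff.1 hd.2 x hxo
      have hd2 : d ^ 2 = 1 := h.Usq d hd.1
      have hxz : x * z = d * z * x := by rw [hdd]; group
      have hn : ∀ n : ℕ, x ^ n * z = d ^ n * z * x ^ n := by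
        intro n
        induction n with
        | zero => simp
        | succ n ih =>
          have hc : Commute x (d ^ n) := (show Commute x d from hxd).pow_right n
          calc x ^ (n + 1) * z = x * (x ^ n * z) := by rw [pow_succ']; group
            _ = x * d ^ n * z * x ^ n := by rw [ih]; group
            _ = d ^ n * (x * z) * x ^ n := by rw [hc.eq]; group
            _ = d ^ (n + 1) * z * x ^ (n + 1) := by rw [hxz, pow_succ, pow_succ' x]; group
      have h3 := hn (orderOf x)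
      rw [pow_orderOf_eq_one, one_mul, mul_one] at h3
      have h4 : d ^ orderOf x = 1 := (mul_eq_right.1 h3.symm)
      obtain ⟨k, hk⟩ := ho
      rw [hk, pow_succ, pow_mul, hd2, one_pow, one_mul] at h4
      rw [h4, one_mul] at hxz
      exact mem_centralizer_singleton_iff.2 hxz
    exact fun x hx => mem_centralizer_singleton_iff.1 (h2 hx)
  exact h.hm.inf_le hNR hNn hne ⟨ht, hT.1 ht, hD⟩

/-! ### Sums of natural modules -/

section nat

variable {F : Type} [Field F] {k : ℕ}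

/-- `g` acts as an upper unitriangular element of `SL₂(F)^k` on `U / D`. -/
def Ac (e : G → Fin k → Fin 2 → F) (U : Subgroup G) (g : G) (b : Fin k → F) : Prop :=
  ∀ v ∈ U, ∀ i, e (g * v * g⁻¹) i = ap (up (b i)) (e v i)

theorem Ac.mul {e : G → Fin k → Fin 2 → F} {U : Subgroup G} {g h : G} {b c : Fin k → F}
    (hb : Ac e U g b) (hc : Ac e U h c) (hh : ∀ v ∈ U, h * v * h⁻¹ ∈ U) : Ac e U (g * h) (b + c) := by
  intro v hv i
  have e1 : g * h * v * (g * h)⁻¹ = g * (h * v * h⁻¹) * g⁻¹ := by group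
  rw [e1, hb _ (hh v hv) i, hc v hv i, ← ap_mul, up_mul, Pi.add_apply]

theorem Ac.inv {e : G → Fin k → Fin 2 → F} {U : Subgroup G} {g : G} {b : Fin k → F}
    (hb : Ac e U g b) (hh : ∀ v ∈ U, g⁻¹ * v * g⁻¹⁻¹ ∈ U) : Ac e U g⁻¹ (-b) := by
  intro v hv i
  have h1 := hb _ (hh v hv) i
  have e1 : g * (g⁻¹ * v * g⁻¹⁻¹) * g⁻¹ = v := by group
  rw [e1] at h1
  rw [h1, Pi.neg_apply, ← up_inv, ap_inv_ap]

theorem ap_up' (a : F) (x : Fin 2 → F) : ap (up a) x - x = ![a * x 1, 0] := by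
  apply ext2
  · rw [Pi.sub_apply, ap_zero', up_00, up_01]
    show 1 * x 0 + a * x 1 - x 0 = a * x 1
    ring
  · rw [Pi.sub_apply, ap_one', up_10, up_11]
    show 0 * x 0 + 1 * x 1 - x 1 = 0
    ring

end nat

theorem nat_le {F : Type} [Field F] [Finite F] [CharP F 2] {k : ℕ} (h : Bas T R)
    (M : NatK F T R (zl T R) (cv T R) k) (hA : A ≤ T) (hoff : Off (zl T R) A)
    (TY : T ≤ normalizer (Y : Set G)) (hl : l ≤ zl T R) {z : G} (hzl : z ∈ l) (hz : Mov T R z)
    (cov : ∀ v ∈ Y, ∃ u ∈ zl T R, ∃ c ∈ centralizer (A : Set G), v = u * c)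
    (inl : ∀ a ∈ A, ∀ v ∈ Y, a * v * a⁻¹ * v⁻¹ ∈ l)
    (full : ∀ a ∈ A, a ∉ centralizer (Y : Set G) → ∀ z ∈ l, ∃ v ∈ Y, z = a * v * a⁻¹ * v⁻¹)
    (hne : ¬ A ≤ centralizer (Y : Set G)) (hQ : o2 R ≤ centralizer (Y : Set G)) :
    T ⊓ centralizer (Y : Set G) ≤ o2 R := by
  classical
  have hT := h.hm.syl
  have hTR : ∀ t ∈ T, t ∈ R := fun t ht => hT.1 ht
  obtain ⟨I, h1, h2⟩ := M.off A hA hoff
  have UT : ∀ t ∈ T, ∀ v ∈ zl T R, t * v * t⁻¹ ∈ zl T R := fun t ht => h.Un t (hTR t ht)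
  have key : ∀ t ∈ T, (∀ v ∈ zl T R, M.e (t * v * t⁻¹) = M.e v) → t ∈ o2 R := by
    intro t ht h0
    refine h.mem_o2 hz ht fun u hu => ?_
    rw [← M.ker _ (mul_mem (UT t ht u hu) (inv_mem hu)), e_div M.mul (UT t ht u hu) hu, h0 u hu,
      sub_self]
  -- commutators of `A` on `Y` come from `U`
  have hcom : ∀ v ∈ Y, ∃ u ∈ zl T R, ∀ a ∈ A, a * v * a⁻¹ * v⁻¹ = a * u * a⁻¹ * u⁻¹ := by
    intro v hv
    obtain ⟨u, hu, c, hc, rfl⟩ := cov v hv
    refine ⟨u, hu, fun a ha => ?_⟩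
    have h3 : a * c = c * a := mem_centralizer_iff.1 hc a ha
    calc a * (u * c) * a⁻¹ * (u * c)⁻¹ = a * u * (c * a⁻¹) * c⁻¹ * u⁻¹ := by group
      _ = a * u * (a⁻¹ * (a * c) * a⁻¹) * c⁻¹ * u⁻¹ := by group
      _ = a * u * a⁻¹ * u⁻¹ := by rw [h3]; group
  -- step A
  have stepA : ∀ s : Finset (Fin k), ∀ a ∈ A, a ∉ centralizer (Y : Set G) → ∀ b : Fin k → F,
      (∀ i, i ∉ I → b i = 0) → (∀ i, i ∉ s → b i = 0) → Ac M.e (zl T R) a b →
      ∃ i ∈ I, ∃ c : F, ∃ a' ∈ A, a' ∉ centralizer (Y : Set G) ∧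
        Ac M.e (zl T R) a' (Pi.single i c) := by
    intro s
    induction s using Finset.induction_on with
    | empty =>
      intro a ha haY b hbI hbs hab
      exfalso
      apply haY
      apply hQ
      refine key a (hA ha) fun v hv => ?_
      funext i
      rw [hab v hv i, hbs i (by simp), up_zero, ap_one]
    | insert j s hj ih =>
      intro a ha haY b hbI hbs hab
      by_cases hjI : j ∈ I
      · obtain ⟨a₁, ha₁, hact⟩ := h2 (Pi.single j (b j)) fun i hi => by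
          rw [Pi.single_eq_of_ne (by rintro rfl; exact hi hjI)]
        by_cases hc : a₁ ∈ centralizer (Y : Set G)
        · have h3 : Ac M.e (zl T R) (a₁⁻¹ * a) (-(Pi.single j (b j)) + b) :=
            Ac.mul (Ac.inv (show Ac M.e (zl T R) a₁ (Pi.single j (b j)) from hact.1)
              (UT _ (inv_mem (hA ha₁)))) hab (UT _ (hA ha))
          refine ih (a₁⁻¹ * a) (mul_mem (inv_mem ha₁) ha) (fun h4 => haY ?_) _ (fun i hi => ?_)
            (fun i hi => ?_) h3
          · have := mul_mem hc h4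
            rwa [mul_inv_cancel_left] at this
          · rw [Pi.add_apply, Pi.neg_apply, hbI i hi,
              Pi.single_eq_of_ne (by rintro rfl; exact hi hjI)]
            simp
          · rw [Pi.add_apply, Pi.neg_apply]
            by_cases hij : i = j
            · subst hij
              rw [Pi.single_eq_same, neg_add_cancel]
            · rw [Pi.single_eq_of_ne hij, hbs i (by simp [hij, hi])]
              simp
        · exact ⟨j, hjI, b j, a₁, ha₁, hc, hact.1⟩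
      · refine ih a ha haY b hbI (fun i hi => ?_) hab
        by_cases hij : i = j
        · subst hij
          exact hbI i hjI
        · exact hbs i (by simp [hij, hi])
  obtain ⟨a₀, ha₀, ha₀Y⟩ := SetLike.not_le_iff_exists.1 hne
  obtain ⟨b₀, hb₀, hab₀⟩ := h1 a₀ ha₀
  obtain ⟨i, hiI, c, a, ha, haY, hac⟩ := stepA Finset.univ a₀ ha₀ ha₀Y b₀ hb₀ (by simp) hab₀.1
  -- step B
  obtain ⟨v, hv, ezv⟩ := full a ha haY z hzl
  obtain ⟨u, hu, hvu⟩ := hcom v hv
  have hecomm : ∀ (a' : G) (b : Fin k → F), a' ∈ A → Ac M.e (zl T R) a' b → ∀ j,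
      M.e (a' * v * a'⁻¹ * v⁻¹) j = ![b j * M.e u j 1, 0] := by
    intro a' b ha' hb j
    rw [hvu a' ha', e_div M.mul (UT a' (hA ha') u hu) hu, Pi.sub_apply, hb u hu j, ap_up']
  have hz0 : M.e z ≠ 0 := fun h0 => hz.not_cv hT ((M.ker z hz.mem).1 h0)
  have hzj : ∀ j, j ≠ i → M.e z j = 0 := by
    intro j hj
    rw [ezv, hecomm a _ ha hac j, Pi.single_eq_of_ne hj, zero_mul]
    apply ext2 <;> rfl
  have hzi : M.e z i ≠ 0 := by
    intro h0
    apply hz0
    funext j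
    by_cases hj : j = i
    · rw [hj, h0]; rfl
    · rw [hzj j hj]; rfl
  have hu1 : M.e u i 1 ≠ 0 := by
    intro h0
    apply hzi
    rw [ezv, hecomm a _ ha hac i, h0, mul_zero]
    apply ext2 <;> rfl
  -- one summand
  have hone : ∀ j, j = i := by
    intro j
    by_contra hj
    obtain ⟨t, ht, htr⟩ := M.trans i j
    have h3 := htr z hz.mem
    rw [hz.cen t ht, mul_inv_cancel_right] at h3
    exact hzi (h3.1 (hzj j hj))
  have hact : ∀ x : F, ∃ a' ∈ A, Ac M.e (zl T R) a' (Pi.single i x) := by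
    intro x
    obtain ⟨a', ha', h3⟩ := h2 (Pi.single i x) fun j hj => by
      rw [Pi.single_eq_of_ne (by rintro rfl; exact hj hiI)]
    exact ⟨a', ha', h3.1⟩
  -- the line in `l ∩ Y`
  have hline : ∀ x : F, ∃ w ∈ zl T R, w ∈ Y ∧ M.e w i = ![x, 0] := by
    intro x
    obtain ⟨a', ha', h3⟩ := hact (x / M.e u i 1)
    refine ⟨a' * v * a'⁻¹ * v⁻¹, hl (inl a' ha' v hv), ?_, ?_⟩
    · exact mul_mem ((mem_normalizer_iff.1 (TY (hA ha')) v).1 hv) (inv_mem hv)
    · rw [hecomm a' _ ha' h3 i, Pi.single_eq_same, div_mul_cancel₀ _ hu1]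
  obtain ⟨hh, hhR, hhact, -⟩ := M.lift fun _ => lo 1
  rintro t ⟨ht, htY⟩
  have htw : ∀ w ∈ Y, t * w * t⁻¹ = w := by
    intro w hw
    rw [← mem_centralizer_iff.1 htY w hw, mul_inv_cancel_right]
  obtain ⟨B, hB⟩ := M.norm t (hTR t ht) hh hhR (fun _ => lo 1) hhact
  -- the action of `t`
  have hcoord : ∀ v' ∈ zl T R, M.e (t * v' * t⁻¹) i =
      ![M.e v' i 0 + (ent (B i) 0 0 - 1) * M.e v' i 1, ent (B i) 1 0 * M.e v' i 1] := by
    intro v' hv'
    obtain ⟨w₁, hw₁, hw₁Y, ew₁⟩ := hline (M.e v' i 0)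
    obtain ⟨w₂, hw₂, hw₂Y, ew₂⟩ := hline (M.e v' i 1)
    have hhw := h.Un hh hhR w₂ hw₂
    have e3 : M.e (hh * w₂ * hh⁻¹ * w₂⁻¹) i = ![0, M.e v' i 1] := by
      rw [e_div M.mul hhw hw₂, Pi.sub_apply, hhact w₂ hw₂ i, ew₂]
      apply ext2
      · rw [Pi.sub_apply, ap_zero', lo_00, lo_01]
        show 1 * M.e v' i 1 + 0 * 0 - M.e v' i 1 = 0
        ring
      · rw [Pi.sub_apply, ap_one', lo_10, lo_11]
        show 1 * M.e v' i 1 + 1 * 0 - 0 = M.e v' i 1
        ring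
    have hw3 : hh * w₂ * hh⁻¹ * w₂⁻¹ ∈ zl T R := mul_mem hhw (inv_mem hw₂)
    have hd : v' * (w₁ * (hh * w₂ * hh⁻¹ * w₂⁻¹))⁻¹ ∈ cv T R := by
      rw [← M.ker _ (mul_mem hv' (inv_mem (mul_mem hw₁ hw3))), e_div M.mul hv' (mul_mem hw₁ hw3),
        M.mul _ hw₁ _ hw3]
      funext j
      rw [hone j, Pi.sub_apply, Pi.add_apply, ew₁, e3]
      apply ext2
      · show M.e v' i 0 - (M.e v' i 0 + 0) = 0
        ring
      · show M.e v' i 1 - (0 + M.e v' i 1) = 0
        ring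
    have hd' := cv_norm t (hTR t ht) _ hd
    have e4 : t * v' * t⁻¹ = (t * (v' * (w₁ * (hh * w₂ * hh⁻¹ * w₂⁻¹))⁻¹) * t⁻¹) *
        ((t * w₁ * t⁻¹) * (((t * hh * t⁻¹) * (t * w₂ * t⁻¹) * (t * hh * t⁻¹)⁻¹) *
          (t * w₂ * t⁻¹)⁻¹)) := by group
    have hth : t * hh * t⁻¹ ∈ R := mul_mem (mul_mem (hTR t ht) hhR) (inv_mem (hTR t ht))
    have h5 := h.Un _ hth w₂ hw₂
    rw [e4, htw w₁ hw₁Y, htw w₂ hw₂Y, M.mul _ (cv_le hd') _ (mul_mem hw₁ (mul_mem h5 (inv_mem hw₂))),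
      (M.ker _ (cv_le hd')).2 hd', zero_add, M.mul _ hw₁ _ (mul_mem h5 (inv_mem hw₂)),
      e_div M.mul h5 hw₂, Pi.add_apply, Pi.sub_apply, hB w₂ hw₂ i, ew₁, ew₂]
    apply ext2
    · rw [Pi.add_apply, Pi.sub_apply, ap_zero']
      show M.e v' i 0 + (ent (B i) 0 0 * M.e v' i 1 + ent (B i) 0 1 * 0 - M.e v' i 1) =
        M.e v' i 0 + (ent (B i) 0 0 - 1) * M.e v' i 1
      ring
    · rw [Pi.add_apply, Pi.sub_apply, ap_one']
      show 0 + (ent (B i) 1 0 * M.e v' i 1 + ent (B i) 1 1 * 0 - 0) = ent (B i) 1 0 * M.e v' i 1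
      ring
  -- `t` is a 2-element
  have hB1 : ent (B i) 1 0 = 1 := by
    have hpow : ∀ n : ℕ, ∀ v' ∈ zl T R, M.e (t ^ n * v' * (t ^ n)⁻¹) i 1 =
        ent (B i) 1 0 ^ n * M.e v' i 1 := by
      intro n
      induction n with
      | zero => intro v' hv'; simp
      | succ n ih =>
        intro v' hv'
        have e5 : t ^ (n + 1) * v' * (t ^ (n + 1))⁻¹ = t ^ n * (t * v' * t⁻¹) * (t ^ n)⁻¹ := by
          rw [pow_succ]; group
        rw [e5, ih _ (UT t ht v' hv'), hcoord v' hv', pow_succ, mul_assoc]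
        rfl
    obtain ⟨n, hn⟩ := hT.2.1 ⟨t, ht⟩
    have hn' : t ^ 2 ^ n = 1 := by simpa using congrArg Subtype.val hn
    obtain ⟨v', hv', ev'⟩ := M.surj fun _ => ![0, 1]
    have h3 := hpow (2 ^ n) v' hv'
    rw [hn', one_mul, inv_one, mul_one, ev'] at h3
    have h4 : ent (B i) 1 0 ^ 2 ^ n = 1 := by
      have : (1 : F) = ent (B i) 1 0 ^ 2 ^ n * 1 := h3
      rw [mul_one] at this
      exact this.symm
    have : Fact (Nat.Prime 2) := ⟨Nat.prime_two⟩
    have h5 : (ent (B i) 1 0 - 1) ^ 2 ^ n = 0 := by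
      rw [sub_pow_char_pow, h4, one_pow, sub_self]
    exact sub_eq_zero.1 (pow_eq_zero_iff (by positivity) |>.1 h5)
  have htAc : Ac M.e (zl T R) t (Pi.single i (ent (B i) 0 0 - 1)) := by
    intro v' hv' j
    rw [hone j, hcoord v' hv', hB1, Pi.single_eq_same]
    apply ext2
    · rw [ap_zero', up_00, up_01]
      show M.e v' i 0 + (ent (B i) 0 0 - 1) * M.e v' i 1 =
        1 * M.e v' i 0 + (ent (B i) 0 0 - 1) * M.e v' i 1
      ring
    · rw [ap_one', up_10, up_11]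
      show 1 * M.e v' i 1 = 0 * M.e v' i 0 + 1 * M.e v' i 1
      ring
  obtain ⟨a', ha', h3⟩ := hact (ent (B i) 0 0 - 1)
  have h4 : t * a'⁻¹ ∈ o2 R := by
    refine key _ (mul_mem ht (inv_mem (hA ha'))) fun v' hv' => ?_
    have h5 := Ac.mul htAc (Ac.inv h3 (UT _ (inv_mem (hA ha')))) (UT _ (inv_mem (hA ha')))
    funext j
    rw [h5 v' hv' j, add_neg_cancel, Pi.zero_apply, up_zero, ap_one]
  have h5 : a' ∈ centralizer (Y : Set G) := by
    have h6 := mul_mem (inv_mem (hQ h4)) htY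
    have e : (t * a'⁻¹)⁻¹ * t = a' := by group
    rwa [e] at h6
  have h6 : a' * v * a'⁻¹ * v⁻¹ = 1 := by
    rw [← mem_centralizer_iff.1 h5 v hv]; group
  have h7 := hecomm a' _ ha' h3 i
  rw [h6, e_one M.mul, Pi.single_eq_same] at h7
  have h8 : (ent (B i) 0 0 - 1) * M.e u i 1 = 0 := (congrFun h7 0).symm
  have h9 : ent (B i) 0 0 - 1 = 0 := (mul_eq_zero.1 h8).resolve_right hu1
  refine key t ht fun v' hv' => ?_
  funext j
  rw [htAc v' hv' j, h9, Pi.single_zero, Pi.zero_apply, up_zero, ap_one]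

/-! ### Sums of even-subset modules -/

theorem sym_uniq {k m : ℕ} (hm : 2 ≤ m) {U D H : Subgroup G} (M : SymK T H U D k m) {g : G}
    {τ τ' : Fin k → Equiv.Perm (Fin (2 ^ m + 1))} (h1 : ActsSym M.e U g 1 τ)
    (h2 : ActsSym M.e U g 1 τ') : τ = τ' := by
  classical
  funext i
  ext x : 1
  by_contra hne
  have hc : 2 < Fintype.card (Fin (2 ^ m + 1)) := by
    rw [Fintype.card_fin]
    have : 2 ^ 2 ≤ 2 ^ m := Nat.pow_le_pow_right (by norm_num) hm
    omega
  set q := (τ' i)⁻¹ (τ i x) with hq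
  have e1 : τ' i q = τ i x := by rw [hq]; simp
  have hqx : q ≠ x := by
    intro e
    apply hne
    rw [← e1, e]
  obtain ⟨p, hp⟩ : ∃ p, p ∉ ({x, q} : Finset (Fin (2 ^ m + 1))) := by
    by_contra hall
    push Not at hall
    have h3 : Fintype.card (Fin (2 ^ m + 1)) ≤ ({x, q} : Finset (Fin (2 ^ m + 1))).card := by
      rw [← Finset.card_univ]
      exact Finset.card_le_card fun y _ => hall y
    have h4 := Finset.card_le_two (a := x) (b := q)
    omega
  have hpx : p ≠ x := fun e => hp (by simp [e])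
  have hpq : p ≠ q := fun e => hp (by simp [e])
  obtain ⟨v, hv, ev⟩ := M.surj (Pi.single i (Pi.single x 1 + Pi.single p 1)) (by
    intro j
    by_cases hj : j = i
    · subst hj
      rw [Pi.single_eq_same]
      simp only [Pi.add_apply, Finset.sum_add_distrib, Finset.sum_pi_single', Finset.mem_univ,
        if_true]
      decide
    · rw [Pi.single_eq_of_ne hj]
      simp)
  have h3 := h1 v hv i x
  have h4 := h2 v hv i q
  rw [e1, h3, ev, Pi.single_eq_same, Pi.add_apply, Pi.add_apply, Pi.single_eq_same,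
    Pi.single_eq_of_ne hpx.symm, Pi.single_eq_of_ne hqx, Pi.single_eq_of_ne hpq.symm] at h4
  exact absurd h4 (by decide)

theorem sym_false {k m : ℕ} (hm : 2 ≤ m) (h : Bas T R) (M : SymK T R (zl T R) (cv T R) k m)
    (hA : A ≤ T) (hoff : Off (zl T R) A) {z : G} (hzl : z ∈ l) (hz : Mov T R z)
    (cov : ∀ v ∈ Y, ∃ u ∈ zl T R, ∃ c ∈ centralizer (A : Set G), v = u * c)
    (full : ∀ a ∈ A, a ∉ centralizer (Y : Set G) → ∀ z ∈ l, ∃ v ∈ Y, z = a * v * a⁻¹ * v⁻¹)
    (hne : ¬ A ≤ centralizer (Y : Set G)) (hQ : o2 R ≤ centralizer (Y : Set G)) : False := by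
  classical
  have hT := h.hm.syl
  have hTR : ∀ t ∈ T, t ∈ R := fun t ht => hT.1 ht
  obtain ⟨-, h2⟩ := M.off A hA hoff
  have UT : ∀ t ∈ T, ∀ v ∈ zl T R, t * v * t⁻¹ ∈ zl T R := fun t ht => h.Un t (hTR t ht)
  have key : ∀ t ∈ T, (∀ v ∈ zl T R, M.e (t * v * t⁻¹) = M.e v) → t ∈ o2 R := by
    intro t ht h0
    refine h.mem_o2 hz ht fun u hu => ?_
    rw [← M.ker _ (mul_mem (UT t ht u hu) (inv_mem hu)), e_div M.mul (UT t ht u hu) hu, h0 u hu,
      sub_self]
  -- a single transposition moves `Y`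
  have stepA : ∀ n : ℕ, ∀ a ∈ A, a ∉ centralizer (Y : Set G) →
      ∀ τ : Fin k → Equiv.Perm (Fin (2 ^ m + 1)), ActsSym M.e (zl T R) a 1 τ →
      (Finset.univ.filter fun p : Fin k × Fin (2 ^ m + 1) => τ p.1 p.2 ≠ p.2).card ≤ n →
      ∃ b ∈ A, b ∉ centralizer (Y : Set G) ∧ ∃ i x y, x ≠ y ∧
        ActsSym M.e (zl T R) b 1 (Function.update 1 i (Equiv.swap x y)) := by
    intro n
    induction n with
    | zero =>
      intro a ha haY τ hτ hn
      exfalso
      apply haY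
      apply hQ
      refine key a (hA ha) fun v hv => ?_
      funext i x
      have h3 : τ i x = x := by
        by_contra h3
        have h4 : (i, x) ∈ Finset.univ.filter fun p : Fin k × Fin (2 ^ m + 1) => τ p.1 p.2 ≠ p.2 := by
          simpa using h3
        have h5 := Finset.card_pos.2 ⟨_, h4⟩
        omega
      have h4 := hτ v hv i x
      rw [h3] at h4
      exact h4
    | succ n ih =>
      intro a ha haY τ hτ hn
      obtain ⟨τ', hτ', hprop⟩ := h2 a ha
      obtain rfl := sym_uniq hm M hτ' hτ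
      by_cases hex : ∃ i x, τ' i x ≠ x
      · obtain ⟨i, x, hx⟩ := hex
        obtain ⟨hxx, b, hb, hbs⟩ := hprop i x hx
        by_cases hbY : b ∈ centralizer (Y : Set G)
        · refine ih (b * a) (mul_mem hb ha) (fun h3 => haY ?_)
            (fun j => (Function.update 1 i (Equiv.swap x (τ' i x)) :
              Fin k → Equiv.Perm (Fin (2 ^ m + 1))) j * τ' j) ?_ ?_
          · have := mul_mem (inv_mem hbY) h3
            rwa [inv_mul_cancel_left] at this
          · intro v hv j y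
            have e1 : b * a * v * (b * a)⁻¹ = b * (a * v * a⁻¹) * b⁻¹ := by group
            rw [e1, Equiv.Perm.mul_apply, hbs _ (UT a (hA ha) v hv)]
            exact hτ' v hv j y
          · have hlt : (Finset.univ.filter fun p : Fin k × Fin (2 ^ m + 1) =>
                ((Function.update 1 i (Equiv.swap x (τ' i x)) :
                  Fin k → Equiv.Perm (Fin (2 ^ m + 1))) p.1 * τ' p.1) p.2 ≠ p.2).card <
                (Finset.univ.filter fun p : Fin k × Fin (2 ^ m + 1) => τ' p.1 p.2 ≠ p.2).card := by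
              apply Finset.card_lt_card
              rw [Finset.ssubset_iff_of_subset]
              · refine ⟨(i, x), by simpa using hx, fun hmem => ?_⟩
                refine (Finset.mem_filter.1 hmem).2 ?_
                rw [Equiv.Perm.mul_apply]
                show (Function.update 1 i (Equiv.swap x (τ' i x)) :
                  Fin k → Equiv.Perm (Fin (2 ^ m + 1))) i (τ' i x) = x
                rw [Function.update_self, Equiv.swap_apply_right]
              · rintro ⟨j, y⟩ hy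
                simp only [Finset.mem_filter, Finset.mem_univ, true_and] at hy ⊢
                intro hfix
                apply hy
                rw [Equiv.Perm.mul_apply, hfix]
                by_cases hj : j = i
                · subst hj
                  rw [Function.update_self]
                  apply Equiv.swap_apply_of_ne_of_ne
                  · rintro rfl
                    exact hx hfix
                  · rintro rfl
                    rw [hxx] at hfix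
                    exact hx hfix.symm
                · rw [Function.update_of_ne hj]
                  rfl
            omega
        · exact ⟨b, hb, hbY, i, x, τ' i x, hx.symm, hbs⟩
      · push Not at hex
        exfalso
        apply haY
        apply hQ
        refine key a (hA ha) fun v hv => ?_
        funext i x
        have h4 := hτ v hv i x
        rw [hex] at h4
        exact h4
  obtain ⟨a₀, ha₀, ha₀Y⟩ := SetLike.not_le_iff_exists.1 hne
  obtain ⟨τ₀, hτ₀, -⟩ := h2 a₀ ha₀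
  obtain ⟨b, hb, hbY, i, x, y, hxy, hbs⟩ := stepA _ a₀ ha₀ ha₀Y τ₀ hτ₀ le_rfl
  -- `z` is supported on `{x, y}` in the block `i`
  obtain ⟨v, hv, ezv⟩ := full b hb hbY z hzl
  obtain ⟨u, hu, c, hc, rfl⟩ := cov v hv
  have hezu : z = b * u * b⁻¹ * u⁻¹ := by
    have h3 : b * c = c * b := mem_centralizer_iff.1 hc b hb
    rw [ezv]
    calc b * (u * c) * b⁻¹ * (u * c)⁻¹ = b * u * (c * b⁻¹) * c⁻¹ * u⁻¹ := by group
      _ = b * u * (b⁻¹ * (b * c) * b⁻¹) * c⁻¹ * u⁻¹ := by group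
      _ = b * u * b⁻¹ * u⁻¹ := by rw [h3]; group
  have hez : ∀ j w, M.e z j w =
      M.e u j ((Function.update 1 i (Equiv.swap x y) : Fin k → Equiv.Perm (Fin (2 ^ m + 1))) j w) -
        M.e u j w := by
    intro j w
    rw [hezu, e_div M.mul (UT b (hA hb) u hu) hu, Pi.sub_apply, Pi.sub_apply]
    congr 1
    have h3 := hbs u hu j
      ((Function.update 1 i (Equiv.swap x y) : Fin k → Equiv.Perm (Fin (2 ^ m + 1))) j w)
    rw [← h3]
    have h4 : (Function.update 1 i (Equiv.swap x y) : Fin k → Equiv.Perm (Fin (2 ^ m + 1))) j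
        ((Function.update 1 i (Equiv.swap x y) : Fin k → Equiv.Perm (Fin (2 ^ m + 1))) j w) = w := by
      by_cases hj : j = i
      · subst hj
        rw [Function.update_self, Equiv.swap_apply_self]
      · rw [Function.update_of_ne hj]
        rfl
    rw [h4]
    rfl
  have hz0 : M.e z ≠ 0 := fun h0 => hz.not_cv hT ((M.ker z hz.mem).1 h0)
  have hsupp : ∀ j w, M.e z j w ≠ 0 → j = i ∧ (w = x ∨ w = y) := by
    intro j w hw
    rw [hez] at hw
    by_cases hj : j = i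
    · subst hj
      refine ⟨rfl, ?_⟩
      by_contra hc'
      push Not at hc'
      apply hw
      rw [Function.update_self, Equiv.swap_apply_of_ne_of_ne hc'.1 hc'.2, sub_self]
    · exfalso
      apply hw
      rw [Function.update_of_ne hj]
      exact sub_self _
  obtain ⟨w₀, hw₀⟩ : ∃ w, M.e z i w ≠ 0 := by
    by_contra hall
    push Not at hall
    apply hz0
    funext j w
    by_contra hne'
    obtain ⟨rfl, -⟩ := hsupp j w hne'
    exact hne' (hall w)
  -- one summand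
  have hone : ∀ j, j = i := by
    intro j
    obtain ⟨t, ht, σ, τ, hact, hσ⟩ := M.trans i j
    have h3 := hact z hz.mem i w₀
    rw [hz.cen t ht, mul_inv_cancel_right, hσ] at h3
    have h4 : M.e z j (τ i w₀) ≠ 0 := by rw [h3]; exact hw₀
    exact (hsupp _ _ h4).1
  -- a `2 ^ m`-cycle
  obtain ⟨p, hp1, hp0, hpf, hptr⟩ := Cfsg.Agent.Omega.SQ1.SymCyc.exists_cyc m (by omega)
  obtain ⟨g, hg, hgA, -⟩ := M.lift fun _ => p
  obtain ⟨c', hc', N, hN⟩ := Cfsg.Agent.Omega.SQ1.SymCyc.exists_pow g m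
  have hgpow : ∀ n : ℕ, ActsSym M.e (zl T R) (g ^ n) 1 fun _ => p ^ n := by
    intro n
    induction n with
    | zero => intro v hv i x; simp
    | succ n ih =>
      intro v hv i x
      have e1 : g ^ (n + 1) * v * (g ^ (n + 1))⁻¹ = g ^ n * (g * v * g⁻¹) * (g ^ n)⁻¹ := by
        rw [pow_succ]; group
      have h3 := ih _ (h.Un g hg v hv) i (p x)
      have h4 := hgA v hv i x
      rw [e1, pow_succ, Equiv.Perm.mul_apply]
      exact h3.trans h4
  have h1m : 1 % 2 ^ m = 1 := Nat.mod_eq_of_lt (Nat.one_lt_two_pow (by omega))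
  have hpc : p ^ c' = p := by
    rw [← Nat.div_add_mod c' (2 ^ m), hc', h1m, pow_add, pow_mul, hp1, one_pow, one_mul, pow_one]
  have hg' := hgpow c'
  rw [hpc] at hg'
  have hgR : g ^ c' ∈ R := pow_mem hg _
  have hp2 : IsPGroup 2 (zpowers (g ^ c')) := by
    rintro ⟨w, hw⟩
    obtain ⟨m', rfl⟩ := mem_zpowers_iff.1 hw
    refine ⟨N, Subtype.ext ?_⟩
    show ((g ^ c') ^ m') ^ 2 ^ N = 1
    rw [← zpow_natCast, ← zpow_mul, mul_comm, zpow_mul, zpow_natCast, hN, one_zpow]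
  obtain ⟨S, hS, hgS⟩ := exists_syl hp2 ((zpowers_le (H := R)).2 hgR)
  obtain ⟨k', hk', ek'⟩ := syl_conj hS hT
  have hkT : k' * g ^ c' * k'⁻¹ ∈ T := by
    rw [← ek']
    exact ⟨g ^ c', hgS (mem_zpowers _), rfl⟩
  have hfix := hz.cen _ hkT
  have hz' : k'⁻¹ * z * k'⁻¹⁻¹ ∈ zl T R := h.Un _ (inv_mem hk') z hz.mem
  set z' := k'⁻¹ * z * k'⁻¹⁻¹ with hz'd
  have hfix' : g ^ c' * z' * (g ^ c')⁻¹ = z' := by
    have e1 : g ^ c' * z' * (g ^ c')⁻¹ =
        k'⁻¹ * ((k' * g ^ c' * k'⁻¹) * z) * (k' * g ^ c' * k'⁻¹)⁻¹ * k' := by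
      rw [hz'd]; group
    rw [e1, hfix, hz'd]; group
  have hkz : k' * z' * k'⁻¹ = z := by rw [hz'd]; group
  obtain ⟨σ, τ, hact⟩ := M.perm k' hk'
  have hs1 : ∀ w, M.e z' i w = M.e z i (τ i w) := by
    intro w
    have h3 := hact z' hz' i w
    rw [hkz, hone (σ i)] at h3
    exact h3.symm
  have hs2 : ∀ w, M.e z' i (p w) = M.e z' i w := by
    intro w
    have h3 := hg' z' hz' i w
    rw [hfix'] at h3
    exact h3
  have hsub : ∀ w, M.e z' i w ≠ 0 → w ∈ ({(τ i)⁻¹ x, (τ i)⁻¹ y} : Finset (Fin (2 ^ m + 1))) := by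
    intro w hw
    rw [hs1] at hw
    rcases (hsupp _ _ hw).2 with e | e
    · rw [← e]; simp
    · rw [← e]; simp
  have hpn : ∀ (n : ℕ) (w), M.e z' i ((p ^ n) w) = M.e z' i w := by
    intro n
    induction n with
    | zero => intro w; simp
    | succ n ih => intro w; rw [pow_succ', Equiv.Perm.mul_apply, hs2, ih]
  -- a nonzero letter in the support
  obtain ⟨q, hq0, hq⟩ : ∃ q, q ≠ 0 ∧ M.e z' i q ≠ 0 := by
    by_contra hall
    push Not at hall
    have h3 := M.even z' hz' i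
    rw [Finset.sum_eq_single 0 (fun b _ hb => hall b hb) (by simp)] at h3
    have h4 : M.e z' i ((τ i)⁻¹ w₀) ≠ 0 := by
      rw [hs1]
      simpa using hw₀
    by_cases h5 : (τ i)⁻¹ w₀ = 0
    · rw [h5] at h4
      exact h4 h3
    · exact h4 (hall _ h5)
  have hbig : (Finset.univ.erase (0 : Fin (2 ^ m + 1))).card ≤
      ({(τ i)⁻¹ x, (τ i)⁻¹ y} : Finset (Fin (2 ^ m + 1))).card := by
    apply Finset.card_le_card
    intro w hw
    have hw0 : w ≠ 0 := (Finset.mem_erase.1 hw).1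
    obtain ⟨n, hn⟩ := hptr q w hq0 hw0
    apply hsub
    rw [← hn, hpn]
    exact hq
  rw [Finset.card_erase_of_mem (Finset.mem_univ _), Finset.card_univ, Fintype.card_fin] at hbig
  have h5 := Finset.card_le_two (a := (τ i)⁻¹ x) (b := (τ i)⁻¹ y)
  have h6 : 2 ^ 2 ≤ 2 ^ m := Nat.pow_le_pow_right (by norm_num) hm
  omega

/-- **Part F** (#27055 (6)). -/
theorem cT_le (hFF : FFThm.Stmt.{u}) {T R Y l A : Subgroup G} (hT : Syl T R) (hP : IsMinPar T R)
    (hc : R ⊓ centralizer (o2 R : Set G) ≤ o2 R) (hA : A ≤ T) (hoff : Off (zl T R) A)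
    (TY : T ≤ normalizer (Y : Set G)) (Tl : T ≤ normalizer (l : Set G)) (hl : l ≤ zl T R)
    (hmv : ¬ R ≤ centralizer ((l ⊓ zc T : Subgroup G) : Set G))
    (com : Y ≤ centralizer (zl T R : Set G))
    (cov : ∀ v ∈ Y, ∃ u ∈ zl T R, ∃ c ∈ centralizer (A : Set G), v = u * c)
    (inl : ∀ a ∈ A, ∀ v ∈ Y, a * v * a⁻¹ * v⁻¹ ∈ l)
    (full : ∀ a ∈ A, a ∉ centralizer (Y : Set G) → ∀ z ∈ l, ∃ v ∈ Y, z = a * v * a⁻¹ * v⁻¹)
    (full' : ∀ v ∈ Y, v ∉ l → ∀ z ∈ l, ∃ a ∈ A, z = a * v * a⁻¹ * v⁻¹)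
    (hne : ¬ A ≤ centralizer (Y : Set G)) (hQ : o2 R ≤ centralizer (Y : Set G)) :
    T ⊓ centralizer (Y : Set G) ≤ o2 R := by
  have h := Bas.of hT hP hc
  obtain ⟨r, hr, hrz⟩ := SetLike.not_le_iff_exists.1 hmv
  rw [mem_centralizer_iff] at hrz
  push Not at hrz
  obtain ⟨z, hz, hne'⟩ := hrz
  have hzl : z ∈ l := hz.1
  have hzM : Mov T R z := by
    refine ⟨hl hz.1, fun t ht => ?_, fun h0 => hne' (h0 r hr).symm⟩
    have := (ChoiceBase.mem_zc.1 hz.2).2.2 t ht
    exact this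
  obtain ⟨-, hC⟩ := hFF G T R hT hP hc ⟨A, hA.trans hT.1, hoff⟩
  rcases hC with ⟨F, iF, fF, cF, k, hk, ⟨M⟩⟩ | ⟨k, m, hk, hm, ⟨M⟩⟩
  · exact nat_le h M hA hoff TY hl hzl hzM cov inl full hne hQ
  · exact (sym_false hm h M hA hoff hzl hzM cov full hne hQ).elim

end Cfsg.Agent.Omega.NOThreeL.RWide.UniT.FF
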