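import Cfsg.Agent.Omega.NOThreeL.RWide.UniT.Fr
import Cfsg.Agent.Omega.NOThreeL.RWide.UniT.FF

/-!
# UNI_T: (Y1), (Y2), (Y3) of #27590

From the output of (X3) for a pure member `A` moving the block `j` (`X3`), from the exchange dichotomy (`Exc`) and `fixV`:
`R` normalises `⨆ b, N b`.
-/

set_option autoImplicit false
set_option linter.unusedSectionVars false
set_option linter.unusedVariables false

namespace Cfsg.Agent.Omega.NOThreeL.RWide.UniT.YY

open Subgroup Cfsg Cfsg.Agent.Omega.MinPar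
open Cfsg.Agent.ZN (zc o2 zl)
open Cfsg.Agent.ZN.ChoiceBase (cj AA mem_cj cj_mono cj_le_iff cj_cj cj_inv_cj cj_cj_inv card_cj cj_inf
  cj_centralizer cj_mem_AA cj_eq_of_mem_normalizer mem_normalizer_iff_cj isElementaryAbelian_cj)
open Cfsg.Agent.ZN.ChoiceSit (Syl o2_le_syl)
open Cfsg.Agent.MinSimple.MinParabolic (IsMinPar)
open Cfsg.Agent.MinSimple.VModule (le_normalizer_zl zl_le le_normalizer_o2)
open Cfsg.Agent.Omega.FFThm (Off)

universe u v

variable {G : Type u} [Group G] {ι : Type v}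

/-- The output of (X3). -/
structure X3 (T O R : Subgroup G) (N l : ι → Subgroup G) (j : ι) (A : Subgroup G) : Prop where
  mem : A ∈ AA O
  pure : ∀ c, c ≠ j → A ≤ centralizer (N c : Set G)
  nQ : ¬ A ≤ o2 R
  full : Full A (N j) (l j)
  cU : A ⊓ centralizer (zl T R : Set G) ≤ centralizer (N j : Set G)
  cov : ∀ v ∈ N j, ∃ u ∈ zl T R, ∃ c ∈ centralizer (A : Set G), v = u * c
  lU : l j ≤ zl T R
  QN : o2 R ≤ centralizer (N j : Set G)

/-- The output of (EXC). -/
def Exc (T R : Subgroup G) (N l : ι → Subgroup G) (A : Subgroup G) (y : G) : Prop := ∀ b,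
  (A ⊓ centralizer (zl T R : Set G) ≤ centralizer (cj y (N b) : Set G) →
    R ≤ normalizer ((N b ⊔ zl T R : Subgroup G) : Set G)) ∧
  (¬ A ⊓ centralizer (zl T R : Set G) ≤ centralizer (cj y (N b) : Set G) → R ≤ normalizer (l b : Set G))

variable [Finite G] {T O R : Subgroup G} {N l E : ι → Subgroup G} {j : ι}

theorem card_Nl (h : Rts T O N l) {b : ι} {A : Subgroup G} (hf : Full A (N b) (l b)) :
    N b ⊓ centralizer (A : Set G) = l b := by
  apply le_antisymm
  · rintro v ⟨hv, hvA⟩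
    by_contra hvl
    apply h.lne b
    rw [eq_bot_iff]
    intro z hz
    obtain ⟨a, ha, e⟩ := hf.onA v hv hvl z hz
    rw [mem_bot, ← e, mem_centralizer_iff.1 hvA a ha]
    group
  · exact le_inf (h.lN b) fun z hz => mem_centralizer_iff.2 fun a ha =>
      (mem_centralizer_iff.1 (hf.cent ha) z hz).symm

/-! ### Elementary facts -/

section facts

variable (h : Fr T O R N l E j)

include h

theorem NT (b : ι) : N b ≤ T := (h.NO b).trans h.OT

theorem U_le {c : ι} (hc : c ≠ j) : zl T R ≤ E c := zl_le (h.ZE c hc) (h.RE c hc)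

theorem UO : zl T R ≤ O := by
  obtain ⟨c, hc⟩ := h.ex
  exact (U_le h hc).trans (h.EO c hc)

theorem Ue : IsElementaryAbelian 2 (zl T R) := by
  obtain ⟨c, hc⟩ := h.ex
  exact eab_mono (h.eab c hc) (U_le h hc)

theorem UN (b : ι) : zl T R ≤ centralizer (N b : Set G) := by
  by_cases hb : b = j
  · subst hb
    obtain ⟨c, hc⟩ := h.ex
    exact (U_le h hc).trans ((comA (h.eab c hc)).trans (centralizer_le (h.jE c hc)))
  · exact (U_le h hb).trans ((comA (h.eab b hb)).trans (centralizer_le (h.NE b hb)))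

theorem QT : o2 R ≤ T := o2_le_syl h.syl

theorem finι : Finite ι := by
  have hinj : Function.Injective N := by
    intro a b e
    by_contra hab
    have h1 := h.dis a b hab
    rw [e, inf_idem] at h1
    exact h.lne b (le_bot_iff.1 ((h.lN b).trans h1.le))
  exact Finite.of_injective N hinj

theorem Q_eq {t : G} : t ∈ T ⊓ centralizer ((⨆ b, N b : Subgroup G) : Set G) ↔
    t ∈ T ∧ ∀ b, t ∈ centralizer (N b : Set G) := by
  constructor
  · rintro ⟨h1, h2⟩
    exact ⟨h1, fun b => centralizer_le (le_iSup N b) h2⟩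
  · rintro ⟨h1, h2⟩
    refine ⟨h1, ?_⟩
    have h3 : (⨆ b, N b) ≤ centralizer ({t} : Set G) := iSup_le fun b v hv =>
      mem_centralizer_singleton_iff.2 (mem_centralizer_iff.1 (h2 b) v hv)
    exact mem_centralizer_iff.2 fun v hv => mem_centralizer_singleton_iff.1 (h3 hv)

/-- (F) -/
theorem cT (hFF : FFThm.Stmt.{u}) {A : Subgroup G} (x : X3 T O R N l j A) :
    T ⊓ centralizer (N j : Set G) ≤ o2 R := by
  have hAT : A ≤ T := x.mem.2.1.trans h.OT
  refine UniT.FF.cT_le hFF h.syl h.par h.cR hAT ?_ (h.TN j) (h.Tl j) x.lU ?_ ?_ x.cov x.full.inl ?_ ?_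
    x.full.ne x.QN
  · refine ⟨x.mem.1, fun h1 => x.nQ ?_, thom x.mem (Ue h) (UO h)⟩
    rw [← h.UQ]
    exact le_inf hAT h1
  · intro h1
    apply h.mv
    refine h1.trans (centralizer_le ?_)
    rintro z ⟨hz, hzT⟩
    refine ⟨hz, Cfsg.Agent.ZN.ChoiceBase.mem_zc.2 ⟨NT h j (h.lN j hz), ?_, fun t ht => ?_⟩⟩
    · rw [pow_two]; exact h.sq j z (h.lN j hz)
    · exact mem_centralizer_iff.1 hzT t ht
  · obtain ⟨c, hc⟩ := h.ex
    exact (h.jE c hc).trans ((comA (h.eab c hc)).trans (centralizer_le (U_le h hc)))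
  · intro a ha han z hz
    obtain ⟨v, hv, e⟩ := x.full.onN a ha han z hz
    exact ⟨v, hv, e.symm⟩
  · intro v hv hvl z hz
    obtain ⟨a, ha, e⟩ := x.full.onA v hv hvl z hz
    exact ⟨a, ha, e.symm⟩

end facts

/-! ### (Y1) -/

section main

variable (h : Fr T O R N l E j) {A : Subgroup G} (x : X3 T O R N l j A)
  (F : T ⊓ centralizer (N j : Set G) ≤ o2 R)

include h x F

theorem QRU : o2 R ≤ centralizer (zl T R : Set G) := by
  rw [← h.UQ]; exact inf_le_right

/-- `C_Y(A) ≤ Z_J` -/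
theorem cYA : (N j ⊔ zl T R) ⊓ centralizer (A : Set G) ≤ ⨆ b, l b := by
  classical
  have := finι h
  have hAT : A ≤ T := x.mem.2.1.trans h.OT
  rintro n ⟨hn, hnA⟩
  obtain ⟨c₀, hc₀⟩ := h.ex
  have hYE : N j ⊔ zl T R ≤ E c₀ := sup_le (h.jE c₀ hc₀) (U_le h hc₀)
  have hnE := hYE hn
  have hnT : n ∈ T := h.OT (h.EO c₀ hc₀ hnE)
  have hn2 : n ^ 2 = 1 := (h.eab c₀ hc₀).2 n hnE
  have hnN : ∀ b, n ∈ centralizer (N b : Set G) := fun b =>
    (sup_le (h.com j b) (UN h b) : N j ⊔ zl T R ≤ _) hn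
  have hQ := (Q_eq h).2 ⟨hnT, hnN⟩
  have hln : (⨆ b, l b) ≤ ⨆ b, N b := iSup_mono h.lN
  have hcomm : ∀ X : Subgroup G, X ≤ T → X ≤ centralizer (N j : Set G) → ∀ t ∈ X, t * n = n * t := by
    intro X hXT hXN t ht
    have h1 : X ≤ centralizer ((N j ⊔ zl T R : Subgroup G) : Set G) := by
      have h2 : N j ⊔ zl T R ≤ centralizer (X : Set G) := by
        refine sup_le (fun v hv => mem_centralizer_iff.2 fun t ht =>
          (mem_centralizer_iff.1 (hXN ht) v hv).symm) fun v hv => mem_centralizer_iff.2 fun t ht => ?_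
        exact (mem_centralizer_iff.1 (QRU h x F (F ⟨hXT ht, hXN ht⟩)) v hv).symm
      intro t ht
      exact mem_centralizer_iff.2 fun v hv => (mem_centralizer_iff.1 (h2 hv) t ht).symm
    exact (mem_centralizer_iff.1 (h1 ht) n hn).symm
  -- pure members which centralise `n`
  have hmem : ∀ b, ∃ A' ≤ T, Full A' (N b) (l b) ∧ (∀ c, c ≠ b → A' ≤ centralizer (N c : Set G)) ∧
      ∀ t ∈ A', t * n = n * t := by
    intro b
    by_cases hb : b = j
    · subst hb
      exact ⟨A, hAT, x.full, x.pure, fun t ht => mem_centralizer_iff.1 hnA t ht⟩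
    · obtain ⟨A', hA', hA'b, hA'c⟩ := h.pure b
      have hA'T : A' ≤ T := hA'.2.1.trans h.OT
      have hNe : IsElementaryAbelian 2 (N b) := eab_mono (h.eab b hb) (h.NE b hb)
      have h1 := (h.off b A' hA'T hA'.1 (thom hA' hNe (h.NO b))).resolve_left hA'b
      exact ⟨A', hA'T, h1, hA'c, hcomm A' hA'T (hA'c j (Ne.symm hb))⟩
  have key : ∀ s : Finset ι, ∀ t ∈ T, t ∈ centralizer ((⨆ b, l b : Subgroup G) : Set G) →
      (∀ b, b ∉ s → t ∈ centralizer (N b : Set G)) → t * n = n * t := by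
    intro s
    induction s using Finset.induction_on with
    | empty =>
      intro t ht htl htN
      have h1 : T ⊓ centralizer (N j : Set G) ≤ centralizer (N j : Set G) := inf_le_right
      exact hcomm _ inf_le_left h1 t ⟨ht, htN j (by simp)⟩
    | insert b s hb ih =>
      intro t ht htl htN
      obtain ⟨A', hA'T, hf, hpure, hn'⟩ := hmem b
      have htl' : ∀ c, t ∈ centralizer (l c : Set G) := fun c => centralizer_le (le_iSup l c) htl
      obtain ⟨a, ha, hat⟩ := h.rep b A' hA'T hf t ht (htl' b)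
      have h1 : a⁻¹ * t * n = n * (a⁻¹ * t) := by
        refine ih _ (mul_mem (inv_mem (hA'T ha)) ht) (mul_mem (inv_mem ?_) htl) fun c hc => ?_
        · have h2 : (⨆ b, l b) ≤ centralizer (A' : Set G) := by
            refine iSup_le fun c v hv => mem_centralizer_iff.2 fun a ha => ?_
            by_cases hcb : c = b
            · subst hcb
              exact (mem_centralizer_iff.1 (hf.cent ha) v hv).symm
            · exact (mem_centralizer_iff.1 (hpure c hcb ha) v (h.lN c hv)).symm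
          exact mem_centralizer_iff.2 fun v hv => (mem_centralizer_iff.1 (h2 hv) a ha).symm
        · by_cases hcb : c = b
          · rw [hcb]; exact hat
          · exact mul_mem (inv_mem (hpure c hcb ha)) (htN c (by simp [hcb, hc]))
      have h2 : Commute (a⁻¹ * t) n := h1
      have h3 : Commute a n := hn' a ha
      have h4 := h3.mul_left h2
      rwa [mul_inv_cancel_left] at h4
  refine h.I4 (Cfsg.Agent.ZN.ChoiceBase.mem_zc.2 ⟨⟨hnT, centralizer_le hln hQ.2⟩, hn2, ?_⟩)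
  rintro t ⟨ht, htl⟩
  have : Fintype ι := Fintype.ofFinite ι
  exact key Finset.univ t ht htl (by simp)

/-- `Y = N_j C_Y(A)` -/
theorem Y_eq : N j ⊔ ((N j ⊔ zl T R) ⊓ centralizer (A : Set G)) = N j ⊔ zl T R := by
  have hAT : A ≤ T := x.mem.2.1.trans h.OT
  obtain ⟨c₀, hc₀⟩ := h.ex
  have hYE : N j ⊔ zl T R ≤ E c₀ := sup_le (h.jE c₀ hc₀) (U_le h hc₀)
  have hYe := eab_mono (h.eab c₀ hc₀) hYE
  have hYO : N j ⊔ zl T R ≤ O := hYE.trans (h.EO c₀ hc₀)
  set Yh := N j ⊔ zl T R with hYh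
  set C := Yh ⊓ centralizer (A : Set G) with hC
  have h1 := thom x.mem hYe hYO
  have h2 : A ⊓ centralizer (Yh : Set G) = A ⊓ centralizer (N j : Set G) := by
    apply le_antisymm
    · exact inf_le_inf_left A (centralizer_le (show N j ≤ Yh from le_sup_left))
    · rintro a ⟨ha, haN⟩
      refine ⟨ha, ?_⟩
      have h3 : Yh ≤ centralizer ({a} : Set G) := by
        refine sup_le (fun v hv => mem_centralizer_singleton_iff.2 (mem_centralizer_iff.1 haN v hv))
          fun v hv => mem_centralizer_singleton_iff.2 ?_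
        exact mem_centralizer_iff.1 (QRU h x F (F ⟨hAT ha, haN⟩)) v hv
      exact mem_centralizer_iff.2 fun v hv => mem_centralizer_singleton_iff.1 (h3 hv)
  rw [h2, ← hC] at h1
  have h4 : N j ⊓ C = l j := by
    rw [hC, ← inf_assoc, inf_eq_left.2 (show N j ≤ Yh from le_sup_left), card_Nl h.toRts x.full]
  have h5 : C ≤ centralizer (N j : Set G) :=
    inf_le_left.trans ((comA hYe).trans (centralizer_le (show N j ≤ Yh from le_sup_left)))
  have h6 := Cfsg.Agent.PLocal.ElemAbSup.card_sup_mul_card_inf h5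
  rw [h4, h.cardN j] at h6
  have hl0 : 0 < Nat.card (l j) := Nat.card_pos
  have h7 : Nat.card ↥(N j ⊔ C) = Nat.card (l j) * Nat.card C := by
    apply Nat.eq_of_mul_eq_mul_right hl0
    rw [h6]; ring
  have ha0 : 0 < Nat.card ↥(A ⊓ centralizer (N j : Set G)) := Nat.card_pos
  have h8 : Nat.card Yh ≤ Nat.card (l j) * Nat.card C := by
    rw [x.full.cardA] at h1
    apply Nat.le_of_mul_le_mul_right _ ha0
    calc Nat.card Yh * Nat.card ↥(A ⊓ centralizer (N j : Set G)) ≤ _ := h1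
      _ = Nat.card (l j) * Nat.card C * Nat.card ↥(A ⊓ centralizer (N j : Set G)) := by ring
  exact Subgroup.eq_of_le_of_card_ge (sup_le le_sup_left inf_le_left) (h7 ▸ h8)

/-- (Y1) -/
theorem Y1 : zl T R ≤ N j ⊔ ⨆ b, l b := by
  have h1 : zl T R ≤ N j ⊔ zl T R := le_sup_right
  rw [← Y_eq h x F] at h1
  exact h1.trans (sup_le_sup_left (cYA h x F) _)

theorem U_le_V : zl T R ≤ ⨆ b, N b :=
  (Y1 h x F).trans (sup_le (le_iSup N j) (iSup_mono h.lN))

/-- the members `C_A(N c) N c` -/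
theorem memc {c b : ι} (hc : c ≠ j) (hb : b ≠ j) {r : G} (hr : r ∈ R) :
    ∀ a ∈ cj r (N c), ∀ v ∈ N b, a * v * a⁻¹ * v⁻¹ ∈ l b := by
  obtain ⟨A', hA', hA'b, hA'c⟩ := h.pure c
  have hA'T : A' ≤ T := hA'.2.1.trans h.OT
  have hNe : ∀ b, b ≠ j → IsElementaryAbelian 2 (N b) := fun b hb => eab_mono (h.eab b hb) (h.NE b hb)
  have hf := (h.off c A' hA'T hA'.1 (thom hA' (hNe c hc) (h.NO c))).resolve_left hA'b
  have hM : (A' ⊓ centralizer (N c : Set G)) ⊔ N c ∈ AA O := by
    refine swap_mem hA' (hNe c hc) (h.NO c) ?_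
    rw [card_Nl h.toRts hf, hf.cardA, h.cardN c]
    apply le_of_eq
    ring
  set M := (A' ⊓ centralizer (N c : Set G)) ⊔ N c with hMd
  have hMT : M ≤ T := hM.2.1.trans h.OT
  have hMN : M ≤ centralizer (N j : Set G) :=
    sup_le (inf_le_left.trans (hA'c j (Ne.symm hc))) (h.com c j)
  have hMQ : M ≤ o2 R := (le_inf hMT hMN).trans F
  have hMr : cj r M ≤ T := by
    have h1 := cj_mono r hMQ
    rw [cj_eq_of_mem_normalizer (le_normalizer_o2 R hr)] at h1
    exact h1.trans (QT h)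
  have hNr : N b ≤ cj r O := by
    have h1 := cj_mono r (h.EO b hb)
    rw [cj_eq_of_mem_normalizer (h.RE b hb hr)] at h1
    exact (h.NE b hb).trans h1
  have h2 := thom (cj_mem_AA r hM) (hNe b hb) hNr
  have h3 : cj r (N c) ≤ cj r M := cj_mono r le_sup_right
  rcases h.off b _ hMr (isElementaryAbelian_cj r hM.1) h2 with h4 | h4
  · intro a ha v hv
    rw [← mem_centralizer_iff.1 (h4 (h3 ha)) v hv]
    have e : v * a * a⁻¹ * v⁻¹ = 1 := by group
    rw [e]
    exact one_mem _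
  · intro a ha v hv
    exact h4.inl a (h3 ha) v hv

/-- (Y2) -/
theorem Y2 {y : G} (hy : y ∈ R) (e : Exc T R N l A y)
    (fixV : ∀ c, c ≠ j → ∀ X : Subgroup G, X ≤ E c →
      X ≤ T ⊓ centralizer ((⨆ b, N b : Subgroup G) : Set G) →
      (∀ x ∈ X, ∀ g ∈ T ⊓ centralizer ((⨆ b, N b : Subgroup G) : Set G), x * g * x⁻¹ * g⁻¹ ∈ l c) →
      T ⊓ centralizer ((⨆ b, N b : Subgroup G) : Set G) ≤ centralizer (X : Set G))
    {c : ι} (hc : c ≠ j) : R ≤ normalizer ((N c ⊔ zl T R : Subgroup G) : Set G) := by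
  by_contra hcon
  have hA0 : ¬ A ⊓ centralizer (zl T R : Set G) ≤ centralizer (cj y (N c) : Set G) :=
    fun h1 => hcon ((e c).1 h1)
  have hRl := (e c).2 hA0
  have hAT : A ≤ T := x.mem.2.1.trans h.OT
  set W := cj y (N c) with hW
  have hWE : W ≤ E c := by
    have h1 := cj_mono y (h.NE c hc)
    rwa [cj_eq_of_mem_normalizer (h.RE c hc hy)] at h1
  have hWT : W ≤ T := hWE.trans ((h.EO c hc).trans h.OT)
  have hEc := comA (h.eab c hc)
  have hWN : ∀ b, W ≤ centralizer (N b : Set G) := by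
    intro b
    by_cases hbj : b = j
    · subst hbj
      exact hWE.trans (hEc.trans (centralizer_le (h.jE c hc)))
    by_cases hbc : b = c
    · subst hbc
      exact hWE.trans (hEc.trans (centralizer_le (h.NE b hc)))
    intro a ha
    refine mem_centralizer_iff.2 fun v hv => ?_
    have h1 := memc h x F hc hbj hy a ha v hv
    have h2 : a * v * a⁻¹ * v⁻¹ ∈ l c := by
      have hn : y⁻¹ * a * y ∈ N c := mem_cj.1 ha
      have hv' : y⁻¹ * v * y ∈ cj y⁻¹ (N b) := by
        rw [mem_cj]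
        have e1 : y⁻¹⁻¹ * (y⁻¹ * v * y) * y⁻¹ = v := by group
        rw [e1]; exact hv
      have h3 := inv_mem (memc h x F hbj hc (inv_mem hy) _ hv' _ hn)
      have h4 := (mem_normalizer_iff.1 (hRl hy) _).1 h3
      have e2 : y * (y⁻¹ * v * y * (y⁻¹ * a * y) * (y⁻¹ * v * y)⁻¹ * (y⁻¹ * a * y)⁻¹)⁻¹ * y⁻¹ =
          a * v * a⁻¹ * v⁻¹ := by group
      rwa [e2] at h4
    have h3 : a * v * a⁻¹ * v⁻¹ = 1 := by
      have h4 : a * v * a⁻¹ * v⁻¹ ∈ N b ⊓ N c := ⟨h.lN b h1, h.lN c h2⟩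
      rw [h.dis b c hbc] at h4
      exact mem_bot.1 h4
    have h4 : a * v = v * a := by
      calc a * v = a * v * a⁻¹ * v⁻¹ * (v * a) := by group
        _ = v * a := by rw [h3, one_mul]
    exact h4.symm
  have hWQ : W ≤ T ⊓ centralizer ((⨆ b, N b : Subgroup G) : Set G) := fun a ha =>
    (Q_eq h).2 ⟨hWT ha, fun b => hWN b ha⟩
  have hfix := fixV c hc W hWE hWQ (by
    intro w hw g hg
    have hg2 := (Q_eq h).1 hg
    have hgR : g ∈ o2 R := F ⟨hg2.1, hg2.2 j⟩
    have hg' : y⁻¹ * g * y ∈ o2 R := by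
      have h1 := (mem_normalizer_iff.1 (le_normalizer_o2 R (inv_mem hy)) g).1 hgR
      rwa [inv_inv] at h1
    have hn : y⁻¹ * w * y ∈ N c := mem_cj.1 hw
    have hcl : y⁻¹ * g * y ∈ centralizer (l c : Set G) := by
      refine mem_centralizer_iff.2 fun z hz => ?_
      have h1 := (mem_normalizer_iff.1 (hRl hy) z).1 hz
      have h2 := mem_centralizer_iff.1 (hg2.2 c) _ (h.lN c h1)
      calc z * (y⁻¹ * g * y) = y⁻¹ * (y * z * y⁻¹ * g) * y := by group
        _ = y⁻¹ * (g * (y * z * y⁻¹)) * y := by rw [h2]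
        _ = y⁻¹ * g * y * z := by group
    have h3 := inv_mem ((h.rt c _ (QT h hg') hcl).1 _ hn)
    have h4 := (mem_normalizer_iff.1 (hRl hy) _).1 h3
    have e2 : y * (y⁻¹ * g * y * (y⁻¹ * w * y) * (y⁻¹ * g * y)⁻¹ * (y⁻¹ * w * y)⁻¹)⁻¹ * y⁻¹ =
        w * g * w⁻¹ * g⁻¹ := by group
    rwa [e2] at h4)
  apply hA0
  refine le_trans ?_ hfix
  intro a ha
  refine (Q_eq h).2 ⟨hAT ha.1, fun b => ?_⟩
  by_cases hb : b = j
  · subst hb
    exact x.cU ha
  · exact x.pure b hb ha.1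

/-- (Y3) -/
theorem Y3 {y : G} (hy : y ∈ R) (e : Exc T R N l A y)
    (fixV : ∀ c, c ≠ j → ∀ X : Subgroup G, X ≤ E c →
      X ≤ T ⊓ centralizer ((⨆ b, N b : Subgroup G) : Set G) →
      (∀ x ∈ X, ∀ g ∈ T ⊓ centralizer ((⨆ b, N b : Subgroup G) : Set G), x * g * x⁻¹ * g⁻¹ ∈ l c) →
      T ⊓ centralizer ((⨆ b, N b : Subgroup G) : Set G) ≤ centralizer (X : Set G)) :
    R ≤ normalizer ((⨆ b, N b : Subgroup G) : Set G) := by
  have hall : ∀ b, R ≤ normalizer ((N b ⊔ zl T R : Subgroup G) : Set G) := by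
    intro b
    by_cases hb : b = j
    · subst hb
      apply (e b).1
      have h1 : A ⊓ centralizer (zl T R : Set G) ≤ o2 R := by
        rw [← h.UQ]
        exact inf_le_inf_right _ (x.mem.2.1.trans h.OT)
      have h2 := cj_mono y x.QN
      rw [cj_eq_of_mem_normalizer (le_normalizer_o2 R hy), cj_centralizer] at h2
      exact h1.trans h2
    · exact Y2 h x F hy e fixV hb
  intro g hg
  rw [mem_normalizer_iff_cj]
  have h1 : (⨆ b, N b) = ⨆ b, (N b ⊔ zl T R) := by
    apply le_antisymm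
    · exact iSup_mono fun b => le_sup_left
    · exact iSup_le fun b => sup_le (le_iSup N b) (U_le_V h x F)
  rw [h1]
  show (⨆ b, (N b ⊔ zl T R)).map _ = _
  rw [Subgroup.map_iSup]
  exact iSup_congr fun b => mem_normalizer_iff_cj.1 (hall b hg)

end main

/-- **(Y)**: the end of the active case. -/
theorem main (hFF : FFThm.Stmt.{u}) (h : Fr T O R N l E j) {A : Subgroup G} (x : X3 T O R N l j A)
    {y : G} (hy : y ∈ R) (e : Exc T R N l A y)
    (fixV : ∀ c, c ≠ j → ∀ X : Subgroup G, X ≤ E c →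
      X ≤ T ⊓ centralizer ((⨆ b, N b : Subgroup G) : Set G) →
      (∀ x ∈ X, ∀ g ∈ T ⊓ centralizer ((⨆ b, N b : Subgroup G) : Set G), x * g * x⁻¹ * g⁻¹ ∈ l c) →
      T ⊓ centralizer ((⨆ b, N b : Subgroup G) : Set G) ≤ centralizer (X : Set G)) :
    R ≤ normalizer ((⨆ b, N b : Subgroup G) : Set G) :=
  Y3 h x (cT h hFF x) hy e fixV

end Cfsg.Agent.Omega.NOThreeL.RWide.UniT.YY
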