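import Cfsg.Agent.Omega.NOThreeL.RWide.UniT.Exc
import Cfsg.Agent.Omega.NOThreeL.RWide.UniT.YY
import Cfsg.Agent.Omega.NOThreeL.RWide.UniT.FixB

/-!
# UNI_T: the active case (#27590)

`active`, **`active'`** : if some `A ∈ AA(O)` is not in `O₂(R)` then `R` normalises `⨆ b, N b` (over `Fr`).
-/

set_option autoImplicit false
set_option linter.unusedSectionVars false

namespace Cfsg.Agent.Omega.NOThreeL.RWide.UniT.Act

open Subgroup Cfsg Cfsg.Agent.Omega.MinPar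
open Cfsg.Agent.ZN (zc o2 zl)
open Cfsg.Agent.ZN.ChoiceBase (cj cj_mono cj_cj cj_inv_cj mem_cj mem_normalizer_iff_cj AA)
open Cfsg.Agent.Omega.SQ1.Bau (mem_sup_comm)
open Cfsg.Agent.Omega.NOThreeL.RWide.UniT.YY (X3 Exc)
open Cfsg.Agent.Omega.FFThm (Off NoOver)

universe u v

variable {G : Type u} [Group G] {ι : Type v} [Finite G] {T O R : Subgroup G} {N l E : ι → Subgroup G} {j : ι}

theorem off_U (h : Fr T O R N l E j) {A : Subgroup G} (hA : A ∈ AA O) (hAQ : ¬ A ≤ o2 R) : Off (zl T R) A := by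
  have hAT : A ≤ T := hA.2.1.trans h.OT
  refine ⟨hA.1, fun h1 => hAQ ?_, thom hA h.Ueab h.UO⟩
  rw [← h.UQ]
  exact le_inf hAT h1

theorem noOver (hFF : FFThm.Stmt.{u}) (h : Fr T O R N l E j) (hA : ∃ A ∈ AA O, ¬ A ≤ o2 R) :
    NoOver (zl T R) R := by
  obtain ⟨A, hA, hAQ⟩ := hA
  exact (hFF G T R h.syl h.par h.cR ⟨A, (hA.2.1.trans h.OT).trans h.TR, off_U h hA hAQ⟩).1

theorem x3_of (h : Fr T O R N l E j) (hno : NoOver (zl T R) R) (hA : ∃ A ∈ AA O, ¬ A ≤ o2 R) :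
    ∃ A, X3 T O R N l j A := by
  obtain ⟨A₁, hA₁, hA₁Q⟩ := hA
  obtain ⟨A, hA, hAN, hAc⟩ := h.pure j
  obtain ⟨c, hc⟩ := h.ex
  have hcO := h.EO c hc
  have hAT : A ≤ T := hA.2.1.trans h.OT
  obtain ⟨h1, h2, h3, h4, h5, h6⟩ :=
    h.x3 hno hc hcO ⟨A₁, hA₁, hA₁.2.1.trans h.OT, hA₁Q⟩ hA hAT hAN
  refine ⟨A, hA, hAc, h1, h2, h3, fun v hv => ?_, h5, h6⟩
  have hcU : ∀ u ∈ zl T R, ∀ x ∈ (N j ⊔ zl T R) ⊓ centralizer (A : Set G), u * x = x * u := by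
    intro u hu x hx
    exact eab_comm (h.eab c hc) (h.UE hc hu) ((sup_le (h.jE c hc) (h.UE hc) : N j ⊔ zl T R ≤ E c)
      (mem_inf.1 hx).1)
  obtain ⟨u, hu, x, hx, e⟩ := mem_sup_comm hcU (h4 (mem_sup_left hv))
  exact ⟨u, hu, x, (mem_inf.1 hx).2, e⟩

theorem exc_of (h : Fr T O R N l E j) (hno : NoOver (zl T R) R) {A : Subgroup G} (hA : A ∈ AA O)
    (hAQ : ¬ A ≤ o2 R) : ∃ y ∈ R, Exc T R N l A y := by
  have hAT : A ≤ T := hA.2.1.trans h.OT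
  obtain ⟨y, hy, hg⟩ := h.gen hAT hAQ
  refine ⟨y, hy, fun b => ?_⟩
  obtain ⟨c, hc, hbc⟩ := h.exists_E b
  have hcO := h.EO c hc
  have hex := h.exc hno hc hcO hbc hA hAT hy
  refine ⟨fun h1 => ?_, fun h1 => ?_⟩
  · rcases hex with h2 | ⟨h2, -⟩
    · exact h.norm_sup hA.1 hAT hy hg h2
    · exact absurd h1 h2
  · rcases hex with h2 | ⟨-, h2⟩
    · exfalso
      apply h1
      have h3 := (h.exact hno hc hcO hA hAT).1
      intro a ha
      exact mem_c.2 fun v hv => eab_comm h3 (mem_sup_left ha) (h2 hv)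
    · refine hg _ (h.Tl b) fun a' ha' => ?_
      have haA : y * a' * y⁻¹ ∈ A := by
        have := mem_cj.1 ha'
        rwa [inv_inv] at this
      rw [mem_normalizer_iff_cj]
      have h3 := congrArg (cj y⁻¹) (h2 _ haA)
      rw [cj_cj, cj_cj, cj_inv_cj] at h3
      have e : y⁻¹ * (y * a' * y⁻¹) * y = a' := by group
      rwa [e] at h3

/-- **The active case.** -/
theorem active (hFF : FFThm.Stmt.{u}) (h : Fr T O R N l E j) (hA : ∃ A ∈ AA O, ¬ A ≤ o2 R)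
    (fixV : ∀ c, c ≠ j → ∀ X : Subgroup G, X ≤ E c →
      X ≤ T ⊓ centralizer ((⨆ b, N b : Subgroup G) : Set G) →
      (∀ x ∈ X, ∀ g ∈ T ⊓ centralizer ((⨆ b, N b : Subgroup G) : Set G), x * g * x⁻¹ * g⁻¹ ∈ l c) →
      T ⊓ centralizer ((⨆ b, N b : Subgroup G) : Set G) ≤ centralizer (X : Set G)) :
    R ≤ normalizer ((⨆ b, N b : Subgroup G) : Set G) := by
  have hno := noOver hFF h hA
  obtain ⟨A, x⟩ := x3_of h hno hA
  obtain ⟨y, hy, e⟩ := exc_of h hno x.mem x.nQ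
  exact YY.main hFF h x hy e fixV

/-- **The active case**, `fixV` plugged. -/
theorem active' (hFF : FFThm.Stmt.{u}) (h : Fr T O R N l E j) (hA : ∃ A ∈ AA O, ¬ A ≤ o2 R) :
    R ≤ normalizer ((⨆ b, N b : Subgroup G) : Set G) :=
  active hFF h hA fun _ hc _ hX hXQ hl => h.fixV' hc hX hXQ hl

end Cfsg.Agent.Omega.NOThreeL.RWide.UniT.Act
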