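import Cfsg.Agent.Omega.NOThreeL.RWide.UniT.Fr
import Cfsg.Agent.Omega.NOThreeL.RWide.ParQ.I
import Cfsg.Agent.Omega.NOThreeL.RWide.VPerm

/-!
# `parT` (helper995 #27590): the end

`T = TT S N`, `P ∈ 𝒫(T)`, `P ≤ Y_j`, `P` moves `F j`.

* `end_V` : `P ≤ N_G(V)` fixes all blocks;
* **`parT_of`** : `parT` (literal of helper848 #27137) from the frame `Fr`, `active`, (A1), (A2).
-/

set_option autoImplicit false
set_option linter.unusedSectionVars false

namespace Cfsg.Agent.Omega.NOThreeL.RWide.UniT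

open Subgroup Cfsg Cfsg.Agent.Omega.MinPar Cfsg.Agent.Omega.Frame
open Cfsg.Agent.ZN (zc o2 zl)
open Cfsg.Agent.ZN.ChoiceBase (cj AA)
open Cfsg.Agent.MinSimple.MinParabolic (IsMinPar)
open Cfsg.Agent.Omega.EDel.ThmU (XF)
open Cfsg.Agent.Omega.NOThreeL.RWide.TAct (TT BB Tf OT)
open Cfsg.Agent.Omega.NOThreeL.RWide.ParQ (toTf)

universe u v

variable {G : Type u} [Group G] [Finite G] {ι : Type v} [Finite ι] [Nonempty ι] {S : Sylow 2 G} {V : Subgroup G}
  {N l E : ι → Subgroup G}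

/-- `C_G(Ω₁Z(S)) ≤ N_G(∏ l b)` from `ln` -/
theorem cz_of_ln (ln : ∀ c ∈ centralizer (zc (S : Subgroup G) : Set G), ∀ b, ∃ b', cj c (l b) = l b') :
    centralizer (zc (S : Subgroup G) : Set G) ≤ normalizer ((⨆ b, l b : Subgroup G) : Set G) := by
  intro c hc
  refine Cfsg.Agent.ZN.ChoiceBase.mem_normalizer_of_cj_le ?_
  rw [cj, Subgroup.map_iSup]
  refine iSup_le fun b => ?_
  obtain ⟨b', hb'⟩ := ln c hc b
  exact (le_of_eq hb').trans (le_iSup l b')

/-- `R ≤ Y_j ∩ N_G(V)` fixes all blocks. -/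
theorem end_V (h : TFm S V N l E)
    (ln : ∀ c ∈ centralizer (zc (S : Subgroup G) : Set G), ∀ b, ∃ b', cj c (l b) = l b') {j : ι} {R : Subgroup G}
    (hRY : R ≤ YY (TAct.FF (S : Subgroup G) N l) j) (hV : R ≤ normalizer ((⨆ b, N b : Subgroup G) : Set G)) (b : ι) :
    R ≤ normalizer (N b : Set G) := by
  have t := toTf h
  have hp : ∀ g ∈ normalizer (V : Set G), ∀ b, ∃ c, cj g (N b) = N c :=
    h.V_perm t.permX fun R hR hRC _ => hRC.trans (cz_of_ln ln)
  intro g hg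
  have hgV : g ∈ normalizer (V : Set G) := by
    have := hV hg
    rwa [h.sup] at this
  choose f hf using hp g hgV
  have hinj : Function.Injective f := by
    intro a c e
    apply t.N_inj
    have h1 : cj g (N a) = cj g (N c) := by rw [hf a, hf c, e]
    have h2 := congrArg (cj g⁻¹) h1
    rwa [Cfsg.Agent.ZN.ChoiceBase.cj_inv_cj, Cfsg.Agent.ZN.ChoiceBase.cj_inv_cj] at h2
  have hb : Function.Bijective f := ⟨hinj, Finite.injective_iff_surjective.1 hinj⟩
  have h1 := t.perm_eq (hRY hg) (σ := Equiv.ofBijective f hb) (fun b => hf b) b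
  have h2 := hf b
  have h3 : f b = b := h1
  rw [h3] at h2
  exact Cfsg.Agent.ZN.ChoiceBase.mem_normalizer_iff_cj.2 h2

/-- **`parT`** from its pieces. -/
theorem parT_of (h : TFm S V N l E)
    (ln : ∀ c ∈ centralizer (zc (S : Subgroup G) : Set G), ∀ b, ∃ b', cj c (l b) = l b')
    (fr : ∀ j P, IsMinPar (TT (S : Subgroup G) N) P → P ≤ YY (TAct.FF (S : Subgroup G) N l) j →
      ¬ P ≤ centralizer (TAct.FF (S : Subgroup G) N l j : Set G) →
      Fr (TT (S : Subgroup G) N) (OT (TT (S : Subgroup G) N)) P N l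
        (fun c => XS (zc (TT (S : Subgroup G) N)) (XF (TAct.FF (S : Subgroup G) N l) j c)) j)
    (active : ∀ (j : ι) (P : Subgroup G), Fr (TT (S : Subgroup G) N) (OT (TT (S : Subgroup G) N)) P N l
        (fun c => XS (zc (TT (S : Subgroup G) N)) (XF (TAct.FF (S : Subgroup G) N l) j c)) j →
      (∃ A ∈ AA (OT (TT (S : Subgroup G) N)), ¬ A ≤ o2 P) → P ≤ normalizer ((⨆ b, N b : Subgroup G) : Set G))
    (A1 : ∀ j P, IsMinPar (TT (S : Subgroup G) N) P → P ≤ YY (TAct.FF (S : Subgroup G) N l) j →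
      ¬ P ≤ centralizer (TAct.FF (S : Subgroup G) N l j : Set G) → zl (TT (S : Subgroup G) N) P ≤ ⨆ b, l b →
      ∀ b, P ≤ normalizer (N b : Set G))
    (A2 : ∀ j P, Fr (TT (S : Subgroup G) N) (OT (TT (S : Subgroup G) N)) P N l
        (fun c => XS (zc (TT (S : Subgroup G) N)) (XF (TAct.FF (S : Subgroup G) N l) j c)) j →
      P ≤ YY (TAct.FF (S : Subgroup G) N l) j → ¬ zl (TT (S : Subgroup G) N) P ≤ ⨆ b, l b →
      ∃ A ∈ AA (OT (TT (S : Subgroup G) N)), ¬ A ≤ o2 P) :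
    ∀ j P, IsMinPar (TT (S : Subgroup G) N) P → P ≤ YY (TAct.FF (S : Subgroup G) N l) j →
      P ≤ centralizer (TAct.FF (S : Subgroup G) N l j : Set G) ∨ ∀ i, P ≤ normalizer (N i : Set G) := by
  intro j P hP hPY
  by_cases hF : P ≤ centralizer (TAct.FF (S : Subgroup G) N l j : Set G)
  · exact Or.inl hF
  refine Or.inr ?_
  by_cases hU : zl (TT (S : Subgroup G) N) P ≤ ⨆ b, l b
  · exact A1 j P hP hPY hF hU
  · have hfr := fr j P hP hPY hF
    exact end_V h ln hPY (active j P hfr (A2 j P hfr hPY hU))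

end Cfsg.Agent.Omega.NOThreeL.RWide.UniT
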