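import Cfsg.Agent.Omega.NOThreeL.RWide.UniT.Fr
import Cfsg.Agent.ZN.Facts
import Cfsg.Agent.Omega.SQ1.Bau

/-!
# UNI_T: the exchange (steps EXC, X1, X2, X3 of helper995 #27590)

* `Fr.gen` : for `A ≤ T`, `A ≰ O₂(R)`, some `y ∈ R` with `R = ⟨T, A^(y⁻¹)⟩`;
* `Fr.T_of` : `A ∈ AA(O)`, `x ∈ R`, `A^x ≤ T`: `A^x` is trivial or full on every block;
* `Fr.exact` : `C_A(U) U ∈ AA(O)`;
* `Fr.exc` : **the exchange**; `Fr.norm_sup`;
* `Fr.not_norm` : `R` does not normalise `l j`; `Fr.RY` : `R` normalises `N j · U`;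
* `Fr.le_cent` : `A ∈ AA(O)`, `A ≤ O₂(R)` ⇒ `[N j, A] = 1`; `Fr.cov`, `Fr.l_le`, `Fr.QR_le`.
-/

set_option autoImplicit false
set_option linter.unusedSectionVars false

namespace Cfsg.Agent.Omega.NOThreeL.RWide.UniT

open Subgroup Cfsg Cfsg.Agent.Omega.MinPar
open Cfsg.Agent.ZN (zc o2 zl)
open Cfsg.Agent.ZN.ChoiceBase (cj cj_mono cj_inf cj_centralizer cj_eq_of_mem_normalizer mem_cj mem_normalizer_iff_cj
  cj_cj_inv cj_inv_cj cj_cj cj_one isPGroup_cj card_cj AA mem_normalizer_of_cj_le cj_le_iff isElementaryAbelian_cj)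
open Cfsg.Agent.ZN.ChoiceSit (Syl syl_not_dvd le_normalizer_o2 o2_le_syl o2_le)
open Cfsg.Agent.MinSimple.MinParabolic (IsMinPar)
open Cfsg.Agent.Omega.SQ1.Bau (mem_sup_comm)

universe u v

variable {G : Type u} [Group G] {ι : Type v}

theorem conj_cj {g v : G} {H : Subgroup G} (hv : v ∈ H) : g * v * g⁻¹ ∈ cj g H := by
  rw [mem_cj]
  have e : g⁻¹ * (g * v * g⁻¹) * g = v := by group
  rwa [e]

theorem eab_comm {A : Subgroup G} (hA : IsElementaryAbelian 2 A) {x y : G} (hx : x ∈ A) (hy : y ∈ A) : x * y = y * x :=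
  congrArg (fun t : A => (t : G)) (hA.1.is_comm.comm ⟨x, hx⟩ ⟨y, hy⟩)

theorem exists_ne_of {l : Subgroup G} (hl : l ≠ ⊥) : ∃ z ∈ l, z ≠ 1 := by
  by_contra hcon
  push Not at hcon
  exact hl (eq_bot_iff.2 fun z hz => mem_bot.2 (hcon z hz))

theorem eab_of {A : Subgroup G} (hc : ∀ x ∈ A, ∀ y ∈ A, x * y = y * x) (h2 : ∀ x ∈ A, x * x = 1) :
    IsElementaryAbelian 2 A :=
  ⟨⟨⟨fun a b => Subtype.ext (hc a a.2 b b.2)⟩⟩, fun a ha => by rw [pow_two]; exact h2 a ha⟩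

theorem mem_c {g : G} {H : Subgroup G} : g ∈ centralizer (H : Set G) ↔ ∀ x ∈ H, g * x = x * g := by
  rw [mem_centralizer_iff]
  exact ⟨fun h x hx => (h x hx).symm, fun h x hx => (h x hx).symm⟩

theorem comm_one {g x : G} (h : g * x = x * g) : g * x * g⁻¹ * x⁻¹ = 1 := by
  rw [h]; group

theorem comm_of_one {g x : G} (h : g * x * g⁻¹ * x⁻¹ = 1) : g * x = x * g := by
  have e : g * x = (g * x * g⁻¹ * x⁻¹) * (x * g) := by group
  rw [e, h, one_mul]

namespace Fr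

variable [Finite G] {T O R : Subgroup G} {N l E : ι → Subgroup G} {j : ι} (h : Fr T O R N l E j)
include h

theorem TR : T ≤ R := h.syl.1

theorem R_norm_U : R ≤ normalizer (zl T R : Set G) := Cfsg.Agent.ZN.le_normalizer_zl T R

theorem cjU {x : G} (hx : x ∈ R) : cj x (zl T R) = zl T R := cj_eq_of_mem_normalizer (h.R_norm_U hx)

theorem UE {c : ι} (hc : c ≠ j) : zl T R ≤ E c := Cfsg.Agent.ZN.zl_le (h.ZE c hc) (h.RE c hc)

theorem exists_E (b : ι) : ∃ c, c ≠ j ∧ N b ≤ E c := by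
  by_cases hb : b = j
  · subst hb
    obtain ⟨c, hc⟩ := h.ex
    exact ⟨c, hc, h.jE c hc⟩
  · exact ⟨b, hb, h.NE b hb⟩

theorem Ueab : IsElementaryAbelian 2 (zl T R) := by
  obtain ⟨c, hc⟩ := h.ex
  exact eab_mono (h.eab c hc) (h.UE hc)

theorem UO : zl T R ≤ O := by
  obtain ⟨c, hc⟩ := h.ex
  exact (h.UE hc).trans (h.EO c hc)

theorem Uo2 : zl T R ≤ o2 R := by
  rw [← h.UQ]
  exact le_inf (h.UO.trans h.OT) (comA h.Ueab)

theorem o2T : o2 R ≤ T := h.UQ ▸ inf_le_left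

theorem o2U : o2 R ≤ centralizer (zl T R : Set G) := h.UQ ▸ inf_le_right

theorem Neab (b : ι) : IsElementaryAbelian 2 (N b) := by
  obtain ⟨c, hc, h1⟩ := h.exists_E b
  exact eab_mono (h.eab c hc) h1

theorem commU (b : ι) : ∀ v ∈ N b, ∀ u ∈ zl T R, v * u = u * v := by
  obtain ⟨c, hc, h1⟩ := h.exists_E b
  exact fun v hv u hu => eab_comm (h.eab c hc) (h1 hv) (h.UE hc hu)

theorem cjE {c : ι} (hc : c ≠ j) {x : G} (hx : x ∈ R) : cj x (E c) = E c := cj_eq_of_mem_normalizer (h.RE c hc hx)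

/-! ### Generation -/

/-- `R = ⟨T, A^(y⁻¹)⟩` for some `y ∈ R` -/
theorem gen {A : Subgroup G} (hAT : A ≤ T) (hA : ¬ A ≤ o2 R) :
    ∃ y ∈ R, ∀ K : Subgroup G, T ≤ K → cj y⁻¹ A ≤ K → R ≤ K := by
  have : Fact (Nat.Prime 2) := ⟨Nat.prime_two⟩
  obtain ⟨M, hMR, hM⟩ := h.par.exists_max
  have hTM : T ≤ M := by
    refine hM T le_rfl (lt_of_le_of_ne h.TR ?_)
    rintro e
    exact h.par.not_le (e ▸ le_normalizer)
  have key : ∃ y ∈ R, ¬ cj y⁻¹ A ≤ M := by
    by_contra hcon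
    push Not at hcon
    set K : Subgroup G := ⨆ r : R, cj (r : G) A with hK
    have hAK : A ≤ K := by
      have h1 : cj ((1 : R) : G) A ≤ K := le_iSup (fun r : R => cj (r : G) A) 1
      rwa [Subgroup.coe_one, cj_one] at h1
    have hKM : K ≤ M := iSup_le fun r => by
      have h1 := hcon (r : G)⁻¹ (inv_mem r.2)
      rwa [inv_inv] at h1
    have hKR : K ≤ R := hKM.trans hMR.le
    have hn : R ≤ normalizer (K : Set G) := by
      intro x hx
      refine mem_normalizer_of_cj_le ?_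
      show Subgroup.map _ K ≤ K
      rw [hK, Subgroup.map_iSup]
      refine iSup_le fun r => ?_
      show cj x (cj (r : G) A) ≤ _
      rw [cj_cj]
      exact le_iSup (fun r : R => cj (r : G) A) (⟨x, hx⟩ * r)
    rcases h.par.sup_eq_or_inf_le h.two (syl_not_dvd h.syl) hKR hn with h1 | h1
    · exact hMR.not_ge (h1 ▸ sup_le hKM hTM)
    · exact hA ((le_inf hAT hAK).trans h1)
  obtain ⟨y, hy, hyM⟩ := key
  refine ⟨y, hy, fun K hTK hAK => ?_⟩
  by_contra hne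
  have h1 : K ⊓ R < R := lt_of_le_of_ne inf_le_right fun e => hne (e ▸ inf_le_left)
  have h2 := hM (K ⊓ R) (le_inf hTK h.TR) h1
  refine hyM ((le_inf hAK ?_).trans h2)
  rw [cj_le_iff, inv_inv, cj_eq_of_mem_normalizer (le_normalizer hy)]
  exact hAT.trans h.TR

/-! ### `(T)` -/

theorem T_of {O' A : Subgroup G} {b c : ι} (hc : c ≠ j) (hcO : E c ≤ O') (hb : N b ≤ E c) (hA : A ∈ AA O') {x : G}
    (hx : x ∈ R) (hxT : cj x A ≤ T) :
    cj x A ≤ centralizer (N b : Set G) ∨ Full (cj x A) (N b) (l b) := by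
  refine h.off b _ hxT (isElementaryAbelian_cj x hA.1) ?_
  have h1 : cj x⁻¹ (N b) ≤ E c := by
    rw [← h.cjE hc (inv_mem hx)]
    exact cj_mono _ hb
  have h2 := thom hA (isElementaryAbelian_cj x⁻¹ (h.Neab b)) (h1.trans hcO)
  rw [card_cj] at h2
  have h3 : Nat.card ↥(A ⊓ centralizer ((cj x⁻¹ (N b) : Subgroup G) : Set G)) =
      Nat.card ↥(cj x A ⊓ centralizer (N b : Set G)) := by
    rw [← card_cj x (A ⊓ _), cj_inf, cj_centralizer, cj_cj_inv]
  have h4 : Nat.card ↥(cj x⁻¹ (N b) ⊓ centralizer (A : Set G)) =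
      Nat.card ↥(N b ⊓ centralizer ((cj x A : Subgroup G) : Set G)) := by
    rw [← card_cj x (cj x⁻¹ (N b) ⊓ _), cj_inf, cj_centralizer, cj_cj_inv]
  rw [h3, h4] at h2
  rw [card_cj]
  exact h2

theorem T_one {O' A : Subgroup G} {b c : ι} (hc : c ≠ j) (hcO : E c ≤ O') (hb : N b ≤ E c) (hA : A ∈ AA O')
    (hAT : A ≤ T) : A ≤ centralizer (N b : Set G) ∨ Full A (N b) (l b) := by
  have h1 := h.T_of hc hcO hb hA (one_mem R) (by rw [cj_one]; exact hAT)
  rwa [cj_one] at h1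

theorem inl_of {O' A : Subgroup G} {b c : ι} (hc : c ≠ j) (hcO : E c ≤ O') (hb : N b ≤ E c) (hA : A ∈ AA O') {x : G}
    (hx : x ∈ R) (hxT : cj x A ≤ T) : ∀ a ∈ cj x A, ∀ v ∈ N b, a * v * a⁻¹ * v⁻¹ ∈ l b := by
  intro a ha v hv
  rcases h.T_of hc hcO hb hA hx hxT with h1 | h1
  · rw [comm_one (mem_c.1 (h1 ha) v hv)]
    exact one_mem _
  · exact h1.inl a ha v hv

theorem cent_l {O' A : Subgroup G} {b c : ι} (hc : c ≠ j) (hcO : E c ≤ O') (hb : N b ≤ E c) (hA : A ∈ AA O')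
    (hAT : A ≤ T) : A ≤ centralizer (l b : Set G) := by
  rcases h.T_one hc hcO hb hA hAT with h1 | h1
  · exact h1.trans (centralizer_le (h.lN b))
  · exact h1.cent

/-! ### Exactness on `U` -/

section act

variable (hno : FFThm.NoOver (zl T R) R)
include hno

theorem exact_le {A : Subgroup G} (hA : IsElementaryAbelian 2 A) (hAT : A ≤ T) :
    Nat.card A * Nat.card ↥(zl T R ⊓ centralizer (A : Set G)) ≤
      Nat.card (zl T R) * Nat.card ↥(A ⊓ centralizer (zl T R : Set G)) :=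
  hno A (hAT.trans h.TR) hA

theorem exact {O' A : Subgroup G} {c : ι} (hc : c ≠ j) (hcO : E c ≤ O') (hA : A ∈ AA O') (hAT : A ≤ T) :
    (A ⊓ centralizer (zl T R : Set G)) ⊔ zl T R ∈ AA O' :=
  swap_mem hA h.Ueab ((h.UE hc).trans hcO) (h.exact_le hno hA.1 hAT)

omit hno in
theorem A0_le {A : Subgroup G} (hA : A ≤ T) : (A ⊓ centralizer (zl T R : Set G)) ⊔ zl T R ≤ o2 R := by
  refine sup_le ?_ h.Uo2
  rw [← h.UQ]
  exact inf_le_inf_right _ hA

omit h hno in
/-- a full group has `C_N(A) = l` -/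
theorem _root_.Cfsg.Agent.Omega.NOThreeL.RWide.UniT.Full.inf_eq {A N l : Subgroup G} (hf : Full A N l) (hlN : l ≤ N)
    (hl : l ≠ ⊥) : N ⊓ centralizer (A : Set G) = l := by
  apply le_antisymm
  · rintro v ⟨hv, hvA⟩
    by_contra hvl
    obtain ⟨z, hz, hz1⟩ := exists_ne_of hl
    obtain ⟨a, ha, hz'⟩ := hf.onA v hv hvl z hz
    rw [comm_one (mem_c.1 hvA a ha).symm] at hz'
    exact hz1 hz'.symm
  · refine le_inf hlN fun z hz => mem_c.2 fun a ha => (mem_c.1 (hf.cent ha) z hz).symm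

/-- **the exchange** -/
theorem exc {O' A : Subgroup G} {b c : ι} (hc : c ≠ j) (hcO : E c ≤ O') (hbc : N b ≤ E c) (hA : A ∈ AA O')
    (hAT : A ≤ T) {y : G} (hy : y ∈ R) :
    cj y (N b) ≤ (A ⊓ centralizer (zl T R : Set G)) ⊔ zl T R ∨
      (¬ A ⊓ centralizer (zl T R : Set G) ≤ centralizer ((cj y (N b) : Subgroup G) : Set G) ∧
        ∀ a ∈ A, cj a (cj y (l b)) = cj y (l b)) := by
  set U := zl T R with hU
  set A0 := A ⊓ centralizer (U : Set G) with hA0
  set N' := cj y (N b) with hN'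
  have hE0 : A0 ⊔ U ∈ AA O' := h.exact hno hc hcO hA hAT
  have hN'E : N' ≤ E c := by
    rw [← h.cjE hc hy]
    exact cj_mono _ hbc
  have hN'eab : IsElementaryAbelian 2 N' := isElementaryAbelian_cj y (h.Neab b)
  have hUN : U ≤ centralizer (N' : Set G) := fun u hu => mem_c.2 fun v hv =>
    eab_comm (h.eab c hc) (h.UE hc hu) (hN'E hv)
  by_cases hcase : A0 ≤ centralizer (N' : Set G)
  · left
    have h1 : A0 ⊔ U ≤ centralizer (N' : Set G) := sup_le hcase hUN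
    have h2 := cent_le hE0 hN'eab (hN'E.trans hcO)
    refine (le_inf le_rfl fun v hv => mem_c.2 fun e he => ?_).trans h2
    exact (mem_c.1 (h1 he) v hv).symm
  · refine Or.inr ⟨hcase, fun a ha => ?_⟩
    have haR : a ∈ R := h.TR (hAT ha)
    -- `A₀U` is full on `N'`
    have hE0T : cj y⁻¹ (A0 ⊔ U) ≤ T := by
      have h1 : A0 ⊔ U ≤ o2 R := h.A0_le hAT
      have h2 : cj y⁻¹ (A0 ⊔ U) ≤ o2 R := by
        rw [← cj_eq_of_mem_normalizer (le_normalizer_o2 R (inv_mem hy))]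
        exact cj_mono _ h1
      exact h2.trans h.o2T
    have hF : Full (cj y⁻¹ (A0 ⊔ U)) (N b) (l b) := by
      rcases h.T_of hc hcO hbc hE0 (inv_mem hy) hE0T with h1 | h1
      · exfalso
        apply hcase
        rw [cj_le_iff, inv_inv, cj_centralizer] at h1
        exact le_sup_left.trans h1
      · exact h1
    have hcard : Nat.card ↥(A0 ⊔ U) = Nat.card ↥((A0 ⊔ U) ⊓ centralizer (N' : Set G)) * Nat.card (l b) := by
      have h1 := hF.cardA
      rw [card_cj] at h1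
      rw [h1]
      congr 1
      rw [← card_cj y (cj y⁻¹ (A0 ⊔ U) ⊓ _), cj_inf, cj_centralizer, cj_cj_inv]
    -- `X = N' N'^a`
    set X := N' ⊔ cj a N' with hX
    have hXE : X ≤ E c := by
      refine sup_le hN'E ?_
      rw [← h.cjE hc haR]
      exact cj_mono _ hN'E
    have hXeab := eab_mono (h.eab c hc) hXE
    have hEa : ∀ e ∈ A0 ⊔ U, a * e * a⁻¹ ∈ A0 ⊔ U ∧ ∃ α ∈ A0, ∃ u ∈ U, e = α * u := by
      intro e he
      have hcA : ∀ α ∈ A0, ∀ u ∈ U, α * u = u * α := fun α hα u hu => mem_c.1 (mem_inf.1 hα).2 u hu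
      obtain ⟨α, hα, u, hu, rfl⟩ := mem_sup_comm hcA he
      refine ⟨?_, α, hα, u, hu, rfl⟩
      have e1 : a * (α * u) * a⁻¹ = (a * α * a⁻¹) * (a * u * a⁻¹) := by group
      rw [e1, eab_comm hA.1 ha hα.1, mul_inv_cancel_right]
      refine mul_mem (le_sup_left (a := A0) hα) (le_sup_right (a := A0) ?_)
      have := conj_cj (g := a) hu
      rwa [h.cjU haR] at this
    have hCX : (A0 ⊔ U) ⊓ centralizer (X : Set G) = (A0 ⊔ U) ⊓ centralizer (N' : Set G) := by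
      apply le_antisymm
      · exact inf_le_inf_left _ (centralizer_le (SetLike.coe_subset_coe.2 le_sup_left))
      · intro e he'
        obtain ⟨he, heN⟩ := mem_inf.1 he'
        refine mem_inf.2 ⟨he, ?_⟩
        obtain ⟨-, α, hα, u, hu, rfl⟩ := hEa e he
        have hαN : α ∈ centralizer (N' : Set G) := by
          have h1 := mul_mem heN (inv_mem (hUN hu))
          rwa [mul_inv_cancel_right] at h1
        have h2 : (cj a N') ≤ centralizer ((zpowers (α * u) : Subgroup G) : Set G) := by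
          intro w hw
          rw [mem_centralizer_iff]
          rintro _ ⟨k, rfl⟩
          have h3 : (α * u) * w = w * (α * u) := by
            obtain ⟨v, hv, rfl⟩ : ∃ v ∈ N', a * v * a⁻¹ = w := ⟨a⁻¹ * w * a, mem_cj.1 hw, by group⟩
            have h4 : α * (a * v * a⁻¹) = (a * v * a⁻¹) * α := by
              have e1 : α * (a * v * a⁻¹) = (α * a) * v * a⁻¹ := by group
              have e2 : (a * v * a⁻¹) * α = a * v * (a⁻¹ * α) := by group
              have e3 : a⁻¹ * α = α * a⁻¹ := eab_comm hA.1 (inv_mem ha) hα.1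
              rw [e1, e2, eab_comm hA.1 hα.1 ha, e3]
              have e4 : a * α * v * a⁻¹ = a * (α * v) * a⁻¹ := by group
              rw [e4, mem_c.1 hαN v hv]
              group
            have h5 : u * (a * v * a⁻¹) = (a * v * a⁻¹) * u :=
              eab_comm (h.eab c hc) (h.UE hc hu) (hXE (le_sup_right (a := N') (conj_cj hv)))
            rw [mul_assoc, h5, ← mul_assoc, h4, mul_assoc]
          exact (Commute.zpow_left (show Commute (α * u) w from h3) k)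
        rw [mem_c]
        intro x hx
        have h6 : X ≤ centralizer ((zpowers (α * u) : Subgroup G) : Set G) := by
          refine sup_le (fun v hv => ?_) h2
          rw [mem_centralizer_iff]
          rintro _ ⟨k, rfl⟩
          exact (Commute.zpow_left (show Commute (α * u) v from mem_c.1 heN v hv) k)
        exact (mem_centralizer_iff.1 (h6 hx)) _ (mem_zpowers _)
    have hthom := thom hE0 hXeab (hXE.trans hcO)
    rw [hCX, hcard] at hthom
    have hX1 : Nat.card X ≤ Nat.card (l b) * Nat.card ↥(X ⊓ centralizer ((A0 ⊔ U : Subgroup G) : Set G)) := by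
      have h1 : 0 < Nat.card ↥((A0 ⊔ U) ⊓ centralizer (N' : Set G)) := Nat.card_pos
      refine Nat.le_of_mul_le_mul_left ?_ h1
      calc _ = Nat.card X * Nat.card ↥((A0 ⊔ U) ⊓ centralizer (N' : Set G)) := mul_comm _ _
        _ ≤ _ := hthom
        _ = _ := by ring
    have hinf : N' ⊓ centralizer ((A0 ⊔ U : Subgroup G) : Set G) = cj y (l b) := by
      have h1 := hF.inf_eq (h.lN b) (h.lne b)
      have h2 := congrArg (cj y) h1
      rwa [cj_inf, cj_centralizer, cj_cj_inv] at h2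
    have hXeq : N' ⊔ (X ⊓ centralizer ((A0 ⊔ U : Subgroup G) : Set G)) = X := by
      refine Subgroup.eq_of_le_of_card_ge (sup_le le_sup_left inf_le_left) ?_
      have h1 : X ⊓ centralizer ((A0 ⊔ U : Subgroup G) : Set G) ≤ centralizer (N' : Set G) := fun x hx =>
        mem_c.2 fun v hv => eab_comm hXeab hx.1 (le_sup_left (b := cj a N') hv)
      have h2 := Cfsg.Agent.PLocal.ElemAbSup.card_sup_mul_card_inf h1
      have h3 : N' ⊓ (X ⊓ centralizer ((A0 ⊔ U : Subgroup G) : Set G)) = cj y (l b) := by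
        rw [← inf_assoc, inf_eq_left.2 (le_sup_left : N' ≤ X), hinf]
      rw [h3, card_cj, card_cj, h.cardN b] at h2
      have h4 : 0 < Nat.card (l b) := Nat.card_pos
      refine Nat.le_of_mul_le_mul_right ?_ h4
      rw [h2]
      calc Nat.card X * Nat.card (l b)
          ≤ (Nat.card (l b) * Nat.card ↥(X ⊓ centralizer ((A0 ⊔ U : Subgroup G) : Set G))) * Nat.card (l b) :=
            Nat.mul_le_mul_right _ hX1
        _ = _ := by ring
    -- lines
    have hle : cj a (cj y (l b)) ≤ cj y (l b) := by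
      intro w hw
      obtain ⟨e0, he0, he0N⟩ : ∃ e ∈ cj y⁻¹ (A0 ⊔ U), e ∉ centralizer (N b : Set G) := by
        by_contra hcon
        push Not at hcon
        exact hF.ne hcon
      have hz : y⁻¹ * (a⁻¹ * w * a) * y ∈ l b := mem_cj.1 (mem_cj.1 hw)
      obtain ⟨v, hv, hvz⟩ := hF.onN e0 he0 he0N _ hz
      have he0' : y * e0 * y⁻¹ ∈ A0 ⊔ U := by
        have := mem_cj.1 he0
        rwa [inv_inv] at this
      have hw1 : w = (a * (y * e0 * y⁻¹) * a⁻¹) * (a * (y * v * y⁻¹) * a⁻¹) * (a * (y * e0 * y⁻¹) * a⁻¹)⁻¹ *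
          (a * (y * v * y⁻¹) * a⁻¹)⁻¹ := by
        have e1 : w = a * (y * (y⁻¹ * (a⁻¹ * w * a) * y) * y⁻¹) * a⁻¹ := by group
        rw [e1, ← hvz]
        group
      set e' := a * (y * e0 * y⁻¹) * a⁻¹ with he'
      have he'E : e' ∈ A0 ⊔ U := (hEa _ he0').1
      have hv' : a * (y * v * y⁻¹) * a⁻¹ ∈ N' ⊔ (X ⊓ centralizer ((A0 ⊔ U : Subgroup G) : Set G)) := by
        rw [hXeq]
        exact le_sup_right (a := N') (conj_cj (conj_cj hv))
      have hcX : ∀ n ∈ N', ∀ x ∈ X ⊓ centralizer ((A0 ⊔ U : Subgroup G) : Set G), n * x = x * n := fun n hn x hx =>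
        eab_comm hXeab (le_sup_left (b := cj a N') hn) (mem_inf.1 hx).1
      obtain ⟨n1, hn1, w1, hw1', hnw⟩ := mem_sup_comm hcX hv'
      rw [hnw] at hw1
      have hew : e' * w1 = w1 * e' := (mem_c.1 (mem_inf.1 hw1').2 e' he'E).symm
      have e2 : w = e' * n1 * e'⁻¹ * n1⁻¹ := by
        rw [hw1]
        calc e' * (n1 * w1) * e'⁻¹ * (n1 * w1)⁻¹ = e' * n1 * (w1 * e'⁻¹ * w1⁻¹) * n1⁻¹ := by group
          _ = e' * n1 * (e'⁻¹) * n1⁻¹ := by
            rw [← (show Commute e' w1 from hew).inv_left.eq, mul_inv_cancel_right]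
      rw [mem_cj, e2]
      have e3 : y⁻¹ * (e' * n1 * e'⁻¹ * n1⁻¹) * y =
          (y⁻¹ * e' * y) * (y⁻¹ * n1 * y) * (y⁻¹ * e' * y)⁻¹ * (y⁻¹ * n1 * y)⁻¹ := by group
      rw [e3]
      refine hF.inl _ ?_ _ (mem_cj.1 hn1)
      have := conj_cj (g := y⁻¹) he'E
      rwa [inv_inv] at this
    exact Subgroup.eq_of_le_of_card_ge hle (card_cj a _).ge

omit hno in
/-- `R` normalises `N b · U` if `N b ^ y ≤ C_A(U) U` -/
theorem norm_sup {A : Subgroup G} (hA : IsElementaryAbelian 2 A) (hAT : A ≤ T) {b : ι} {y : G} (hy : y ∈ R)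
    (hg : ∀ K : Subgroup G, T ≤ K → cj y⁻¹ A ≤ K → R ≤ K)
    (h1 : cj y (N b) ≤ (A ⊓ centralizer (zl T R : Set G)) ⊔ zl T R) : R ≤ normalizer ((N b ⊔ zl T R : Subgroup G) : Set G) := by
  have hT : T ≤ normalizer ((N b ⊔ zl T R : Subgroup G) : Set G) := by
    intro t ht
    refine mem_normalizer_of_cj_le ?_
    show Subgroup.map _ (N b ⊔ zl T R) ≤ _
    rw [Subgroup.map_sup]
    exact sup_le_sup (cj_eq_of_mem_normalizer (h.TN b ht)).le (h.cjU (h.TR ht)).le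
  refine hg _ hT ?_
  intro a' ha'
  refine mem_normalizer_of_cj_le ?_
  have haA : y * a' * y⁻¹ ∈ A := by
    have := mem_cj.1 ha'
    rwa [inv_inv] at this
  have ha'R : a' ∈ R := by
    have e : a' = y⁻¹ * (y * a' * y⁻¹) * y := by group
    rw [e]
    exact mul_mem (mul_mem (inv_mem hy) (h.TR (hAT haA))) hy
  show Subgroup.map _ (N b ⊔ zl T R) ≤ _
  rw [Subgroup.map_sup]
  refine sup_le ?_ ((h.cjU ha'R).le.trans le_sup_right)
  rintro _ ⟨v, hv, rfl⟩
  show a' * v * a'⁻¹ ∈ _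
  have hcA : ∀ α ∈ A ⊓ centralizer (zl T R : Set G), ∀ u ∈ zl T R, α * u = u * α := fun α hα u hu =>
    mem_c.1 (mem_inf.1 hα).2 u hu
  obtain ⟨α, hα, u, hu, hau⟩ := mem_sup_comm hcA (h1 (conj_cj (g := y) hv))
  set a := y * a' * y⁻¹ with ha
  have e1 : a' * v * a'⁻¹ = y⁻¹ * (a * (y * v * y⁻¹) * a⁻¹) * y := by rw [ha]; group
  have e2 : a * (α * u) * a⁻¹ = (α * u) * (u⁻¹ * (a * u * a⁻¹)) := by
    have e3 : a * α = α * a := eab_comm hA haA hα.1
    calc a * (α * u) * a⁻¹ = (a * α) * u * a⁻¹ := by group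
      _ = (α * a) * u * a⁻¹ := by rw [e3]
      _ = _ := by group
  have haR : a ∈ R := h.TR (hAT haA)
  have hau' : a * u * a⁻¹ ∈ zl T R := by
    have := conj_cj (g := a) hu
    rwa [h.cjU haR] at this
  rw [e1, hau, e2, ← hau]
  have e4 : y⁻¹ * (y * v * y⁻¹ * (u⁻¹ * (a * u * a⁻¹))) * y = v * (y⁻¹ * (u⁻¹ * (a * u * a⁻¹)) * y) := by group
  rw [e4]
  refine mul_mem (le_sup_left (a := N b) hv) (le_sup_right (a := N b) ?_)
  have h5 := conj_cj (g := y⁻¹) (mul_mem (inv_mem hu) hau')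
  rwa [inv_inv, h.cjU (inv_mem hy)] at h5

/-! ### `R` does not normalise `l j` -/

omit hno in
theorem not_norm {O' : Subgroup G} {c : ι} (hc : c ≠ j) (hcO : E c ≤ O')
    (hex : ∃ A ∈ AA O', A ≤ T ∧ ¬ A ≤ o2 R) : ¬ R ≤ normalizer (l j : Set G) := by
  intro hn
  obtain ⟨A, hA, hAT, hAQ⟩ := hex
  set K : Subgroup G := l j ⊔ ⨆ b : {b // b ≠ j}, (l (b : ι) ⊓ centralizer (T : Set G)) with hK
  have hRK : R ≤ normalizer (K : Set G) := by
    intro x hx
    refine mem_normalizer_of_cj_le ?_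
    show Subgroup.map _ K ≤ _
    rw [hK, Subgroup.map_sup, Subgroup.map_iSup]
    refine sup_le_sup (cj_eq_of_mem_normalizer (hn hx)).le (iSup_mono fun b => ?_)
    exact (cj_eq_of_mem_normalizer (centralizer_le_normalizer _ (h.RF b b.2 hx))).le
  have hZK : zc T ≤ K := by
    refine h.zT.trans (iSup_le fun b => ?_)
    by_cases hb : b = j
    · subst hb
      exact inf_le_left.trans le_sup_left
    · exact (le_iSup (fun b : {b // b ≠ j} => l (b : ι) ⊓ centralizer (T : Set G)) ⟨b, hb⟩).trans le_sup_right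
  have hUK : zl T R ≤ K := Cfsg.Agent.ZN.zl_le hZK hRK
  have hKA : K ≤ centralizer (A : Set G) := by
    refine sup_le ?_ (iSup_le fun b => inf_le_right.trans (centralizer_le hAT))
    exact fun z hz => mem_c.2 fun a ha => (mem_c.1 (h.cent_l hc hcO (h.jE c hc) hA hAT ha) z hz).symm
  refine hAQ ?_
  rw [← h.UQ]
  exact le_inf hAT fun a ha => mem_c.2 fun u hu => (mem_c.1 (hKA (hUK hu)) a ha).symm

/-- `R` normalises `N j · U` -/
theorem RY {O' : Subgroup G} {c : ι} (hc : c ≠ j) (hcO : E c ≤ O') (hex : ∃ A ∈ AA O', A ≤ T ∧ ¬ A ≤ o2 R) :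
    R ≤ normalizer ((N j ⊔ zl T R : Subgroup G) : Set G) := by
  obtain ⟨A, hA, hAT, hAQ⟩ := hex
  obtain ⟨y, hy, hg⟩ := h.gen hAT hAQ
  rcases h.exc hno hc hcO (h.jE c hc) hA hAT hy with h1 | ⟨-, h1⟩
  · exact h.norm_sup hA.1 hAT hy hg h1
  · exfalso
    refine h.not_norm hc hcO ⟨A, hA, hAT, hAQ⟩ (hg _ (h.Tl j) fun a' ha' => ?_)
    have haA : y * a' * y⁻¹ ∈ A := by
      have := mem_cj.1 ha'
      rwa [inv_inv] at this
    rw [mem_normalizer_iff_cj]
    have h2 := congrArg (cj y⁻¹) (h1 _ haA)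
    rw [cj_cj, cj_cj, cj_inv_cj] at h2
    have e : y⁻¹ * (y * a' * y⁻¹) * y = a' := by group
    rwa [e] at h2

/-- the pattern: a family of subsets of `O₂(R)`, closed under `R`, with values in `l j`, one of them covering `l j` -/
theorem pat {O' : Subgroup G} {c : ι} (hc : c ≠ j) (hcO : E c ≤ O') (hex : ∃ A ∈ AA O', A ≤ T ∧ ¬ A ≤ o2 R)
    {q : G} (hql : q ∈ centralizer (l j : Set G)) (hq : ∀ x ∈ R, x * q * x⁻¹ ∈ o2 R ∧ ∀ v ∈ N j, (x * q * x⁻¹) * v * (x * q * x⁻¹)⁻¹ * v⁻¹ ∈ l j) :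
    q ∈ centralizer (N j : Set G) := by
  by_contra hqN
  refine h.not_norm hc hcO hex fun x hx => mem_normalizer_of_cj_le ?_
  have hqT : q ∈ T := by
    have := (hq 1 (one_mem R)).1
    rw [one_mul, inv_one, mul_one] at this
    exact h.o2T this
  rintro _ ⟨z, hz, rfl⟩
  show x * z * x⁻¹ ∈ l j
  obtain ⟨v, hv, rfl⟩ := (h.rt j q hqT hql).2 hqN z hz
  have hv' : x * v * x⁻¹ ∈ N j ⊔ zl T R := by
    have h1 := conj_cj (g := x) (le_sup_left (a := N j) (b := zl T R) hv)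
    rwa [cj_eq_of_mem_normalizer (h.RY hno hc hcO hex hx)] at h1
  obtain ⟨n, hn, u, hu, hnu⟩ := mem_sup_comm (h.commU j) hv'
  have hq' := hq x hx
  set q' := x * q * x⁻¹ with hq'def
  have e1 : x * (q * v * q⁻¹ * v⁻¹) * x⁻¹ = q' * (x * v * x⁻¹) * q'⁻¹ * (x * v * x⁻¹)⁻¹ := by rw [hq'def]; group
  have hqu : q' * u = u * q' := mem_c.1 (h.o2U hq'.1) u hu
  have e2 : q' * (n * u) * q'⁻¹ * (n * u)⁻¹ = q' * n * q'⁻¹ * n⁻¹ := by
    calc q' * (n * u) * q'⁻¹ * (n * u)⁻¹ = q' * n * (u * q'⁻¹ * u⁻¹) * n⁻¹ := by group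
      _ = q' * n * q'⁻¹ * n⁻¹ := by rw [← (show Commute q' u from hqu).inv_left.eq, mul_inv_cancel_right]
  rw [e1, hnu, e2]
  exact hq'.2 n hn

/-- **(X2)** : a member of `AA` in `O₂(R)` centralises `N j` -/
theorem le_cent {O' : Subgroup G} {c : ι} (hc : c ≠ j) (hcO : E c ≤ O') (hex : ∃ A ∈ AA O', A ≤ T ∧ ¬ A ≤ o2 R)
    {A : Subgroup G} (hA : A ∈ AA O') (hAQ : A ≤ o2 R) : A ≤ centralizer (N j : Set G) := by
  have hAT : A ≤ T := hAQ.trans h.o2T
  intro q hq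
  refine h.pat hno hc hcO hex (h.cent_l hc hcO (h.jE c hc) hA hAT hq) fun x hx => ?_
  have h1 : cj x A ≤ o2 R := by
    rw [← cj_eq_of_mem_normalizer (le_normalizer_o2 R hx)]
    exact cj_mono _ hAQ
  exact ⟨h1 (conj_cj hq), h.inl_of hc hcO (h.jE c hc) hA hx (h1.trans h.o2T) _ (conj_cj hq)⟩

/-- **(X3)** : the properties of a member of `AA` which moves `N j` -/
theorem x3 {O' : Subgroup G} {c : ι} (hc : c ≠ j) (hcO : E c ≤ O') (hex : ∃ A ∈ AA O', A ≤ T ∧ ¬ A ≤ o2 R)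
    {A : Subgroup G} (hA : A ∈ AA O') (hAT : A ≤ T) (hAj : ¬ A ≤ centralizer (N j : Set G)) :
    ¬ A ≤ o2 R ∧ Full A (N j) (l j) ∧ A ⊓ centralizer (zl T R : Set G) ≤ centralizer (N j : Set G) ∧
      N j ⊔ zl T R ≤ zl T R ⊔ ((N j ⊔ zl T R) ⊓ centralizer (A : Set G)) ∧ l j ≤ zl T R ∧
      o2 R ≤ centralizer (N j : Set G) := by
  have hAQ : ¬ A ≤ o2 R := fun h1 => hAj (h.le_cent hno hc hcO hex hA h1)
  have hF : Full A (N j) (l j) := (h.T_one hc hcO (h.jE c hc) hA hAT).resolve_left hAj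
  have hA0 : A ⊓ centralizer (zl T R : Set G) ≤ centralizer (N j : Set G) :=
    le_sup_left.trans (h.le_cent hno hc hcO hex (h.exact hno hc hcO hA hAT) (h.A0_le hAT))
  set U := zl T R with hU
  have hYE : N j ⊔ U ≤ E c := sup_le (h.jE c hc) (h.UE hc)
  have hYeab := eab_mono (h.eab c hc) hYE
  have hcY : A ⊓ centralizer ((N j ⊔ U : Subgroup G) : Set G) = A ⊓ centralizer (U : Set G) := by
    apply le_antisymm
    · exact inf_le_inf_left _ (centralizer_le (SetLike.coe_subset_coe.2 le_sup_right))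
    · intro a ha
      refine mem_inf.2 ⟨(mem_inf.1 ha).1, mem_c.2 fun y hy => ?_⟩
      obtain ⟨n, hn, u, hu, rfl⟩ := mem_sup_comm (h.commU j) hy
      rw [← mul_assoc, mem_c.1 (hA0 ha) n hn, mul_assoc, mem_c.1 (mem_inf.1 ha).2 u hu, mul_assoc]
  have hcov : N j ⊔ U ≤ U ⊔ ((N j ⊔ U) ⊓ centralizer (A : Set G)) := by
    have h1 := thom hA hYeab (hYE.trans hcO)
    rw [hcY] at h1
    have h2 := h.exact_le hno hA.1 hAT
    have h3 : (N j ⊔ U) ⊓ centralizer (A : Set G) ≤ centralizer (U : Set G) := fun x hx =>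
      mem_c.2 fun u hu => eab_comm hYeab (mem_inf.1 hx).1 (le_sup_right (a := N j) hu)
    have h4 := Cfsg.Agent.PLocal.ElemAbSup.card_sup_mul_card_inf h3
    have h5 : U ⊓ ((N j ⊔ U) ⊓ centralizer (A : Set G)) = U ⊓ centralizer (A : Set G) := by
      rw [← inf_assoc, inf_eq_left.2 (le_sup_right : U ≤ N j ⊔ U)]
    rw [h5] at h4
    have h6 : U ⊔ ((N j ⊔ U) ⊓ centralizer (A : Set G)) = N j ⊔ U := by
      refine Subgroup.eq_of_le_of_card_ge (sup_le le_sup_right inf_le_left) ?_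
      have p1 : 0 < Nat.card ↥(A ⊓ centralizer (U : Set G)) := Nat.card_pos
      have p2 : 0 < Nat.card ↥(U ⊓ centralizer (A : Set G)) := Nat.card_pos
      refine Nat.le_of_mul_le_mul_right ?_ p2
      rw [h4]
      refine Nat.le_of_mul_le_mul_right ?_ p1
      calc Nat.card ↥(N j ⊔ U) * Nat.card ↥(U ⊓ centralizer (A : Set G)) * Nat.card ↥(A ⊓ centralizer (U : Set G))
          = (Nat.card ↥(N j ⊔ U) * Nat.card ↥(A ⊓ centralizer (U : Set G))) *
            Nat.card ↥(U ⊓ centralizer (A : Set G)) := by ring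
        _ ≤ (Nat.card A * Nat.card ↥((N j ⊔ U) ⊓ centralizer (A : Set G))) *
            Nat.card ↥(U ⊓ centralizer (A : Set G)) := Nat.mul_le_mul_right _ h1
        _ = (Nat.card A * Nat.card ↥(U ⊓ centralizer (A : Set G))) *
            Nat.card ↥((N j ⊔ U) ⊓ centralizer (A : Set G)) := by ring
        _ ≤ (Nat.card U * Nat.card ↥(A ⊓ centralizer (U : Set G))) *
            Nat.card ↥((N j ⊔ U) ⊓ centralizer (A : Set G)) := Nat.mul_le_mul_right _ h2
        _ = _ := by ring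
    exact h6.ge
  have hlU : l j ≤ U := by
    intro z hz
    obtain ⟨a, ha, haN⟩ : ∃ a ∈ A, a ∉ centralizer (N j : Set G) := by
      by_contra hcon
      push Not at hcon
      exact hF.ne hcon
    obtain ⟨v, hv, rfl⟩ := hF.onN a ha haN z hz
    have hcU : ∀ u ∈ U, ∀ x ∈ (N j ⊔ U) ⊓ centralizer (A : Set G), u * x = x * u := fun u hu x hx =>
      eab_comm hYeab (le_sup_right (a := N j) hu) (mem_inf.1 hx).1
    obtain ⟨u, hu, x, hx, rfl⟩ := mem_sup_comm hcU (hcov (le_sup_left (a := N j) hv))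
    have hax : a * x = x * a := (mem_c.1 (mem_inf.1 hx).2 a ha).symm
    have e1 : a * (u * x) * a⁻¹ * (u * x)⁻¹ = a * u * a⁻¹ * u⁻¹ := by
      calc a * (u * x) * a⁻¹ * (u * x)⁻¹ = a * u * (x * a⁻¹ * x⁻¹) * u⁻¹ := by group
        _ = a * u * a⁻¹ * u⁻¹ := by rw [← (show Commute a x from hax).inv_left.eq, mul_inv_cancel_right]
    rw [e1]
    refine mul_mem ?_ (inv_mem hu)
    have := conj_cj (g := a) hu
    rwa [h.cjU (h.TR (hAT ha))] at this
  refine ⟨hAQ, hF, hA0, hcov, hlU, fun q hq => ?_⟩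
  refine h.pat hno hc hcO hex (centralizer_le hlU (h.o2U hq)) fun x hx => ?_
  have h1 : x * q * x⁻¹ ∈ o2 R := by
    have := conj_cj (g := x) hq
    rwa [cj_eq_of_mem_normalizer (le_normalizer_o2 R hx)] at this
  exact ⟨h1, (h.rt j _ (h.o2T h1) (centralizer_le hlU (h.o2U h1))).1⟩

end act

end Fr

end Cfsg.Agent.Omega.NOThreeL.RWide.UniT
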