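import Cfsg.Agent.Omega.NOThreeL.RWide.OffPerm
import Cfsg.Agent.Omega.NOThreeL.RWide.TBlk

/-!
# Thompson offenders fix the blocks (any block order `≥ 4`)

`A` abelian, permutes the independent commuting blocks `N b`; for every `X ≤ ⨆ N` Thompson's inequality
`|X| |C_A(X)| ≤ |A| |C_X(A)|` holds, and the stabiliser `A₁` of `N b` is no over-offender on `N b`:

* `fix_of` : `A` normalises `N b`.
-/

set_option autoImplicit false
set_option linter.unusedSectionVars false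

namespace Cfsg.Agent.Omega.NOThreeL.RWide.UniT.FixBl

open Subgroup Cfsg
open Cfsg.Agent.ZN.ChoiceBase (cj cj_one cj_cj cj_inv_cj card_cj mem_cj mem_normalizer_iff_cj cj_eq_of_mem_normalizer)

universe u v

variable {G : Type u} [Group G] [Finite G] {ι : Type v} {A : Subgroup G} {N : ι → Subgroup G}

theorem pow_le {n m : ℕ} (hn : 4 ≤ n) (h : n ^ m ≤ m + 1) : m = 0 := by
  rcases m with _ | m
  · rfl
  exfalso
  have h1 : 4 ^ (m + 1) ≤ m + 1 + 1 := (Nat.pow_le_pow_left hn _).trans h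
  have h2 : m + 1 + 1 ≤ 2 ^ (m + 1) := Nat.lt_two_pow_self
  have h3 : 4 ^ (m + 1) = 2 ^ (m + 1) * 2 ^ (m + 1) := by
    rw [show (4 : ℕ) = 2 * 2 from rfl, Nat.mul_pow]
  rw [h3] at h1
  have h4 : 2 ≤ 2 ^ (m + 1) := by
    rw [pow_succ]
    have := Nat.one_le_two_pow (n := m)
    omega
  nlinarith

/-- **Thompson offenders fix the blocks.** -/
theorem fix_of (abA : ∀ a ∈ A, ∀ b ∈ A, a * b = b * a)
    (com : ∀ i j, ∀ v ∈ N i, ∀ w ∈ N j, v * w = w * v) (ind : iSupIndep N)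
    (perm : ∀ a ∈ A, ∀ b, ∃ c, cj a (N b) = N c)
    (thom : ∀ X : Subgroup G, X ≤ ⨆ b, N b → Nat.card X * Nat.card ↥(A ⊓ centralizer (X : Set G)) ≤
      Nat.card A * Nat.card ↥(X ⊓ centralizer (A : Set G)))
    {b : ι} (four : 4 ≤ Nat.card (N b))
    (no : Nat.card ↥(A ⊓ normalizer (N b : Set G)) *
        Nat.card ↥(N b ⊓ centralizer ((A ⊓ normalizer (N b : Set G) : Subgroup G) : Set G)) ≤
      Nat.card (N b) * Nat.card ↥((A ⊓ normalizer (N b : Set G)) ⊓ centralizer (N b : Set G))) :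
    A ≤ normalizer (N b : Set G) := by
  classical
  set A₁ := A ⊓ normalizer (N b : Set G) with hA₁
  -- the orbit
  let Δ := {c : ι // ∃ a ∈ A, cj a (N b) = N c}
  let N' : Δ → Subgroup G := fun c => N c.1
  have hcard : ∀ c : Δ, Nat.card (N' c) = Nat.card (N b) := by
    rintro ⟨c, a, ha, e⟩
    change Nat.card (N c) = _
    rw [← e, card_cj]
  have hne : ∀ c : Δ, N' c ≠ ⊥ := by
    intro c h0
    have h1 := hcard c
    rw [h0, card_bot] at h1
    omega
  have hind' : iSupIndep N' := ind.comp Subtype.val_injective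
  have hinj : Function.Injective N' := by
    intro c d hcd
    by_contra hne'
    have h1 : Disjoint (N' c) (N' d) := hind'.pairwiseDisjoint hne'
    rw [hcd, disjoint_self] at h1
    exact hne d h1
  have hfin : Finite Δ := Finite.of_injective N' hinj
  obtain ⟨e, he⟩ := exists_co (V := N') (fun i j => com i.1 j.1) hind'
  choose g hgA hg using fun c : Δ => c.2
  let b₀ : Δ := ⟨b, 1, one_mem _, cj_one _⟩
  set X : Subgroup G := ⨆ c : Δ, N' c with hX
  have hXN : X ≤ ⨆ b, N b := iSup_le fun c => le_iSup N c.1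
  -- the action
  have hσ : ∀ a ∈ A, ∃ σ : Δ → Δ, Function.Injective σ ∧ ∀ c, cj a (N' c) = N' (σ c) := by
    intro a ha
    have h1 : ∀ c : Δ, ∃ d : Δ, cj a (N' c) = N' d := by
      rintro ⟨c, a', ha', e1⟩
      obtain ⟨d, hd⟩ := perm a ha c
      exact ⟨⟨d, a * a', mul_mem ha ha', by rw [← cj_cj, e1, hd]⟩, hd⟩
    choose σ hσ using h1
    refine ⟨σ, fun c d hcd => hinj ?_, hσ⟩
    have h2 : cj a (N' c) = cj a (N' d) := by rw [hσ, hσ, hcd]
    have h3 := congrArg (cj a⁻¹) h2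
    rwa [cj_inv_cj, cj_inv_cj] at h3
  -- (1)
  have h1 : Nat.card (N b) ^ Nat.card Δ ≤ Nat.card X := by
    have := Fintype.ofFinite Δ
    have h2 : Nat.card (∀ c : Δ, N' c) = Nat.card (N b) ^ Nat.card Δ := by
      rw [Nat.card_pi, Finset.prod_congr rfl (fun c _ => hcard c), Finset.prod_const, Finset.card_univ,
        ← Nat.card_eq_fintype_card (α := Δ)]
    rw [← h2]
    refine Nat.card_le_card_of_surjective (fun v : X => fun c : Δ => (⟨e v c, he.mem v v.2 c⟩ : N' c)) ?_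
    intro f
    obtain ⟨v, hv, hvf⟩ := TBlk.exists_comp he (fun c => (f c : G)) fun c => (f c).2
    exact ⟨⟨v, hv⟩, funext fun c => Subtype.ext (hvf c)⟩
  -- (2)
  have h2 : Nat.card ↥(A₁ ⊓ centralizer (N b : Set G)) ≤ Nat.card ↥(A ⊓ centralizer (X : Set G)) := by
    refine Subgroup.card_le_of_le (le_inf (inf_le_left.trans inf_le_left) ?_)
    rw [Subgroup.le_centralizer_iff]
    refine iSup_le ?_
    rintro ⟨c, a, ha, e1⟩
    change N c ≤ _
    rw [← e1]
    rintro _ ⟨v, hv, rfl⟩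
    rw [mem_centralizer_iff]
    rintro x ⟨⟨hxA, -⟩, hxc⟩
    change x * (a * v * a⁻¹) = a * v * a⁻¹ * x
    have h3 := abA x hxA a ha
    have h4 := mem_centralizer_iff.1 hxc v hv
    have h5 : x * a⁻¹ = a⁻¹ * x := abA x hxA a⁻¹ (inv_mem ha)
    calc x * (a * v * a⁻¹) = (x * a) * v * a⁻¹ := by group
      _ = a * (x * v) * a⁻¹ := by rw [h3]; group
      _ = a * v * (x * a⁻¹) := by rw [← h4]; group
      _ = a * v * a⁻¹ * x := by rw [h5]; group
  -- (3)
  have h3 : Nat.card ↥(X ⊓ centralizer (A : Set G)) ≤ Nat.card ↥(N b ⊓ centralizer (A₁ : Set G)) := by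
    have hfix : ∀ v ∈ X ⊓ centralizer (A : Set G), ∀ a ∈ A, a * v * a⁻¹ = v := fun v hv a ha => by
      rw [mem_centralizer_iff.1 hv.2 a ha, mul_inv_cancel_right]
    have hmem : ∀ v ∈ X ⊓ centralizer (A : Set G), e v b₀ ∈ N b ⊓ centralizer (A₁ : Set G) := by
      intro v hv
      refine ⟨he.mem v hv.1 b₀, mem_centralizer_iff.2 fun a ha => ?_⟩
      obtain ⟨σ, hσi, hσ'⟩ := hσ a ha.1
      have h4 : σ b₀ = b₀ := hinj (by
        rw [← hσ']
        exact cj_eq_of_mem_normalizer ha.2)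
      have h5 := (he.perm hσi hσ' hv.1).2 b₀
      rw [h4, hfix v hv a ha.1] at h5
      exact (mul_inv_eq_iff_eq_mul.1 h5.symm)
    refine Nat.card_le_card_of_injective
      (fun v : ↥(X ⊓ centralizer (A : Set G)) => (⟨e v b₀, hmem v v.2⟩ : ↥(N b ⊓ centralizer (A₁ : Set G)))) ?_
    intro v w hvw
    have h4 : e v b₀ = e w b₀ := congrArg Subtype.val hvw
    refine Subtype.ext (he.ext' v.2.1 w.2.1 fun c => ?_)
    obtain ⟨σ, hσi, hσ'⟩ := hσ (g c) (hgA c)
    have h5 : σ b₀ = c := hinj (by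
      rw [← hσ']
      exact hg c)
    have h6 := (he.perm hσi hσ' v.2.1).2 b₀
    have h7 := (he.perm hσi hσ' w.2.1).2 b₀
    rw [h5, hfix v v.2 _ (hgA c)] at h6
    rw [h5, hfix w w.2 _ (hgA c)] at h7
    rw [h6, h7, h4]
  -- (4)
  have h4 : Nat.card A ≤ Nat.card Δ * Nat.card A₁ := by
    rw [← Nat.card_prod]
    have hd : ∀ a : A, ∃ d : Δ, cj (a : G) (N b) = N' d := fun a => by
      obtain ⟨d, hd⟩ := perm a a.2 b
      exact ⟨⟨d, a, a.2, hd⟩, hd⟩
    choose d hd using hd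
    have hA1 : ∀ a : A, (g (d a))⁻¹ * (a : G) ∈ A₁ := fun a => by
      refine mem_inf.2 ⟨mul_mem (inv_mem (hgA _)) a.2, ?_⟩
      rw [mem_normalizer_iff_cj, ← cj_cj, hd a]
      have h5 := hg (d a)
      change cj (g (d a)) (N b) = N' (d a) at h5
      rw [← h5, cj_inv_cj]
    refine Nat.card_le_card_of_injective (fun a : A => (d a, (⟨_, hA1 a⟩ : A₁))) ?_
    intro a a' haa
    have h5 : d a = d a' := congrArg Prod.fst haa
    have h6 : (g (d a))⁻¹ * (a : G) = (g (d a'))⁻¹ * (a' : G) := congrArg Subtype.val (congrArg Prod.snd haa)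
    rw [h5] at h6
    exact Subtype.ext (mul_left_cancel h6)
  -- (5)
  have h5 := thom X hXN
  have hpos : 0 < Nat.card ↥(A₁ ⊓ centralizer (N b : Set G)) := Nat.card_pos
  have h6 : Nat.card (N b) ^ Nat.card Δ ≤ Nat.card Δ * Nat.card (N b) := by
    refine Nat.le_of_mul_le_mul_right (c := Nat.card ↥(A₁ ⊓ centralizer (N b : Set G))) ?_ hpos
    calc Nat.card (N b) ^ Nat.card Δ * Nat.card ↥(A₁ ⊓ centralizer (N b : Set G))
        ≤ Nat.card X * Nat.card ↥(A ⊓ centralizer (X : Set G)) := Nat.mul_le_mul h1 h2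
      _ ≤ Nat.card A * Nat.card ↥(X ⊓ centralizer (A : Set G)) := h5
      _ ≤ (Nat.card Δ * Nat.card A₁) * Nat.card ↥(N b ⊓ centralizer (A₁ : Set G)) := Nat.mul_le_mul h4 h3
      _ = Nat.card Δ * (Nat.card A₁ * Nat.card ↥(N b ⊓ centralizer (A₁ : Set G))) := by ring
      _ ≤ Nat.card Δ * (Nat.card (N b) * Nat.card ↥(A₁ ⊓ centralizer (N b : Set G))) := Nat.mul_le_mul_left _ no
      _ = _ := by ring
  have hD : Nat.card Δ = 1 := by
    have hp : 0 < Nat.card Δ := by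
      have : Nonempty Δ := ⟨b₀⟩
      exact Nat.card_pos
    obtain ⟨m, hm⟩ : ∃ m, Nat.card Δ = m + 1 := ⟨Nat.card Δ - 1, by omega⟩
    rw [hm, pow_succ] at h6
    have h7 := Nat.le_of_mul_le_mul_right h6 (by omega)
    rw [hm, pow_le four h7]
  have hsub : Subsingleton Δ := (Nat.card_eq_one_iff_unique.1 hD).1
  intro a ha
  obtain ⟨c, hc⟩ := perm a ha b
  have h7 : (⟨c, a, ha, hc⟩ : Δ) = b₀ := Subsingleton.elim _ _
  have h8 : c = b := congrArg Subtype.val h7
  rw [h8] at hc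
  exact mem_normalizer_iff_cj.2 hc

end Cfsg.Agent.Omega.NOThreeL.RWide.UniT.FixBl
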