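import Cfsg.Agent.Omega.KL.TwoS.Fr
import Cfsg.Agent.Omega.NOThreeL.RWide.UniT.Fr

/-!
# UNI_T : FIX (helper995 #27590, helper860 #27010 (7); short form helper819)

`X ≤ E c ∩ Q`, `Q = C_T(V)`, `[X, Q] ≤ l c` ⟹ `[X, Q] = 1`.

* `fix_one` : one element `n ∈ E`, `[n, Q] ≤ L'`, `L' ∩ l = 1` : `[n, Q] = 1`;
* `fixV` : the form over the frame.
-/

set_option autoImplicit false
set_option linter.unusedSectionVars false

namespace Cfsg.Agent.Omega.NOThreeL.RWide.UniT.FixN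

open Subgroup Cfsg
open Cfsg.Agent.ZN (zc o2 zl)
open Cfsg.Agent.ZN.ChoiceBase (cj AA mem_cj cj_eq_of_mem_normalizer mem_normalizer_iff_cj card_cj)
open Cfsg.Agent.Omega.KL.TwoS (Mx relIndex_le_of_sup sup_of_relIndex_le comm_of_sq)
open Cfsg.Agent.Omega.TC.LemZ (card_eq)
open Cfsg.Agent.Omega.OM.KTwo (exists_mul_of_mem_sup)
open Cfsg.Agent.Omega.NOThreeL.RWide.UniT

universe u v

variable {G : Type u} [Group G]

theorem mx_of [Finite G] {O A : Subgroup G} (hA : A ∈ AA O) : Mx O A := by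
  refine ⟨hA.2.1, fun a ha => hA.1.2 a ha, fun B hB hB2 => hA.2.2 B ⟨⟨⟨fun x y => ?_⟩⟩, ?_⟩ hB⟩
  · exact Subtype.ext (mem_centralizer_iff.1 (comm_of_sq hB2 y.2) x x.2)
  · exact fun x hx => hB2 x hx

/-- **FIX for one element.** -/
theorem fix_one [Finite G] {O A N l L' E Q : Subgroup G} (hA : A ∈ AA O) (hNE : N ≤ E)
    (hE : IsElementaryAbelian 2 E) (hEO : E ≤ O) (AE : A ≤ normalizer (E : Set G)) (F : Full A N l) (lN : l ≤ N)
    (cardN : Nat.card N = Nat.card l * Nat.card l) (hL' : L' ≤ N) (hd : L' ⊓ l = ⊥) (hc : Nat.card L' ≤ Nat.card l)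
    (AQ : A ≤ normalizer (Q : Set G)) (QN : Q ≤ centralizer (N : Set G)) (hA₀ : A ⊓ centralizer (N : Set G) ≤ Q)
    {n : G} (hn : n ∈ E) (hl : ∀ g ∈ Q, n * g * n⁻¹ * g⁻¹ ∈ L') : ∀ g ∈ Q, n * g * n⁻¹ * g⁻¹ = 1 := by
  have hEc : E ≤ centralizer (E : Set G) := comA hE
  have hAc : A ≤ centralizer (A : Set G) := comA hA.1
  have hNel : IsElementaryAbelian 2 N := eab_mono hE hNE
  have hE2 : ∀ x ∈ E, x ^ 2 = 1 := fun x hx => hE.2 x hx
  have hM := mx_of hA
  have hlne : l ≠ ⊥ := by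
    intro h0
    apply F.ne
    intro a ha
    rw [mem_centralizer_iff]
    intro v hv
    have h1 := F.inl a ha v hv
    rw [h0, mem_bot] at h1
    calc v * a = (a * v * a⁻¹ * v⁻¹)⁻¹ * (a * v) := by group
      _ = a * v := by rw [h1]; group
  obtain ⟨z₀, hz₀⟩ := Subgroup.ne_bot_iff_exists_ne_one.1 hlne
  have hz₀1 : (z₀ : G) ≠ 1 := fun h0 => hz₀ (Subtype.ext h0)
  -- `C_N(A) ≤ l`
  have hNA : N ⊓ centralizer (A : Set G) ≤ l := by
    rintro v ⟨hv, hvA⟩
    by_contra hvl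
    obtain ⟨a, ha, h1⟩ := F.onA v hv hvl z₀ z₀.2
    have h2 := mem_centralizer_iff.1 hvA a ha
    rw [h2, mul_inv_cancel_right, mul_inv_cancel] at h1
    exact hz₀1 h1.symm
  set A₀ : Subgroup G := A ⊓ centralizer (N : Set G) with hA₀def
  have hE₀ : A₀ ⊔ N ∈ AA O := by
    refine swap_mem hA hNel (hNE.trans hEO) ?_
    rw [F.cardA, cardN, ← hA₀def]
    have h1 := Subgroup.card_le_of_le hNA
    calc Nat.card A₀ * Nat.card l * Nat.card ↥(N ⊓ centralizer (A : Set G))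
        ≤ Nat.card A₀ * Nat.card l * Nat.card l := Nat.mul_le_mul_left _ h1
      _ = Nat.card l * Nat.card l * Nat.card A₀ := by ring
  have hM₀ := mx_of hE₀
  -- `Y`
  set Y : Subgroup G := N ⊔ closure {y | ∃ a ∈ A, y = a * n * a⁻¹} with hY
  have hYE : Y ≤ E := by
    refine sup_le hNE ?_
    rw [closure_le]
    rintro _ ⟨a, ha, rfl⟩
    exact (mem_normalizer_iff.1 (AE ha) n).1 hn
  have hNY : N ≤ Y := le_sup_left
  have hnaY : ∀ a ∈ A, a * n * a⁻¹ ∈ Y := fun a ha => mem_sup_right (subset_closure ⟨a, ha, rfl⟩)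
  have hnY : n ∈ Y := by
    have := hnaY 1 (one_mem _)
    rwa [one_mul, inv_one, mul_one] at this
  have hYc : Y ≤ centralizer (Y : Set G) := hYE.trans (hEc.trans (centralizer_le hYE))
  have hY2 : ∀ x ∈ Y, x ^ 2 = 1 := fun x hx => hE2 x (hYE hx)
  have hYO : Y ≤ O := hYE.trans hEO
  -- an element of `A₀` which commutes with `n` centralises `Y`
  have hcent : ∀ g ∈ A₀, g * n = n * g → g ∈ centralizer (Y : Set G) := by
    intro g hg hgn
    have h1 : Y ≤ centralizer ({g} : Set G) := by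
      refine sup_le ?_ ?_
      · intro v hv
        exact mem_centralizer_singleton_iff.2 (mem_centralizer_iff.1 hg.2 v hv)
      · rw [closure_le]
        rintro _ ⟨a, ha, rfl⟩
        have h2 : a * g = g * a := mem_centralizer_iff.1 (hAc hg.1) a ha
        have h3 : a⁻¹ * g = g * a⁻¹ := by
          calc a⁻¹ * g = a⁻¹ * (g * a) * a⁻¹ := by group
            _ = a⁻¹ * (a * g) * a⁻¹ := by rw [h2]
            _ = g * a⁻¹ := by group
        refine mem_centralizer_singleton_iff.2 ?_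
        calc a * n * a⁻¹ * g = a * n * (a⁻¹ * g) := by group
          _ = a * (n * g) * a⁻¹ := by rw [h3]; group
          _ = (a * g) * n * a⁻¹ := by rw [← hgn]; group
          _ = g * (a * n * a⁻¹) := by rw [h2]; group
    exact mem_centralizer_iff.2 fun v hv => mem_centralizer_singleton_iff.1 (h1 hv)
  by_cases hcase : ∀ g ∈ A₀, n * g * n⁻¹ * g⁻¹ = 1
  · -- (a)
    have hA₀Y : A₀ ≤ centralizer (Y : Set G) := by
      intro g hg
      refine hcent g hg ?_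
      have h1 := hcase g hg
      calc g * n = (n * g * n⁻¹ * g⁻¹)⁻¹ * (n * g) := by group
        _ = n * g := by rw [h1]; group
    have h1 := hM.thom (N := Y) hYO hY2
    have h2 : (centralizer (Y : Set G)).relIndex A ≤ Nat.card l := by
      have h3 : A₀ ≤ centralizer (Y : Set G) := hA₀Y
      have h4 : (centralizer (Y : Set G)).relIndex A ∣ A₀.relIndex A := relIndex_dvd_of_le_left A h3
      have h5 : A₀.relIndex A = Nat.card l := by
        rw [hA₀def, inf_relIndex_left]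
        have h6 := card_eq A (centralizer (N : Set G))
        rw [F.cardA] at h6
        exact (Nat.eq_of_mul_eq_mul_left Nat.card_pos h6).symm
      rw [h5] at h4
      exact Nat.le_of_dvd Nat.card_pos h4
    have h3 : Nat.card l ≤ (centralizer (A : Set G)).relIndex N := by
      have h4 := card_eq N (centralizer (A : Set G))
      rw [cardN] at h4
      have h5 := Subgroup.card_le_of_le hNA
      apply Nat.le_of_mul_le_mul_left _ (Nat.card_pos (α := l))
      rw [h4]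
      exact Nat.mul_le_mul_right _ h5
    have h4 := sup_of_relIndex_le hNY hYc ((h1.trans h2).trans h3)
    have h5 : Y ⊓ centralizer (A : Set G) ≤ centralizer (N : Set G) := (inf_le_left.trans hYc).trans (centralizer_le hNY)
    obtain ⟨v, hv, c, hcc, hvc⟩ := exists_mul_of_mem_sup (h5.trans (centralizer_le_normalizer _)) (h4 hnY)
    -- `[a, n] ∈ l`
    have h6 : ∀ a ∈ A, ∃ z ∈ l, a * n * a⁻¹ = z * n := by
      intro a ha
      refine ⟨a * v * a⁻¹ * v⁻¹, F.inl a ha v hv, ?_⟩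
      have h7 : a * c = c * a := mem_centralizer_iff.1 (mem_inf.1 hcc).2 a ha
      calc a * n * a⁻¹ = a * (v * c) * a⁻¹ := by rw [hvc]
        _ = a * v * a⁻¹ * (a * c * a⁻¹) := by group
        _ = a * v * a⁻¹ * c := by rw [h7, mul_inv_cancel_right]
        _ = a * v * a⁻¹ * v⁻¹ * (v * c) := by group
        _ = a * v * a⁻¹ * v⁻¹ * n := by rw [hvc]
    intro g hg
    by_contra hw1
    set w : G := n * g * n⁻¹ * g⁻¹ with hw
    have hwL := hl g hg
    rw [← hw] at hwL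
    have hwl : w ∉ l := fun h0 => hw1 (by
      have h7 : w ∈ L' ⊓ l := ⟨hwL, h0⟩
      rwa [hd, mem_bot] at h7)
    obtain ⟨a, ha, h7⟩ := F.onA w (hL' hwL) hwl z₀ z₀.2
    obtain ⟨z, hz, h8⟩ := h6 a ha
    have hg' : a * g * a⁻¹ ∈ Q := (mem_normalizer_iff.1 (AQ ha) g).1 hg
    have hwa : a * w * a⁻¹ ∈ L' := by
      have h9 := hl _ hg'
      have h10 : z * (a * g * a⁻¹) = (a * g * a⁻¹) * z := mem_centralizer_iff.1 (QN hg') z (lN hz)
      have h11 : z * (n * (a * g * a⁻¹) * n⁻¹ * (a * g * a⁻¹)⁻¹) = (n * (a * g * a⁻¹) * n⁻¹ * (a * g * a⁻¹)⁻¹) * z :=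
        mem_centralizer_iff.1 (hEc (hNE (hL' h9))) z (hNE (lN hz))
      have e1 : a * w * a⁻¹ = n * (a * g * a⁻¹) * n⁻¹ * (a * g * a⁻¹)⁻¹ := by
        calc a * w * a⁻¹ = (a * n * a⁻¹) * (a * g * a⁻¹) * (a * n * a⁻¹)⁻¹ * (a * g * a⁻¹)⁻¹ := by rw [hw]; group
          _ = z * (n * (a * g * a⁻¹) * n⁻¹ * (a * g * a⁻¹)⁻¹) * ((a * g * a⁻¹) * z⁻¹ * (a * g * a⁻¹)⁻¹) := by
            rw [h8]; group
          _ = (n * (a * g * a⁻¹) * n⁻¹ * (a * g * a⁻¹)⁻¹) * z * ((a * g * a⁻¹) * z⁻¹ * (a * g * a⁻¹)⁻¹) := by rw [h11]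
          _ = (n * (a * g * a⁻¹) * n⁻¹ * (a * g * a⁻¹)⁻¹) * (z * (a * g * a⁻¹)) * z⁻¹ * (a * g * a⁻¹)⁻¹ := by group
          _ = (n * (a * g * a⁻¹) * n⁻¹ * (a * g * a⁻¹)⁻¹) := by rw [h10]; group
      rw [e1]
      exact h9
    have h9 : a * w * a⁻¹ * w⁻¹ ∈ L' ⊓ l := mem_inf.2 ⟨mul_mem hwa (inv_mem hwL), F.inl a ha w (hL' hwL)⟩
    rw [hd, mem_bot, h7] at h9
    exact hz₀1 h9
  · -- (b)
    exfalso
    push Not at hcase
    obtain ⟨g, hg, hw1⟩ := hcase
    set w : G := n * g * n⁻¹ * g⁻¹ with hw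
    have hgQ : g ∈ Q := hA₀ hg
    have hwL := hl g hgQ
    rw [← hw] at hwL
    have hwl : w ∉ l := fun h0 => hw1 (by
      have h7 : w ∈ L' ⊓ l := ⟨hwL, h0⟩
      rwa [hd, mem_bot] at h7)
    have h1 := hM₀.thom (N := Y) hYO hY2
    have h2 : (centralizer (Y : Set G)).relIndex (A₀ ⊔ N) ≤ (centralizer (Y : Set G)).relIndex A₀ :=
      relIndex_le_of_sup le_sup_left hM₀.comm (sup_le le_sup_left (le_sup_of_le_right
        (le_inf le_sup_right (hNY.trans hYc))))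
    -- `|A₀ : C_(A₀)(Y)| ≤ |L'|`
    have h3 : (centralizer (Y : Set G)).relIndex A₀ ≤ Nat.card L' := by
      let f : A₀ →* L' := MonoidHom.mk' (fun s => ⟨n * s * n⁻¹ * (s : G)⁻¹, hl s (hA₀ s.2)⟩) (by
        intro s t
        apply Subtype.ext
        change n * ((s * t : A₀) : G) * n⁻¹ * ((s * t : A₀) : G)⁻¹ = (n * s * n⁻¹ * (s : G)⁻¹) * (n * t * n⁻¹ * (t : G)⁻¹)
        have h4 : (n * t * n⁻¹ * (t : G)⁻¹) * s = s * (n * t * n⁻¹ * (t : G)⁻¹) :=
          mem_centralizer_iff.1 s.2.2 _ (hL' (hl t (hA₀ t.2)))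
        calc n * ((s * t : A₀) : G) * n⁻¹ * ((s * t : A₀) : G)⁻¹
            = n * s * n⁻¹ * (n * t * n⁻¹ * (t : G)⁻¹) * (s : G)⁻¹ := by rw [Subgroup.coe_mul]; group
          _ = n * s * n⁻¹ * (s : G)⁻¹ * (s * (n * t * n⁻¹ * (t : G)⁻¹)) * (s : G)⁻¹ := by group
          _ = n * s * n⁻¹ * (s : G)⁻¹ * ((n * t * n⁻¹ * (t : G)⁻¹) * s) * (s : G)⁻¹ := by rw [h4]
          _ = (n * s * n⁻¹ * (s : G)⁻¹) * (n * t * n⁻¹ * (t : G)⁻¹) := by group)
      have hker : f.ker ≤ (centralizer (Y : Set G)).subgroupOf A₀ := by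
        intro s hs
        rw [mem_subgroupOf]
        have h5 : n * (s : G) * n⁻¹ * (s : G)⁻¹ = 1 := congrArg Subtype.val (show f s = 1 from hs)
        refine hcent s s.2 ?_
        calc (s : G) * n = (n * (s : G) * n⁻¹ * (s : G)⁻¹)⁻¹ * (n * s) := by group
          _ = n * s := by rw [h5]; group
      have h4 := Nat.le_of_dvd (Nat.pos_of_ne_zero (by exact Subgroup.index_ne_zero_of_finite)) (index_dvd_of_le hker)
      refine h4.trans ?_
      rw [index_ker]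
      exact Nat.card_le_card_of_injective (Subtype.val : f.range → L') Subtype.val_injective
    -- `y ↦ [y, g]`
    have hgE : g ∈ normalizer (E : Set G) := AE hg.1
    have hmemE : ∀ y ∈ Y, y * g * y⁻¹ * g⁻¹ ∈ E := by
      intro y hy
      have e1 : y * g * y⁻¹ * g⁻¹ = y * (g * y⁻¹ * g⁻¹) := by group
      rw [e1]
      exact mul_mem (hYE hy) ((mem_normalizer_iff.1 hgE _).1 (inv_mem (hYE hy)))
    let p : Y →* E := MonoidHom.mk' (fun y => ⟨y * g * (y : G)⁻¹ * g⁻¹, hmemE y y.2⟩) (by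
      intro x y
      apply Subtype.ext
      change ((x * y : Y) : G) * g * ((x * y : Y) : G)⁻¹ * g⁻¹ = ((x : G) * g * (x : G)⁻¹ * g⁻¹) * ((y : G) * g * (y : G)⁻¹ * g⁻¹)
      have h4 : (x : G) * ((y : G) * g * (y : G)⁻¹ * g⁻¹) = ((y : G) * g * (y : G)⁻¹ * g⁻¹) * x :=
        mem_centralizer_iff.1 (hEc (hmemE y y.2)) x (hYE x.2)
      have h5 : ((x : G) * g * (x : G)⁻¹ * g⁻¹) * ((y : G) * g * (y : G)⁻¹ * g⁻¹) =
          ((y : G) * g * (y : G)⁻¹ * g⁻¹) * ((x : G) * g * (x : G)⁻¹ * g⁻¹) :=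
        mem_centralizer_iff.1 (hEc (hmemE y y.2)) _ (hmemE x x.2)
      calc ((x * y : Y) : G) * g * ((x * y : Y) : G)⁻¹ * g⁻¹
          = (x : G) * ((y : G) * g * (y : G)⁻¹ * g⁻¹) * g * (x : G)⁻¹ * g⁻¹ := by rw [Subgroup.coe_mul]; group
        _ = ((y : G) * g * (y : G)⁻¹ * g⁻¹) * ((x : G) * g * (x : G)⁻¹ * g⁻¹) := by rw [h4]; group
        _ = _ := h5.symm)
    have hker : (centralizer ((A₀ ⊔ N : Subgroup G) : Set G)).subgroupOf Y ≤ p.ker := by
      intro y hy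
      rw [mem_subgroupOf] at hy
      have h4 := mem_centralizer_iff.1 hy g (mem_sup_left hg)
      change p y = 1
      apply Subtype.ext
      change (y : G) * g * (y : G)⁻¹ * g⁻¹ = 1
      rw [← h4]
      group
    have h4 := Nat.le_of_dvd (Nat.pos_of_ne_zero (by exact Subgroup.index_ne_zero_of_finite)) (index_dvd_of_le hker)
    rw [index_ker] at h4
    -- the range contains `w` and `l`
    have hrw : w ∈ p.range.map E.subtype := ⟨p ⟨n, hnY⟩, ⟨_, rfl⟩, rfl⟩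
    have hrl : l ≤ p.range.map E.subtype := by
      intro z hz
      obtain ⟨a, ha, h5⟩ := F.onA w (hL' hwL) hwl z hz
      have h6 : a * w * a⁻¹ ∈ p.range.map E.subtype := by
        refine ⟨p ⟨a * n * a⁻¹, hnaY a ha⟩, ⟨_, rfl⟩, ?_⟩
        change (a * n * a⁻¹) * g * (a * n * a⁻¹)⁻¹ * g⁻¹ = a * w * a⁻¹
        have h7 : a * g = g * a := mem_centralizer_iff.1 (hAc hg.1) a ha
        have h8 : a⁻¹ * g = g * a⁻¹ := by
          calc a⁻¹ * g = a⁻¹ * (g * a) * a⁻¹ := by group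
            _ = a⁻¹ * (a * g) * a⁻¹ := by rw [h7]
            _ = g * a⁻¹ := by group
        have h9 : a⁻¹ * g⁻¹ = g⁻¹ * a⁻¹ := by
          have := congrArg (fun t => t⁻¹) h7
          simpa only [mul_inv_rev] using this.symm
        calc (a * n * a⁻¹) * g * (a * n * a⁻¹)⁻¹ * g⁻¹
            = a * n * (a⁻¹ * g) * a * n⁻¹ * (a⁻¹ * g⁻¹) := by group
          _ = a * n * (g * a⁻¹) * a * n⁻¹ * (g⁻¹ * a⁻¹) := by rw [h8, h9]
          _ = a * w * a⁻¹ := by rw [hw]; group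
      rw [← h5]
      exact mul_mem h6 (inv_mem hrw)
    have h5 : Nat.card l < Nat.card p.range := by
      have h6 : Nat.card (p.range.map E.subtype : Subgroup G) = Nat.card p.range :=
        Subgroup.card_map_of_injective E.subtype_injective
      rw [← h6]
      refine lt_of_le_of_ne (Subgroup.card_le_of_le hrl) fun h7 => ?_
      have h8 := Subgroup.eq_of_le_of_card_ge hrl h7.ge
      rw [← h8] at hrw
      exact hwl hrw
    have h6 := (((h4.trans h1).trans h2).trans h3).trans hc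
    exact absurd h5 (not_lt.2 h6)

/-- **FIX over the frame.** -/
theorem fixV {ι : Type v} [Finite G] {T O R : Subgroup G} {N l E : ι → Subgroup G} {j : ι} (h : Fr T O R N l E j) {c : ι}
    (hc : c ≠ j) {X : Subgroup G} (hX : X ≤ E c)
    (_hXQ : X ≤ T ⊓ centralizer ((⨆ b, N b : Subgroup G) : Set G))
    (hl : ∀ x ∈ X, ∀ g ∈ T ⊓ centralizer ((⨆ b, N b : Subgroup G) : Set G), x * g * x⁻¹ * g⁻¹ ∈ l c) :
    T ⊓ centralizer ((⨆ b, N b : Subgroup G) : Set G) ≤ centralizer (X : Set G) := by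
  set Q : Subgroup G := T ⊓ centralizer ((⨆ b, N b : Subgroup G) : Set G) with hQ
  obtain ⟨m, hmE, hmN, hmC, hmQ, hml⟩ := h.lam c hc
  obtain ⟨A, hA, hAc, hAb⟩ := h.pure c
  have hAT : A ≤ T := hA.2.1.trans h.OT
  have hNel : IsElementaryAbelian 2 (N c) := eab_mono (h.eab c hc) (h.NE c hc)
  have hF : Full A (N c) (l c) := (h.off c A hAT hA.1 (thom hA hNel (h.NO c))).resolve_left hAc
  have hTV : T ≤ normalizer ((⨆ b, N b : Subgroup G) : Set G) := by
    intro t ht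
    refine Cfsg.Agent.ZN.ChoiceBase.mem_normalizer_of_cj_le ?_
    rw [cj, Subgroup.map_iSup]
    exact iSup_le fun b => (cj_eq_of_mem_normalizer (h.TN b ht)).le.trans (le_iSup N b)
  have TQ : T ≤ normalizer (Q : Set G) := by
    intro t ht
    rw [mem_normalizer_iff_cj, hQ, Cfsg.Agent.ZN.ChoiceBase.cj_inf, Cfsg.Agent.ZN.ChoiceBase.cj_centralizer,
      cj_eq_of_mem_normalizer (Subgroup.le_normalizer ht), cj_eq_of_mem_normalizer (hTV ht)]
  have QN : Q ≤ centralizer (N c : Set G) := inf_le_right.trans (centralizer_le (le_iSup N c))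
  have hA₀ : A ⊓ centralizer (N c : Set G) ≤ Q := by
    rintro a ⟨ha, hac⟩
    refine ⟨hAT ha, ?_⟩
    have h1 : (⨆ b, N b) ≤ centralizer ({a} : Set G) := by
      refine iSup_le fun b v hv => mem_centralizer_singleton_iff.2 ?_
      by_cases hb : b = c
      · subst hb
        exact mem_centralizer_iff.1 hac v hv
      · exact mem_centralizer_iff.1 (hAb b hb ha) v hv
    exact mem_centralizer_iff.2 fun v hv => mem_centralizer_singleton_iff.1 (h1 hv)
  have hL'N : cj m (l c) ≤ N c := (Cfsg.Agent.ZN.ChoiceBase.cj_mono m (h.lN c)).trans (cj_eq_of_mem_normalizer hmN).le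
  have hRT : T ≤ R := h.par.le
  intro g hg
  rw [mem_centralizer_iff]
  intro x hx
  have hn : m * x * m⁻¹ ∈ E c := (mem_normalizer_iff.1 hmE x).1 (hX hx)
  have hln : ∀ g' ∈ Q, (m * x * m⁻¹) * g' * (m * x * m⁻¹)⁻¹ * g'⁻¹ ∈ cj m (l c) := by
    intro g' hg'
    have h1 : m⁻¹ * g' * m ∈ Q := by
      have := (mem_normalizer_iff.1 (inv_mem hmQ) g').1 hg'
      rwa [inv_inv] at this
    have h2 := hl x hx _ h1
    rw [mem_cj]
    have e1 : m⁻¹ * ((m * x * m⁻¹) * g' * (m * x * m⁻¹)⁻¹ * g'⁻¹) * m =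
        x * (m⁻¹ * g' * m) * x⁻¹ * (m⁻¹ * g' * m)⁻¹ := by group
    rw [e1]
    exact h2
  have h3 := fix_one hA (h.NE c hc) (h.eab c hc) (h.EO c hc) (hAT.trans (hRT.trans (h.RE c hc))) hF (h.lN c) (h.cardN c)
    hL'N hml (card_cj m (l c)).le (hAT.trans TQ) QN hA₀ hn hln (m * g * m⁻¹) ((mem_normalizer_iff.1 hmQ g).1 hg)
  have e2 : (m * x * m⁻¹) * (m * g * m⁻¹) * (m * x * m⁻¹)⁻¹ * (m * g * m⁻¹)⁻¹ = m * (x * g * x⁻¹ * g⁻¹) * m⁻¹ := by group
  rw [e2] at h3
  have h4 : x * g * x⁻¹ * g⁻¹ = 1 := by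
    calc x * g * x⁻¹ * g⁻¹ = m⁻¹ * (m * (x * g * x⁻¹ * g⁻¹) * m⁻¹) * m := by group
      _ = 1 := by rw [h3]; group
  calc x * g = (x * g * x⁻¹ * g⁻¹) * (g * x) := by group
    _ = g * x := by rw [h4, one_mul]

end Cfsg.Agent.Omega.NOThreeL.RWide.UniT.FixN
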