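import Cfsg.Agent.Omega.NOThreeL.RWide.UniT.Fr

/-!
# UNI_T: LEMMA FIX for one element (helper860 #27010 (7), helper528 #27296 (B2), helper902)

`c ≠ j`, `X ≤ E c`, `X ≤ Q = C_T(∏ N b)`, `[X, Q] ≤ l c` ⟹ `[X, Q] = 1`.

* `quot_le`, `quot_card` : counting cosets;
* **`Fr.fixX`** (the literal `fixV` of #27590, without `X ≤ Q`).
-/

set_option autoImplicit false
set_option linter.unusedSectionVars false

namespace Cfsg.Agent.Omega.NOThreeL.RWide.UniT

open Subgroup Cfsg Cfsg.Agent.Omega.MinPar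
open Cfsg.Agent.ZN (zc o2 zl)
open Cfsg.Agent.ZN.ChoiceBase (cj AA mem_cj cj_mono cj_eq_of_mem_normalizer)

universe u v

variable {G : Type u} [Group G] {ι : Type v}

namespace FixV

/-- `F N = F ⊔ N` -/
theorem dec {F N : Subgroup G} (h : N ≤ normalizer (F : Set G)) {x : G} (hx : x ∈ F ⊔ N) :
    ∃ f ∈ F, ∃ n ∈ N, x = f * n := by
  have key : ∀ n ∈ N, ∀ f ∈ F, n * f * n⁻¹ ∈ F := fun n hn f hf => (mem_normalizer_iff.1 (h hn) f).1 hf
  let K : Subgroup G :=
    { carrier := {x | ∃ f ∈ F, ∃ n ∈ N, x = f * n}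
      one_mem' := ⟨1, one_mem F, 1, one_mem N, by simp⟩
      mul_mem' := by
        rintro _ _ ⟨f, hf, n, hn, rfl⟩ ⟨f', hf', n', hn', rfl⟩
        exact ⟨f * (n * f' * n⁻¹), mul_mem hf (key n hn f' hf'), n * n', mul_mem hn hn', by group⟩
      inv_mem' := by
        rintro _ ⟨f, hf, n, hn, rfl⟩
        exact ⟨n⁻¹ * f⁻¹ * n⁻¹⁻¹, key _ (inv_mem hn) _ (inv_mem hf), n⁻¹, inv_mem hn, by group⟩ }
  have h1 : F ⊔ N ≤ K := sup_le (fun f hf => ⟨f, hf, 1, one_mem N, by simp⟩) fun n hn => ⟨1, one_mem F, n, hn, by simp⟩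
  exact h1 hx

/-- `|A| = |A / A₀| |A₀|` -/
theorem quot_card {A A0 : Subgroup G} (h : A0 ≤ A) :
    Nat.card A = Nat.card (A ⧸ A0.subgroupOf A) * Nat.card A0 := by
  have h1 := Subgroup.card_eq_card_quotient_mul_card_subgroup (A0.subgroupOf A)
  rwa [Nat.card_congr (Subgroup.subgroupOfEquivOfLe h).toEquiv] at h1

/-- `|A / A₀| ≤ |S|` from a map to `S` which separates the cosets -/
theorem quot_le [Finite G] {A A0 S : Subgroup G} (f : G → G) (hf : ∀ a ∈ A, f a ∈ S)
    (hi : ∀ a ∈ A, ∀ b ∈ A, f a = f b → a⁻¹ * b ∈ A0) : Nat.card (A ⧸ A0.subgroupOf A) ≤ Nat.card S := by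
  classical
  refine Nat.card_le_card_of_injective
    (fun τ : A ⧸ A0.subgroupOf A => (⟨f (τ.out : A), hf _ (τ.out : A).2⟩ : S)) ?_
  intro τ σ h
  have h1 : f (τ.out : A) = f (σ.out : A) := congrArg Subtype.val h
  have h2 := hi _ (τ.out : A).2 _ (σ.out : A).2 h1
  have h3 : ((τ.out : A) : A ⧸ A0.subgroupOf A) = ((σ.out : A) : A ⧸ A0.subgroupOf A) := by
    rw [QuotientGroup.eq, mem_subgroupOf]
    exact h2
  rwa [QuotientGroup.out_eq', QuotientGroup.out_eq'] at h3

/-- `|A / A₀| < |Y / M|` from a map which separates the cosets and misses the trivial coset -/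
theorem quot_lt [Finite G] {A A0 Y M : Subgroup G} (f : G → G) (hf : ∀ a ∈ A, f a ∈ Y)
    (hi : ∀ a ∈ A, ∀ b ∈ A, (f a)⁻¹ * f b ∈ M → a⁻¹ * b ∈ A0) (h0 : ∀ a ∈ A, f a ∉ M) :
    Nat.card (A ⧸ A0.subgroupOf A) < Nat.card (Y ⧸ M.subgroupOf Y) := by
  classical
  let φ : A ⧸ A0.subgroupOf A → Y ⧸ M.subgroupOf Y := fun τ => ((⟨f (τ.out : A), hf _ (τ.out : A).2⟩ : Y) : _)
  have hφ : Function.Injective φ := by
    intro τ σ h
    have h1 : (f (τ.out : A))⁻¹ * f (σ.out : A) ∈ M := by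
      have h2 := QuotientGroup.eq.1 h
      rw [mem_subgroupOf] at h2
      exact h2
    have h2 := hi _ (τ.out : A).2 _ (σ.out : A).2 h1
    have h3 : ((τ.out : A) : A ⧸ A0.subgroupOf A) = ((σ.out : A) : A ⧸ A0.subgroupOf A) := by
      rw [QuotientGroup.eq, mem_subgroupOf]
      exact h2
    rwa [QuotientGroup.out_eq', QuotientGroup.out_eq'] at h3
  have : Fintype (A ⧸ A0.subgroupOf A) := Fintype.ofFinite _
  have : Fintype (Y ⧸ M.subgroupOf Y) := Fintype.ofFinite _
  rw [Nat.card_eq_fintype_card, Nat.card_eq_fintype_card]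
  refine Fintype.card_lt_of_injective_of_notMem φ hφ (b := ((1 : Y) : Y ⧸ M.subgroupOf Y)) ?_
  rintro ⟨τ, hτ⟩
  apply h0 _ (τ.out : A).2
  have h2 := QuotientGroup.eq.1 hτ.symm
  rw [mem_subgroupOf] at h2
  simpa using h2

end FixV

namespace Fr

variable [Finite G] {T O R : Subgroup G} {N l E : ι → Subgroup G} {j : ι}

open FixV

/-- **LEMMA FIX** -/
theorem fixX (h : Fr T O R N l E j) {c : ι} (hc : c ≠ j) {X : Subgroup G} (hX : X ≤ E c)
    (hl : ∀ x ∈ X, ∀ g ∈ T ⊓ centralizer ((⨆ b, N b : Subgroup G) : Set G), x * g * x⁻¹ * g⁻¹ ∈ l c) :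
    T ⊓ centralizer ((⨆ b, N b : Subgroup G) : Set G) ≤ centralizer (X : Set G) := by
  classical
  set Q : Subgroup G := T ⊓ centralizer ((⨆ b, N b : Subgroup G) : Set G) with hQ
  obtain ⟨m, mE, mN, mb, mQ, ml⟩ := h.lam c hc
  obtain ⟨A, hA, hAc, hAb⟩ := h.pure c
  have hAO : A ≤ O := hA.2.1
  have hAT : A ≤ T := hAO.trans h.OT
  have hAR : A ≤ R := hAT.trans h.syl.1
  have hcN : N c ≤ E c := h.NE c hc
  have EO : E c ≤ O := h.EO c hc
  have eE := h.eab c hc
  have ecom : ∀ x ∈ E c, ∀ y ∈ E c, x * y = y * x := fun x hx y hy =>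
    mem_centralizer_iff.1 (comA eE hy) x hx
  have Acom : ∀ a ∈ A, ∀ b ∈ A, a * b = b * a := fun a ha b hb =>
    mem_centralizer_iff.1 (comA hA.1 hb) a ha
  -- `A` is full on `N c`
  have hFull : Full A (N c) (l c) := by
    refine (h.off c A hAT hA.1 ?_).resolve_left hAc
    exact thom hA (eab_mono eE hcN) (h.NO c)
  set A0 : Subgroup G := A ⊓ centralizer (N c : Set G) with hA0
  have A0A : A0 ≤ A := inf_le_left
  have mA0 : ∀ {a : G}, a ∈ A0 ↔ a ∈ A ∧ ∀ n ∈ N c, n * a = a * n := by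
    intro a
    rw [hA0, mem_inf, mem_centralizer_iff]
    exact Iff.rfl
  have A0Q : A0 ≤ Q := by
    refine le_inf (A0A.trans hAT) ?_
    have h1 : (⨆ b, N b) ≤ centralizer (A0 : Set G) := by
      refine iSup_le fun b => ?_
      by_cases hb : b = c
      · subst hb
        exact NoFF.Basic.comm_symm inf_le_right
      · exact NoFF.Basic.comm_symm (A0A.trans (hAb b hb))
    exact NoFF.Basic.comm_symm h1
  -- `C_(N c)(A) ≤ l c`
  have cNA : N c ⊓ centralizer (A : Set G) ≤ l c := by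
    intro v hv
    by_contra hvl
    obtain ⟨z, hz, hz1⟩ : ∃ z ∈ l c, z ≠ 1 := by
      by_contra hcon
      push Not at hcon
      exact h.lne c (by rw [eq_bot_iff]; intro x hx; exact mem_bot.2 (hcon x hx))
    obtain ⟨a, ha, e1⟩ := hFull.onA v hv.1 hvl z hz
    apply hz1
    rw [← e1, mem_centralizer_iff.1 hv.2 a ha, mul_inv_cancel_right, mul_inv_cancel]
  have hqc := quot_card A0A
  set q : ℕ := Nat.card (A ⧸ A0.subgroupOf A) with hq
  have hql : q = Nat.card (l c) := by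
    have h1 := hFull.cardA
    rw [← hA0, hqc, mul_comm] at h1
    exact Nat.eq_of_mul_eq_mul_left Nat.card_pos h1
  -- `D = A₀ N c ∈ AA(O)`
  have hD : A0 ⊔ N c ∈ AA O := by
    refine swap_mem hA (eab_mono eE hcN) (h.NO c) ?_
    calc Nat.card A * Nat.card ↥(N c ⊓ centralizer (A : Set G)) ≤ Nat.card A * Nat.card (l c) :=
          Nat.mul_le_mul_left _ (Subgroup.card_le_of_le cNA)
      _ = Nat.card (N c) * Nat.card A0 := by rw [hqc, hql, h.cardN c]; ring
  -- the element `m`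
  have mQ' : ∀ g ∈ Q, m⁻¹ * g * m ∈ Q := fun g hg => by
    have h1 := (mem_normalizer_iff.1 (inv_mem mQ) g).1 hg
    rwa [inv_inv] at h1
  have L'N : cj m (l c) ≤ N c := by
    have h1 := cj_mono m (h.lN c)
    rwa [cj_eq_of_mem_normalizer mN] at h1
  have hAEn : ∀ a ∈ A, ∀ x ∈ E c, a * x * a⁻¹ ∈ E c := fun a ha x hx =>
    (mem_normalizer_iff.1 (h.RE c hc (hAR ha)) x).1 hx
  have hAQn : ∀ a ∈ A, ∀ g ∈ Q, a * g * a⁻¹ ∈ Q := by
    intro a ha g hg
    refine mem_inf.2 ⟨T.mul_mem (T.mul_mem (hAT ha) hg.1) (T.inv_mem (hAT ha)), ?_⟩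
    have h1 : (⨆ b, N b) ≤ centralizer ({a * g * a⁻¹} : Set G) := by
      refine iSup_le fun b n hn => ?_
      rw [mem_centralizer_singleton_iff]
      have h2 : a⁻¹ * n * a ∈ N b := by
        have h3 := (mem_normalizer_iff.1 (inv_mem (h.TN b (hAT ha))) n).1 hn
        rwa [inv_inv] at h3
      have h3 := mem_centralizer_iff.1 hg.2 _ (le_iSup N b h2)
      calc n * (a * g * a⁻¹) = a * (a⁻¹ * n * a * g) * a⁻¹ := by group
        _ = a * (g * (a⁻¹ * n * a)) * a⁻¹ := by rw [h3]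
        _ = a * g * a⁻¹ * n := by group
    rw [mem_centralizer_iff]
    exact fun x hx => mem_centralizer_singleton_iff.1 (h1 hx)
  have hQN : ∀ g ∈ Q, ∀ n ∈ N c, n * g = g * n := fun g hg n hn =>
    mem_centralizer_iff.1 hg.2 n (le_iSup N c hn)
  -- the elements `v` of `X^m`
  have main : ∀ v ∈ E c, (∀ g ∈ Q, v * g * v⁻¹ * g⁻¹ ∈ cj m (l c)) → ∀ g ∈ Q, v * g * v⁻¹ * g⁻¹ = 1 := by
    intro v hv hvQ
    -- `Y = ⟨v ^ A⟩`
    set Y : Subgroup G := ⨆ a : A, zpowers ((a : G) * v * (a : G)⁻¹) with hY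
    have vaY : ∀ a ∈ A, a * v * a⁻¹ ∈ Y := fun a ha =>
      (le_iSup (fun a : A => zpowers ((a : G) * v * (a : G)⁻¹)) ⟨a, ha⟩) (mem_zpowers _)
    have vY : v ∈ Y := by
      have h1 := vaY 1 (one_mem _)
      simpa using h1
    have YE : Y ≤ E c := iSup_le fun a => zpowers_le.2 (hAEn a a.2 v hv)
    have Yle : ∀ U : Subgroup G, (∀ a ∈ A, a * v * a⁻¹ ∈ U) → Y ≤ U := fun U hU =>
      iSup_le fun a => zpowers_le.2 (hU a a.2)
    -- elements of `A` centralising `v` centralise `Y`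
    have centY : ∀ a ∈ A, v * a = a * v → Y ≤ centralizer ({a} : Set G) := by
      intro a ha hva
      refine Yle _ fun b hb => ?_
      rw [mem_centralizer_singleton_iff]
      have h1 : b⁻¹ * a = a * b⁻¹ := Acom _ (inv_mem hb) _ ha
      calc b * v * b⁻¹ * a = b * v * (b⁻¹ * a) := by group
        _ = b * (v * a) * b⁻¹ := by rw [h1]; group
        _ = (b * a) * v * b⁻¹ := by rw [hva]; group
        _ = a * (b * v * b⁻¹) := by rw [Acom b hb a ha]; group
    -- `[v, g] ^ a`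
    have step1 : ∀ a ∈ A0, v * a = a * v := by
      intro a0 ha0
      by_contra hne
      set w : G := v * a0 * v⁻¹ * a0⁻¹ with hw
      have hw1 : w ≠ 1 := by
        intro h1
        apply hne
        have h2 : v * a0 = w * a0 * v := by rw [hw]; group
        rw [h2, h1, one_mul]
      have hwL : w ∈ cj m (l c) := hvQ a0 (A0Q ha0)
      have hwN : w ∈ N c := L'N hwL
      have hwl : w ∉ l c := fun h1 => hw1 (by
        have h2 : w ∈ cj m (l c) ⊓ l c := ⟨hwL, h1⟩
        rw [ml] at h2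
        exact mem_bot.1 h2)
      -- `a₀` moves `v ^ a` by `w ^ a`
      have hva : ∀ a ∈ A, (a * v * a⁻¹) * a0 * (a * v * a⁻¹)⁻¹ * a0⁻¹ = a * w * a⁻¹ := by
        intro a ha
        have h1 : a⁻¹ * a0 * a = a0 := by rw [Acom _ (inv_mem ha) _ (A0A ha0)]; group
        calc (a * v * a⁻¹) * a0 * (a * v * a⁻¹)⁻¹ * a0⁻¹
            = a * (v * (a⁻¹ * a0 * a) * v⁻¹ * (a⁻¹ * a0 * a)⁻¹) * a⁻¹ := by group
          _ = a * w * a⁻¹ := by rw [h1]
      -- `a` centralises `w` iff `a ∈ A₀`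
      have haw : ∀ a ∈ A, a * w * a⁻¹ = w → a ∈ A0 := by
        intro a ha h1
        by_contra h2
        have h3 : a ∉ centralizer (N c : Set G) := fun h3 => h2 (mem_inf.2 ⟨ha, h3⟩)
        -- `a` moves `N c`, so its fixed points lie in `l c`
        have hcard : ∀ z ∈ l c, ∃ v ∈ N c, a * v * a⁻¹ * v⁻¹ = z := hFull.onN a ha h3
        -- count : the map `N c / l c → l c`
        have h4 : Nat.card (N c) = Nat.card (N c ⧸ (l c).subgroupOf (N c)) * Nat.card (l c) := quot_card (h.lN c)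
        rw [h.cardN c] at h4
        have h5 : Nat.card (l c) = Nat.card (N c ⧸ (l c).subgroupOf (N c)) :=
          Nat.eq_of_mul_eq_mul_right Nat.card_pos h4
        -- the fixed points of `a`
        set M : Subgroup G := N c ⊓ centralizer ({a} : Set G) with hM
        have lM : l c ≤ M := by
          refine le_inf (h.lN c) fun x hx => ?_
          rw [mem_centralizer_singleton_iff]
          exact (mem_centralizer_iff.1 (hFull.cent ha) x hx)
        have h6 := quot_card (inf_le_left : M ≤ N c)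
        -- surjection from `N c / M` onto `l c`
        have h7 : Nat.card (l c) ≤ Nat.card (N c ⧸ M.subgroupOf (N c)) := by
          choose! s hs hs' using hcard
          let φ : l c → N c ⧸ M.subgroupOf (N c) := fun z => ((⟨s z, hs z z.2⟩ : N c) : _)
          refine Nat.card_le_card_of_injective φ ?_
          intro z z' hzz
          have h8 : (s z)⁻¹ * s z' ∈ M := by
            have h9 := QuotientGroup.eq.1 hzz
            rw [mem_subgroupOf] at h9
            exact h9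
          have h9 : (s z)⁻¹ * s z' * a = a * ((s z)⁻¹ * s z') := mem_centralizer_singleton_iff.1 h8.2
          have e1 := hs' z z.2
          have e2 := hs' z' z'.2
          apply Subtype.ext
          rw [← e1, ← e2]
          have h10 : s z' = s z * ((s z)⁻¹ * s z') := by group
          have h11 : a * ((s z)⁻¹ * s z') * a⁻¹ = (s z)⁻¹ * s z' := by rw [← h9]; group
          rw [h10]
          calc a * s z * a⁻¹ * (s z)⁻¹ = (a * s z * a⁻¹) * ((s z)⁻¹ * s z') * ((s z)⁻¹ * s z')⁻¹ * (s z)⁻¹ := by group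
            _ = (a * s z * a⁻¹) * (a * ((s z)⁻¹ * s z') * a⁻¹) * ((s z)⁻¹ * s z')⁻¹ * (s z)⁻¹ := by rw [h11]
            _ = a * (s z * ((s z)⁻¹ * s z')) * a⁻¹ * (s z * ((s z)⁻¹ * s z'))⁻¹ := by group
        have h8 : Nat.card M ≤ Nat.card (l c) := by
          have h9 : Nat.card (l c) * Nat.card M ≤ Nat.card (N c) := by
            rw [h6]
            exact Nat.mul_le_mul_right _ h7
          rw [h.cardN c] at h9
          exact Nat.le_of_mul_le_mul_left h9 Nat.card_pos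
        have h9 : l c = M := Subgroup.eq_of_le_of_card_ge lM h8
        apply hwl
        rw [h9]
        refine mem_inf.2 ⟨hwN, ?_⟩
        rw [mem_centralizer_singleton_iff]
        calc w * a = (a * w * a⁻¹) * a := by rw [h1]
          _ = a * w := by group
      have hmove : ∀ a ∈ A, ∀ b ∈ A, ((a * v * a⁻¹)⁻¹ * (b * v * b⁻¹)) ∈ centralizer (A0 : Set G) → a⁻¹ * b ∈ A0 := by
        intro a ha b hb hab
        refine haw _ (mul_mem (inv_mem ha) hb) ?_
        have h1 := mem_centralizer_iff.1 hab a0 ha0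
        have h2 := hva a ha
        have h3 := hva b hb
        -- `x⁻¹ y` commutes with `a₀`, so `[x, a₀] = [y, a₀]`
        have h4 : (a * v * a⁻¹) * a0 * (a * v * a⁻¹)⁻¹ * a0⁻¹ = (b * v * b⁻¹) * a0 * (b * v * b⁻¹)⁻¹ * a0⁻¹ := by
          set x := a * v * a⁻¹
          set y := b * v * b⁻¹
          have h5 : a0 = (x⁻¹ * y) * a0 * (x⁻¹ * y)⁻¹ := by rw [← h1]; group
          calc x * a0 * x⁻¹ * a0⁻¹ = x * ((x⁻¹ * y) * a0 * (x⁻¹ * y)⁻¹) * x⁻¹ * a0⁻¹ := by rw [← h5]
            _ = y * a0 * y⁻¹ * a0⁻¹ := by group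
        rw [h2, h3] at h4
        calc a⁻¹ * b * w * (a⁻¹ * b)⁻¹ = a⁻¹ * (b * w * b⁻¹) * a := by group
          _ = a⁻¹ * (a * w * a⁻¹) * a := by rw [h4]
          _ = w := by group
      -- the count
      set M : Subgroup G := Y ⊓ centralizer (A0 : Set G) with hM
      have c1 : q < Nat.card (Y ⧸ M.subgroupOf Y) := by
        refine quot_lt (fun a => a * v * a⁻¹) vaY (fun a ha b hb hab => hmove a ha b hb hab.2) ?_
        intro a ha h1
        have h2 := mem_centralizer_iff.1 h1.2 a0 ha0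
        have h3 := hva a ha
        have h4 : (a * v * a⁻¹) * a0 * (a * v * a⁻¹)⁻¹ * a0⁻¹ = 1 := by rw [← h2]; group
        rw [h3] at h4
        apply hw1
        calc w = a⁻¹ * (a * w * a⁻¹) * a := by group
          _ = 1 := by rw [h4]; group
      have c2 := quot_card (inf_le_left : M ≤ Y)
      -- Thompson for `D = A₀ N c`
      have c3 := thom hD (eab_mono eE YE) (YE.trans EO)
      have hNY : N c ≤ centralizer (Y : Set G) := fun n hn => mem_centralizer_iff.2 fun y hy =>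
        ecom y (YE hy) n (hcN hn)
      set K : Subgroup G := (A0 ⊔ N c) ⊓ centralizer (Y : Set G) with hK
      have cm : A0 ≤ centralizer (N c : Set G) := inf_le_right
      have hdec : ∀ d ∈ A0 ⊔ N c, ∃ a ∈ A0, ∃ n ∈ N c, d = a * n := by
        intro d hd
        have h1 : N c ≤ normalizer (A0 : Set G) :=
          (NoFF.Basic.comm_symm cm).trans (centralizer_le_normalizer _)
        exact dec h1 hd
      have c4 : Nat.card ((A0 ⊔ N c : Subgroup G) ⧸ K.subgroupOf (A0 ⊔ N c)) ≤ Nat.card (l c) := by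
        have h1 : Nat.card (cj m (l c)) = Nat.card (l c) := Cfsg.Agent.ZN.ChoiceBase.card_cj m (l c)
        rw [← h1]
        refine quot_le (fun d => v * d * v⁻¹ * d⁻¹) ?_ ?_
        · intro d hd
          obtain ⟨a, ha, n, hn, rfl⟩ := hdec d hd
          have h2 : v * n * v⁻¹ = n := by rw [ecom v hv n (hcN hn), mul_inv_cancel_right]
          have h3 : v * (a * n) * v⁻¹ * (a * n)⁻¹ = v * a * v⁻¹ * a⁻¹ := by
            calc v * (a * n) * v⁻¹ * (a * n)⁻¹ = v * a * v⁻¹ * (v * n * v⁻¹) * n⁻¹ * a⁻¹ := by group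
              _ = v * a * v⁻¹ * a⁻¹ := by rw [h2]; group
          rw [h3]
          exact hvQ a (A0Q ha)
        · intro d hd d' hd' hdd
          have hmem := mul_mem (inv_mem hd) hd'
          refine mem_inf.2 ⟨hmem, ?_⟩
          -- `d⁻¹ d'` commutes with `v`
          have h2 : v⁻¹ * (d⁻¹ * d') = (d⁻¹ * d') * v⁻¹ := by
            have hDc : d * d' = d' * d := mem_centralizer_iff.1 (comA hD.1 hd') d hd
            have h3 : v * d * v⁻¹ * d⁻¹ = v * d' * v⁻¹ * d'⁻¹ := hdd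
            have h4 : d * v⁻¹ * d⁻¹ = d' * v⁻¹ * d'⁻¹ := by
              calc d * v⁻¹ * d⁻¹ = v⁻¹ * (v * d * v⁻¹ * d⁻¹) := by group
                _ = v⁻¹ * (v * d' * v⁻¹ * d'⁻¹) := by rw [h3]
                _ = d' * v⁻¹ * d'⁻¹ := by group
            have h5 : d⁻¹ * d' = d' * d⁻¹ := by
              calc d⁻¹ * d' = d⁻¹ * (d' * d) * d⁻¹ := by group
                _ = d' * d⁻¹ := by rw [← hDc]; group
            calc v⁻¹ * (d⁻¹ * d') = d⁻¹ * (d * v⁻¹ * d⁻¹) * d' := by group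
              _ = d⁻¹ * (d' * v⁻¹ * d'⁻¹) * d' := by rw [h4]
              _ = (d⁻¹ * d') * v⁻¹ := by group
          have h3 : v * (d⁻¹ * d') = (d⁻¹ * d') * v := by
            calc v * (d⁻¹ * d') = v * ((d⁻¹ * d') * v⁻¹) * v := by group
              _ = v * (v⁻¹ * (d⁻¹ * d')) * v := by rw [h2]
              _ = (d⁻¹ * d') * v := by group
          obtain ⟨a, ha, n, hn, e1⟩ := hdec _ hmem
          rw [e1] at h3 ⊢
          have h4 : v * n = n * v := ecom v hv n (hcN hn)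
          have h5 : v * a = a * v := by
            have h6 : v * a * n = a * v * n := by
              calc v * a * n = v * (a * n) := by group
                _ = a * (n * v) := by rw [h3]; group
                _ = a * v * n := by rw [← h4]; group
            exact mul_right_cancel h6
          have h6 := centY a (A0A ha) h5
          refine mul_mem ?_ (hNY hn)
          rw [mem_centralizer_iff]
          exact fun y hy => mem_centralizer_singleton_iff.1 (h6 hy)
      have c5 := quot_card (inf_le_left : K ≤ A0 ⊔ N c)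
      have c6 : Nat.card ↥(Y ⊓ centralizer ((A0 ⊔ N c : Subgroup G) : Set G)) ≤ Nat.card M :=
        Subgroup.card_le_of_le (inf_le_inf_left _ (centralizer_le (le_sup_left : A0 ≤ A0 ⊔ N c)))
      -- combine
      have pK : 0 < Nat.card K := Nat.card_pos
      have pM : 0 < Nat.card M := Nat.card_pos
      have c7 : Nat.card Y * Nat.card K ≤ Nat.card (l c) * Nat.card K * Nat.card M := by
        calc Nat.card Y * Nat.card K ≤ Nat.card ↥(A0 ⊔ N c) *
              Nat.card ↥(Y ⊓ centralizer ((A0 ⊔ N c : Subgroup G) : Set G)) := c3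
          _ ≤ (Nat.card (l c) * Nat.card K) * Nat.card M := by
            refine Nat.mul_le_mul ?_ c6
            rw [c5]
            exact Nat.mul_le_mul_right _ c4
      have c8 : Nat.card Y ≤ Nat.card (l c) * Nat.card M := by
        apply Nat.le_of_mul_le_mul_right _ pK
        calc Nat.card Y * Nat.card K ≤ _ := c7
          _ = Nat.card (l c) * Nat.card M * Nat.card K := by ring
      rw [c2, ← hql] at c8
      exact absurd (Nat.le_of_mul_le_mul_right c8 pM) (not_le.2 c1)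
    -- second half
    have A0Y : A0 ≤ centralizer (Y : Set G) := by
      intro a ha
      rw [mem_centralizer_iff]
      exact fun y hy => mem_centralizer_singleton_iff.1 (centY a (A0A ha) (step1 a ha) hy)
    have Y2E : Y ⊔ N c ≤ E c := sup_le YE hcN
    have d1 := thom hA (eab_mono eE Y2E) (Y2E.trans EO)
    have d2 : A0 ≤ A ⊓ centralizer ((Y ⊔ N c : Subgroup G) : Set G) := by
      refine le_inf A0A (NoFF.Basic.comm_symm (sup_le (NoFF.Basic.comm_symm A0Y) (NoFF.Basic.comm_symm inf_le_right)))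
    set C : Subgroup G := (Y ⊔ N c) ⊓ centralizer (A : Set G) with hC
    have p0 : 0 < Nat.card A0 := Nat.card_pos
    have d3 : Nat.card ↥(Y ⊔ N c) ≤ Nat.card (l c) * Nat.card C := by
      apply Nat.le_of_mul_le_mul_right _ p0
      calc Nat.card ↥(Y ⊔ N c) * Nat.card A0
          ≤ Nat.card ↥(Y ⊔ N c) * Nat.card ↥(A ⊓ centralizer ((Y ⊔ N c : Subgroup G) : Set G)) :=
            Nat.mul_le_mul_left _ (Subgroup.card_le_of_le d2)
        _ ≤ Nat.card A * Nat.card C := d1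
        _ = Nat.card (l c) * Nat.card C * Nat.card A0 := by rw [hqc, hql]; ring
    have d4 : Y ⊔ N c ≤ N c ⊔ C := by
      have hle : N c ⊔ C ≤ Y ⊔ N c := sup_le le_sup_right inf_le_left
      have hcc : N c ≤ centralizer (C : Set G) := fun n hn => mem_centralizer_iff.2 fun y hy =>
        ecom y (Y2E hy.1) n (hcN hn)
      have e1 := Cfsg.Agent.PLocal.ElemAbSup.card_sup_mul_card_inf (A := C) (B := N c) hcc
      have e2 : C ⊓ N c ≤ l c := (le_inf inf_le_right (inf_le_left.trans inf_le_right)).trans cNA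
      have e3 := Subgroup.card_le_of_le e2
      refine (Subgroup.eq_of_le_of_card_ge hle ?_).ge
      have pl : 0 < Nat.card (l c) := Nat.card_pos
      apply Nat.le_of_mul_le_mul_right _ pl
      calc Nat.card ↥(Y ⊔ N c) * Nat.card (l c) ≤ Nat.card (l c) * Nat.card C * Nat.card (l c) :=
            Nat.mul_le_mul_right _ d3
        _ = Nat.card C * Nat.card (N c) := by rw [h.cardN c]; ring
        _ = Nat.card ↥(C ⊔ N c) * Nat.card ↥(C ⊓ N c) := e1.symm
        _ ≤ Nat.card ↥(N c ⊔ C) * Nat.card (l c) := by rw [sup_comm]; exact Nat.mul_le_mul_left _ e3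
    -- `[v, A] ≤ l c`
    have d5 : ∀ a ∈ A, a * v * a⁻¹ * v⁻¹ ∈ l c := by
      intro a ha
      have h1 : v ∈ N c ⊔ C := d4 (mem_sup_left vY)
      have hCc : C ≤ centralizer (N c : Set G) := fun y hy => mem_centralizer_iff.2 fun n hn =>
        ecom n (hcN hn) y (Y2E hy.1)
      obtain ⟨n, hn, y, hy, e0⟩ := dec (F := N c) (N := C) (hCc.trans (centralizer_le_normalizer _)) h1
      have h2 : a * y * a⁻¹ = y := by rw [mem_centralizer_iff.1 hy.2 a ha, mul_inv_cancel_right]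
      have h3 : a * (n * y) * a⁻¹ * (n * y)⁻¹ = a * n * a⁻¹ * n⁻¹ := by
        calc a * (n * y) * a⁻¹ * (n * y)⁻¹ = (a * n * a⁻¹) * (a * y * a⁻¹) * y⁻¹ * n⁻¹ := by group
          _ = a * n * a⁻¹ * n⁻¹ := by rw [h2]; group
      rw [e0, h3]
      exact hFull.inl a ha n hn
    intro g hg
    set w : G := v * g * v⁻¹ * g⁻¹ with hw
    have hwL : w ∈ cj m (l c) := hvQ g hg
    have hwN : w ∈ N c := L'N hwL
    have hwA : w ∈ centralizer (A : Set G) := by
      rw [mem_centralizer_iff]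
      intro a ha
      -- `a w a⁻¹ = [v, a g a⁻¹]`
      have hg' := hAQn a ha g hg
      set g' : G := a * g * a⁻¹ with hg'e
      set z : G := a * v * a⁻¹ * v⁻¹ with hz
      have hzl : z ∈ l c := d5 a ha
      have hzN : z ∈ N c := h.lN c hzl
      have e1 : a * w * a⁻¹ = z * (v * g' * v⁻¹ * g'⁻¹) * z⁻¹ := by
        have e2 : g' * z⁻¹ * g'⁻¹ = z⁻¹ := by
          rw [← hQN g' hg' z⁻¹ (inv_mem hzN), mul_inv_cancel_right]
        calc a * w * a⁻¹ = (a * v * a⁻¹) * g' * (a * v * a⁻¹)⁻¹ * g'⁻¹ := by rw [hw, hg'e]; group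
          _ = (z * v) * g' * (z * v)⁻¹ * g'⁻¹ := by rw [hz]; group
          _ = z * (v * g' * v⁻¹ * g'⁻¹) * (g' * z⁻¹ * g'⁻¹) := by group
          _ = z * (v * g' * v⁻¹ * g'⁻¹) * z⁻¹ := by rw [e2]
      have e3 : v * g' * v⁻¹ * g'⁻¹ ∈ cj m (l c) := hvQ g' hg'
      have e4 : z * (v * g' * v⁻¹ * g'⁻¹) * z⁻¹ = v * g' * v⁻¹ * g'⁻¹ := by
        rw [ecom z (hcN hzN) _ (hcN (L'N e3)), mul_inv_cancel_right]
      rw [e4] at e1
      have e5 : a * w * a⁻¹ * w⁻¹ ∈ cj m (l c) ⊓ l c := by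
        refine mem_inf.2 ⟨?_, hFull.inl a ha w hwN⟩
        rw [e1]
        exact mul_mem e3 (inv_mem hwL)
      rw [ml] at e5
      have e6 : a * w * a⁻¹ = w := mul_inv_eq_one.1 (mem_bot.1 e5)
      calc a * w = (a * w * a⁻¹) * a := by group
        _ = w * a := by rw [e6]
    have h1 : w ∈ cj m (l c) ⊓ l c := ⟨hwL, cNA ⟨hwN, hwA⟩⟩
    rw [ml] at h1
    exact mem_bot.1 h1
  -- conclusion
  intro g hg
  rw [mem_centralizer_iff]
  intro x hx
  have hv : m * x * m⁻¹ ∈ E c := (mem_normalizer_iff.1 mE x).1 (hX hx)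
  have h1 : ∀ g ∈ Q, (m * x * m⁻¹) * g * (m * x * m⁻¹)⁻¹ * g⁻¹ ∈ cj m (l c) := by
    intro g hg
    rw [mem_cj]
    have h2 := hl x hx _ (mQ' g hg)
    have e1 : m⁻¹ * ((m * x * m⁻¹) * g * (m * x * m⁻¹)⁻¹ * g⁻¹) * m =
        x * (m⁻¹ * g * m) * x⁻¹ * (m⁻¹ * g * m)⁻¹ := by group
    rw [e1]
    exact h2
  have h2 := main _ hv h1 (m * g * m⁻¹) ((mem_normalizer_iff.1 mQ g).1 hg)
  have e1 : (m * x * m⁻¹) * (m * g * m⁻¹) * (m * x * m⁻¹)⁻¹ * (m * g * m⁻¹)⁻¹ = m * (x * g * x⁻¹ * g⁻¹) * m⁻¹ := by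
    group
  rw [e1] at h2
  have h3 : x * g * x⁻¹ * g⁻¹ = 1 := by
    calc x * g * x⁻¹ * g⁻¹ = m⁻¹ * (m * (x * g * x⁻¹ * g⁻¹) * m⁻¹) * m := by group
      _ = 1 := by rw [h2]; group
  calc x * g = (x * g * x⁻¹ * g⁻¹) * (g * x) := by group
    _ = g * x := by rw [h3, one_mul]

end Fr

end Cfsg.Agent.Omega.NOThreeL.RWide.UniT
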