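import Cfsg.Agent.Omega.NOThreeL.RWide.ParT.Loc
import Cfsg.Agent.Omega.NOThreeL.RWide.TBlk
import Cfsg.Agent.Omega.NOThreeL.RWide.UniT.Fr

/-!
# The frame `UniT.Fr` from `Rts` and `Typ0`

* `frat` : Frattini in `Y_c ∩ N(V)` for `C_T(V)`;
* `exists_opp` : an element of `E c` with `l c ∩ (l c)^e = 1`;
* `lam` : the field `lam`;
* **`fr_of`** : `Rts T O N l` and `Typ0 T F N` give `Fr T O P N l (fun c => ⟨Ω₁Z(T)^(X_jc)⟩) j` for every minimal parabolic
  `P ≤ Y_j` over `T` which moves `F_j`.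
-/

set_option autoImplicit false
set_option linter.unusedSectionVars false

namespace Cfsg.Agent.Omega.NOThreeL.RWide.UniT

open Subgroup Cfsg Cfsg.Agent.Omega.MinPar
open Cfsg.Agent.ZN (zc o2 zl)
open Cfsg.Agent.ZN.ChoiceBase (cj AA cj_mono cj_inf cj_centralizer cj_eq_of_mem_normalizer mem_cj mem_normalizer_iff_cj
  cj_cj_inv cj_inv_cj cj_cj isPGroup_cj card_cj)
open Cfsg.Agent.ZN.ChoiceSit (Syl syl_conj exists_syl)
open Cfsg.Agent.MinSimple.MinParabolic (IsMinPar)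
open Cfsg.Agent.Omega.EDel.ThmU (XF)
open Cfsg.Agent.Omega.NOThreeL.RWide.ParT.Loc (Typ0 XF_norm_X)
open Cfsg.Agent.Omega.NOThreeL.RWide.TBlk (Bls NB)

universe u v

variable {G : Type u} [Group G] {ι : Type v}

/-- Frattini for `C_T(V)` in `Y_c ∩ N(V)` -/
theorem frat [Finite G] {T V : Subgroup G} {F N : ι → Subgroup G} (t : Typ0 T F N) (hTV : T ≤ normalizer (V : Set G))
    {c : ι} {e : G} (he : e ∈ YY F c) (heV : e ∈ normalizer (V : Set G)) :
    ∃ m ∈ YY F c, m ∈ normalizer ((T ⊓ centralizer (V : Set G) : Subgroup G) : Set G) ∧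
      ∀ v ∈ V, m * v * m⁻¹ = e * v * e⁻¹ := by
  set X := YY F c ⊓ normalizer (V : Set G) with hX
  set K := X ⊓ centralizer (V : Set G) with hK
  have hTX : T ≤ X := le_inf (t.T_le c) hTV
  have hs : Syl T X := t.syl_of' hTX inf_le_left
  have hKn : ∀ g ∈ X, cj g K = K := fun g hg => by
    rw [hK, cj_inf, cj_eq_of_mem_normalizer (Subgroup.le_normalizer hg), cj_centralizer,
      cj_eq_of_mem_normalizer hg.2]
  have hQ : Syl (T ⊓ centralizer (V : Set G)) K := by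
    have h1 : Syl (T ⊓ K) K := SQ1.FFOne.syl_inf hs inf_le_left (fun g hg n hn => by
      have h2 : g * n * g⁻¹ ∈ cj g K := ⟨n, hn, rfl⟩
      rwa [hKn g hg] at h2)
    have e1 : T ⊓ K = T ⊓ centralizer (V : Set G) := by
      rw [hK, ← inf_assoc, inf_eq_left.2 hTX]
    rwa [e1] at h1
  have heX : e ∈ X := ⟨he, heV⟩
  have h1 : cj e (T ⊓ centralizer (V : Set G)) ≤ K := by
    have h2 := cj_mono e hQ.1
    rwa [hKn e heX] at h2
  obtain ⟨Q, hQs, hle⟩ := exists_syl (isPGroup_cj e hQ.2.1) h1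
  obtain ⟨k, hk, rfl⟩ := syl_conj hQ hQs
  refine ⟨k⁻¹ * e, mul_mem (inv_mem hk.1.1) he, ?_, fun v hv => ?_⟩
  · have h3 : cj (k⁻¹ * e) (T ⊓ centralizer (V : Set G)) ≤ T ⊓ centralizer (V : Set G) := by
      have := cj_mono k⁻¹ hle
      rwa [cj_inv_cj, cj_cj] at this
    exact mem_normalizer_iff_cj.2 (Subgroup.eq_of_le_of_card_ge h3 (by rw [card_cj]))
  · have hw : e * v * e⁻¹ ∈ V := (mem_normalizer_iff.1 heV v).1 hv
    have h4 : e * v * e⁻¹ * k = k * (e * v * e⁻¹) := mem_centralizer_iff.1 hk.2 _ hw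
    calc k⁻¹ * e * v * (k⁻¹ * e)⁻¹ = k⁻¹ * (e * v * e⁻¹ * k) := by group
      _ = e * v * e⁻¹ := by rw [h4]; group

/-- an element of `E` which moves the line to an opposite one -/
theorem NB.exists_opp {S E N l : Subgroup G} {F : Type} [Field F] {e : G → Fin 2 → F} (h : NB S E N l F e) :
    ∃ g ∈ E, cj g l ⊓ l = ⊥ := by
  let M : Matrix.SpecialLinearGroup (Fin 2) F := ⟨!![0, 1; -1, 0], by simp [Matrix.det_fin_two]⟩
  obtain ⟨g, hg, hgM⟩ := h.full M
  refine ⟨g, hg, ?_⟩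
  rw [eq_bot_iff]
  rintro _ ⟨⟨v, hv, rfl⟩, hw⟩
  obtain ⟨hvN, hv1⟩ := (h.line v).1 hv
  obtain ⟨-, hw1⟩ := (h.line _).1 hw
  have h1 := hgM v hvN
  have h2 : e (g * v * g⁻¹) 1 = 0 := hw1
  rw [h1] at h2
  have h3 : e v 0 = 0 := by
    have h4 : (M.1.mulVec (e v)) 1 = -e v 0 := by
      simp [M, Matrix.mulVec, dotProduct, Fin.sum_univ_two]
    rw [h4] at h2
    exact neg_eq_zero.1 h2
  have h5 : v = 1 := h.inj v hvN (by
    funext i
    fin_cases i
    · exact h3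
    · exact hv1)
  rw [mem_bot, h5]
  simp

/-- **The field `lam`.** -/
theorem lam [Finite G] {S T V : Subgroup G} {F N l E : ι → Subgroup G} (hB : Bls S V N l E) (t : Typ0 T F N)
    (j c : ι) : ∃ m, m ∈ normalizer (XS (zc T) (XF F j c) : Set G) ∧ m ∈ normalizer (N c : Set G) ∧
      (∀ b, b ≠ c → m ∈ centralizer (N b : Set G)) ∧
      m ∈ normalizer ((T ⊓ centralizer ((⨆ b, N b : Subgroup G) : Set G) : Subgroup G) : Set G) ∧
      cj m (l c) ⊓ l c = ⊥ := by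
  obtain ⟨F', _, _, _, e', he'⟩ := hB.nat c
  obtain ⟨e, heE, heo⟩ := NB.exists_opp he'
  have hN : ∀ b, N b ≤ ⨆ b, N b := le_iSup N
  have heN : ∀ b, e ∈ normalizer (N b : Set G) := by
    intro b
    by_cases hb : c = b
    · subst hb; exact hB.EN c heE
    · exact centralizer_le_normalizer _ (hB.EC c b hb heE)
  have heV : e ∈ normalizer ((⨆ b, N b : Subgroup G) : Set G) := by
    refine Cfsg.Agent.ZN.ChoiceBase.mem_normalizer_of_cj_le ?_
    rw [cj, Subgroup.map_iSup]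
    exact iSup_le fun b => (cj_eq_of_mem_normalizer (heN b)).le.trans (hN b)
  have heY : e ∈ YY F c := le_YY (K := E c) (fun b hb => (hB.EC c b fun h => hb h.symm).trans
    (centralizer_le (t.FV b))) heE
  have hTV : T ≤ normalizer ((⨆ b, N b : Subgroup G) : Set G) := by
    intro s hs
    refine Cfsg.Agent.ZN.ChoiceBase.mem_normalizer_of_cj_le ?_
    rw [cj, Subgroup.map_iSup]
    exact iSup_le fun b => (cj_eq_of_mem_normalizer (t.TV b hs)).le.trans (hN b)
  obtain ⟨m, hm, hmQ, hmv⟩ := frat t hTV heY heV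
  have hcj : ∀ A : Subgroup G, A ≤ ⨆ b, N b → cj m A = cj e A := by
    intro A hA
    ext x
    constructor
    · rintro ⟨a, ha, rfl⟩
      exact ⟨a, ha, (hmv a (hA ha)).symm⟩
    · rintro ⟨a, ha, rfl⟩
      exact ⟨a, ha, hmv a (hA ha)⟩
  have hlN : l c ≤ N c := fun v hv => ((he'.line v).1 hv).1
  refine ⟨m, XF_norm_X T F j c (Typ0.YY_le_XF' F j c hm), ?_, fun b hb => ?_, hmQ, ?_⟩
  · rw [mem_normalizer_iff_cj, hcj _ (hN c), cj_eq_of_mem_normalizer (heN c)]
  · refine mem_centralizer_iff.2 fun v hv => ?_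
    have h1 := hmv v (hN b hv)
    have h2 : v * e = e * v := mem_centralizer_iff.1 (hB.EC c b (fun h => hb h.symm) heE) v hv
    rw [← h2, mul_inv_cancel_right] at h1
    exact (mul_inv_eq_iff_eq_mul.1 h1).symm
  · rw [hcj _ (hlN.trans (hN c)), heo]

/-- **The frame.** -/
theorem fr_of [Finite G] {S T V : Subgroup G} {N l E : ι → Subgroup G} (hc : IsCharacteristicTwoType G)
    (hB : Bls S V N l E) (t : Typ0 T (fun b => l b ⊓ centralizer (T : Set G)) N)
    (r : Rts T (o2 (centralizer (zc T : Set G))) N l) {j : ι} {P : Subgroup G} (hP : IsMinPar T P)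
    (hPY : P ≤ YY (fun b => l b ⊓ centralizer (T : Set G)) j)
    (hmv : ¬ P ≤ centralizer ((l j ⊓ centralizer (T : Set G) : Subgroup G) : Set G)) :
    Fr T (o2 (centralizer (zc T : Set G))) P N l
      (fun c => XS (zc T) (XF (fun b => l b ⊓ centralizer (T : Set G)) j c)) j where
  toRts := r
  syl := t.syl_of' hP.le hPY
  par := hP
  UQ := t.inf_cent_zl hc hP hPY hmv
  cR := t.char2_of hc hP.le hPY
  zT := t.sup
  RF _ hb := hPY.trans (YY_le_cent hb)
  mv := hmv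
  ex := t.exists_ne j
  EO _ hcj := t.X_le_O hc (fun h => hcj h.symm)
  eab _ hcj := t.eab_X hc (fun h => hcj h.symm)
  RE c _ := (hPY.trans (Typ0.YY_le_XF _ j c)).trans (XF_norm_X T _ j c)
  jE c _ := t.V_le_X' j c
  NE c _ := t.V_le_X j c
  ZE c _ := t.zc_le_X j c
  lam c _ := lam hB t j c

end Cfsg.Agent.Omega.NOThreeL.RWide.UniT
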