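import Cfsg.Agent.Omega.NOThreeL.RWide.UniT.Plug
import Cfsg.Agent.Omega.NOThreeL.RWide.UniT.AOne
import Cfsg.Agent.Omega.NOThreeL.RWide.UniT.ATwo
import Cfsg.Agent.Omega.NOThreeL.RWide.UniT.LamJ
import Cfsg.Agent.Omega.NOThreeL.RRed.UPar
import Cfsg.Agent.Omega.FFBr.Final

/-!
# `parT` (helper848 #27137) and `UPar.ParX`

* `rts_of` : `Rts (TT S N) (OT (TT S N)) N l` from `TFm` and `AllT` (`AA(O)` moves every block);
* **`parT_of_all`** : `parT` from `AllT`;  **`parX_of`** : `UPar.ParX` from `AllT`.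
-/

set_option autoImplicit false
set_option linter.unusedSectionVars false

namespace Cfsg.Agent.Omega.NOThreeL.RWide.UniT.ParX

open Subgroup Cfsg Cfsg.Agent.Omega.MinPar Cfsg.Agent.Omega.Frame
open Cfsg.Agent.ZN (zc o2 zl)
open Cfsg.Agent.ZN.ChoiceBase (cj AA)
open Cfsg.Agent.MinSimple.MinParabolic (IsMinPar)
open Cfsg.Agent.Omega.EDel.ThmU (XF)
open Cfsg.Agent.Omega.NOThreeL.RWide.TAct (TT BB Tf OT)
open Cfsg.Agent.Omega.NOThreeL.RWide.ParQ (toTf)
open Cfsg.Agent.Omega.KL.TwoS (Mx)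

universe u v

section

variable {G : Type u} [Group G] [Finite G] {ι : Type v} [Finite ι] [Nonempty ι] {S : Sylow 2 G} {V : Subgroup G}
  {N l E : ι → Subgroup G}

/-- **`Rts`** over `T` -/
theorem rts_of (hc : IsCharacteristicTwoType G) (h : TFm S V N l E) (three : ∀ i j : ι, ∃ k, k ≠ i ∧ k ≠ j)
    (all : ∀ b, ∃ A ∈ AA (OT (TT (S : Subgroup G) N)), ¬ A ≤ centralizer (N b : Set G)) :
    Rts (TT (S : Subgroup G) N) (OT (TT (S : Subgroup G) N)) N l := by
  refine rts h.toBls S.isPGroup' (AOne.OT_le h) (fun b => ?_) all ?_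
  · exact ((toTf h).NV b).trans (AOne.V_le_O h hc three)
  · have e : TBlk.TT (S : Subgroup G) N ⊓ centralizer ((⨆ b, l b : Subgroup G) : Set G) =
        BB (S : Subgroup G) l :=
      le_antisymm (le_inf (inf_le_left.trans inf_le_left) inf_le_right) (le_inf (toTf h).BT inf_le_right)
    rw [e]
    exact h.I4

/-- **`parT`** from `AA(O)` moves every block -/
theorem parT_of_all (hFF : FFThm.Stmt.{u}) (hc : IsCharacteristicTwoType G) (h : TFm S V N l E)
    (three : ∀ i j : ι, ∃ k, k ≠ i ∧ k ≠ j)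
    (ln : ∀ c ∈ centralizer (zc (S : Subgroup G) : Set G), ∀ b, ∃ b', cj c (l b) = l b')
    (all : ∀ b, ∃ A ∈ AA (OT (TT (S : Subgroup G) N)), ¬ A ≤ centralizer (N b : Set G)) :
    RRed.UMany.ParT (S : Subgroup G) N l :=
  parT_of' hFF hc h three ln (rts_of hc h three all)
    (fun _ _ hP hPY hmv hU b => AOne.a_one h hc three ln all hP hPY hmv hU b)
    (fun j _ hfr _ hU => hfr.atwo hFF (lamj h.toBls (ParA.Glue.typ0 h three) j) hU)

end

/-- `𝒜(O₂(C_G(Z)))` moves every block ⟹ `𝒜(O)`, `O = O₂(C_G(Ω₁Z(T)))` moves every block -/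
def AllT : Prop :=
  ∀ (G : Type u) [Group G] [Finite G], IsCharacteristicTwoType G → ∀ (S : Sylow 2 G) (V : Subgroup G) (ι : Type u)
    [Finite ι] [Nonempty ι] (N l E : ι → Subgroup G), TFm S V N l E →
      (∀ c ∈ centralizer (zc (S : Subgroup G) : Set G), ∀ b, ∃ b', cj c (l b) = l b') →
        (∀ b, ∃ A, Mx (o2 (centralizer (zc (S : Subgroup G) : Set G))) A ∧ ¬ A ≤ centralizer (N b : Set G)) →
          (∀ i j : ι, ∃ k, k ≠ i ∧ k ≠ j) →
            ∀ b, ∃ A ∈ AA (OT (TT (S : Subgroup G) N)), ¬ A ≤ centralizer (N b : Set G)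

/-- **`ParX`** from `AllT` -/
theorem parX_of (ha : AllT.{u}) : RRed.UPar.ParX.{u} := by
  intro G _ _ hG S V ι _ N l E h ln all three
  rcases isEmpty_or_nonempty ι with hi | hi
  · exact fun j => (hi.false j).elim
  · exact parT_of_all FFBr.ffthm hG.char2 h three ln (ha G hG.char2 S V ι N l E h ln all three)

end Cfsg.Agent.Omega.NOThreeL.RWide.UniT.ParX
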