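import Cfsg.Agent.Omega.NOThreeL.RWide.UniT.ParX
import Cfsg.Agent.Omega.NOThreeL.RWide.UniT.AllT

/-!
# `parX : UPar.ParX` and `WLeftMany`

* **`parX`** : the theorem `parT` (helper848 #27137) = `UPar.ParX` (helper995 #27055 / #27590, helper528 #27296, helper480,
  helper860, helper984, helper655, helper105, helper219, helper902, helper801, helper819);
* **`wLeftMany`** : `WLeftMany K B` (helper848, 258, 823).
-/

set_option autoImplicit false

namespace Cfsg.Agent.Omega.NOThreeL.RWide.UniT.ParXEnd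

open Cfsg.Agent.Omega.NOThreeL.RRed Cfsg.Agent.Omega.NOThreeL.RRed.GlueSig
open Cfsg.Agent.Omega.NOThreeL.RRed.WideTree
open Cfsg.Agent.Omega.KL.StarM (NoInpM)
open Cfsg.Agent.Omega.ML.Final (MLK)

universe u

/-- `𝒜(O)` moves every block -/
theorem allT' : ParX.AllT.{u} := by
  intro G _ _ hc S V ι _ _ N l E h ln all three b
  exact allT ln hc h three all b

/-- **`parT`** -/
theorem parX : UPar.ParX.{u} := ParX.parX_of allT'

/-- **`parT` in the situation of `WLeftMany`** -/
theorem parU (B : RRed.GlueSig.Fr.{u}) : UMany.ParU B := UPar.parU_of parX B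

/-- **`WLeftMany`** -/
theorem wLeftMany (hM : MLK.{u, u}) (hE : NoInpM.{u, u}) (K : Frame.Cls.{u}) (B : RRed.GlueSig.Fr.{u}) : WLeftMany K B :=
  UPar.wLeftMany_of hM hE parX K B

end Cfsg.Agent.Omega.NOThreeL.RWide.UniT.ParXEnd
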