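import Cfsg.Agent.Omega.NOThreeL.RWide.UniT.Pure

/-!
# PART G of #27055 : (9), second half, over coordinates (helper819 #27183)

* `exF` : a subgroup `Q' ≤ T` which moves `N` : `[N, Q']` meets `C_l(T)`;
* `partG_nat` : `[[N^x, A^m]] ≤ V` for the `m` moving the line ⟹ `Q` centralises `N^x`.
-/

set_option autoImplicit false
set_option linter.unusedSectionVars false

namespace Cfsg.Agent.Omega.NOThreeL.RWide.UniT.PartG

open Subgroup Cfsg
open Cfsg.Agent.ZN.ChoiceBase (cj mem_cj cj_eq_of_mem_normalizer mem_normalizer_iff_cj mem_normalizer_of_cj_le card_cj)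
open Cfsg.Agent.Omega.NOThreeL.RWide.UniT.Pure
open scoped commutatorElement

universe u

variable {G : Type u} [Group G] {F : Type} [Field F] {e : G → Fin 2 → F}

/-- a 2-element acts trivially if it acts as a scalar (char 2) -/
theorem scal_one [CharP F 2] {M : Subgroup G} {p : G → F} {c : G} {k : F} {m : ℕ} (hc : c ^ 2 ^ m = 1)
    (h : ∀ w ∈ M, c * w * c⁻¹ ∈ M ∧ p (c * w * c⁻¹) = k * p w) {w : G} (hw : w ∈ M) (hw0 : p w ≠ 0) : k = 1 := by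
  have key : ∀ n : ℕ, c ^ n * w * (c ^ n)⁻¹ ∈ M ∧ p (c ^ n * w * (c ^ n)⁻¹) = k ^ n * p w := by
    intro n
    induction n with
    | zero =>
      rw [pow_zero, one_mul, inv_one, mul_one, pow_zero, one_mul]
      exact ⟨hw, rfl⟩
    | succ n ih =>
      have e1 : c ^ (n + 1) * w * (c ^ (n + 1))⁻¹ = c * (c ^ n * w * (c ^ n)⁻¹) * c⁻¹ := by
        rw [pow_succ']; group
      obtain ⟨h1, h2⟩ := h _ ih.1
      rw [e1]
      refine ⟨h1, ?_⟩
      rw [h2, ih.2, pow_succ']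
      ring
  have h1 := (key (2 ^ m)).2
  rw [hc, one_mul, inv_one, mul_one] at h1
  have h2 : k ^ 2 ^ m = 1 := by
    have h3 : (k ^ 2 ^ m - 1) * p w = 0 := by rw [sub_mul, ← h1, one_mul, sub_self]
    rcases mul_eq_zero.1 h3 with h4 | h4
    · exact sub_eq_zero.1 h4
    · exact absurd h4 hw0
  have : Fact (Nat.Prime 2) := ⟨Nat.prime_two⟩
  have h3 : (k - 1) ^ 2 ^ m = 0 := by
    rw [sub_pow_char_pow, h2, one_pow, sub_self]
  exact sub_eq_zero.1 (eq_zero_of_pow_eq_zero h3)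

/-- **`[N, Q']` meets `C_l(T)`.** -/
theorem exF [Finite G] [Finite F] [CharP F 2] {N l T Q' : Subgroup G} (hC : Crd N F e)
    (line : ∀ v, v ∈ l ↔ v ∈ N ∧ e v 1 = 0) (T2 : IsPGroup 2 T) (TN : T ≤ normalizer (N : Set G))
    (semi : ∀ s ∈ T, ∃ (σ : F ≃+* F) (a b d : F), ∀ v ∈ N,
      e (s * v * s⁻¹) = ![a * σ (e v 0) + b * σ (e v 1), d * σ (e v 1)])
    (hQ : Q' ≤ T) (hne : ¬ Q' ≤ centralizer (N : Set G)) :
    ∃ f ∈ l, f ∈ centralizer (T : Set G) ∧ f ≠ 1 ∧ f ∈ (⁅N, Q'⁆ : Subgroup G) := by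
  have : Fact (Nat.Prime 2) := ⟨Nat.prime_two⟩
  have lN : l ≤ N := fun v hv => ((line v).1 hv).1
  have N2 : IsPGroup 2 N := fun v => ⟨1, Subtype.ext (by
    have h1 : (v : G) * v = 1 := by
      refine hC.inj _ (mul_mem v.2 v.2) ?_
      rw [hC.mul _ v.2 _ v.2]
      funext i
      exact CharTwo.add_self_eq_zero _
    change ((v : G)) ^ 2 ^ 1 = 1
    rw [pow_one, pow_two, h1])⟩
  have l2 : IsPGroup 2 l := N2.to_le lN
  -- `T` normalises `l`, semilinearly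
  have hl : ∀ s ∈ T, ∃ (σ : F ≃+* F) (a : F), a ≠ 0 ∧ ∀ z ∈ l, s * z * s⁻¹ ∈ l ∧ e (s * z * s⁻¹) 0 = a * σ (e z 0) := by
    intro s hs
    obtain ⟨σ, a, b, d, h1⟩ := semi s hs
    have h2 : ∀ z ∈ l, s * z * s⁻¹ ∈ l ∧ e (s * z * s⁻¹) = ![a * σ (e z 0), 0] := by
      intro z hz
      obtain ⟨hzN, hz1⟩ := (line z).1 hz
      have h3 := h1 z hzN
      rw [hz1, map_zero, mul_zero, mul_zero, add_zero] at h3
      exact ⟨(line _).2 ⟨(mem_normalizer_iff.1 (TN hs) z).1 hzN, by rw [h3]; rfl⟩, h3⟩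
    refine ⟨σ, a, ?_, fun z hz => ⟨(h2 z hz).1, by rw [(h2 z hz).2]; rfl⟩⟩
    intro ha
    obtain ⟨z, hz, hez⟩ := hC.sur ![1, 0]
    have hzl : z ∈ l := (line z).2 ⟨hz, by rw [hez]; rfl⟩
    obtain ⟨h3, h4⟩ := h2 z hzl
    have h5 : s * z * s⁻¹ = 1 := by
      refine hC.inj _ (lN h3) ?_
      rw [h4, ha, zero_mul]
      funext i
      fin_cases i <;> rfl
    have h6 : z = 1 := by
      calc z = s⁻¹ * (s * z * s⁻¹) * s := by group
        _ = 1 := by rw [h5]; group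
    rw [h6, hC.one] at hez
    exact zero_ne_one (congrFun hez 0)
  have Tl : T ≤ normalizer (l : Set G) := fun s hs => mem_normalizer_of_cj_le (by
    rintro _ ⟨z, hz, rfl⟩
    obtain ⟨σ, a, -, h1⟩ := hl s hs
    exact (h1 z hz).1)
  -- commutators of `T` centralise `l`
  have hcom : ∀ s ∈ T, ∀ t ∈ T, ∀ w ∈ l, (s * t * s⁻¹ * t⁻¹) * w * (s * t * s⁻¹ * t⁻¹)⁻¹ = w := by
    intro s hs t ht w hw
    obtain ⟨σ, a, ha, h1⟩ := hl s hs
    obtain ⟨τ, b, hb, h2⟩ := hl t ht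
    set c : G := s * t * s⁻¹ * t⁻¹ with hc
    have hcT : c ∈ T := mul_mem (mul_mem (mul_mem hs ht) (inv_mem hs)) (inv_mem ht)
    have hτa : τ a ≠ 0 := fun h0 => ha (τ.injective (h0.trans (map_zero τ).symm))
    set k : F := a * σ b * (b * τ a)⁻¹ with hk
    have h3 : ∀ w ∈ l, c * w * c⁻¹ ∈ l ∧ e (c * w * c⁻¹) 0 = k * e w 0 := by
      intro w hw
      set z : G := s⁻¹ * (t⁻¹ * w * t) * s with hz
      have hzl : z ∈ l := by
        have h4 : t⁻¹ * w * t ∈ l := by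
          have := (mem_normalizer_iff.1 (inv_mem (Tl ht)) w).1 hw
          rwa [inv_inv] at this
        have := (mem_normalizer_iff.1 (inv_mem (Tl hs)) _).1 h4
        rwa [inv_inv] at this
      have e1 : w = t * (s * z * s⁻¹) * t⁻¹ := by rw [hz]; group
      have e2 : c * w * c⁻¹ = s * (t * z * t⁻¹) * s⁻¹ := by rw [e1, hc]; group
      obtain ⟨h5, h6⟩ := h1 z hzl
      obtain ⟨h7, h8⟩ := h2 z hzl
      obtain ⟨h9, h10⟩ := h1 _ h7
      obtain ⟨h11, h12⟩ := h2 _ h5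
      refine ⟨by rw [e2]; exact h9, ?_⟩
      rw [e2, h10, h8]
      conv_rhs => rw [e1, h12, h6]
      rw [map_mul, map_mul, aut_comm σ τ, hk]
      field_simp
    obtain ⟨m, hm⟩ := T2 ⟨c, hcT⟩
    have hm' : c ^ 2 ^ m = 1 := congrArg Subtype.val hm
    obtain ⟨z, hz, hez⟩ := hC.sur ![1, 0]
    have hzl : z ∈ l := (line z).2 ⟨hz, by rw [hez]; rfl⟩
    have h4 : k = 1 := scal_one (p := fun v => e v 0) hm' h3 hzl (by
      rw [hez]
      exact one_ne_zero)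
    obtain ⟨h5, h6⟩ := h3 w hw
    refine hC.eq_of (lN h5) (lN hw) ?_
    funext i
    fin_cases i
    · change e (c * w * c⁻¹) 0 = e w 0
      rw [h6, h4, one_mul]
    · change e (c * w * c⁻¹) 1 = e w 1
      rw [((line _).1 h5).2, ((line _).1 hw).2]
  by_cases hcase : ∀ g ∈ Q', ∀ z ∈ l, g * z * g⁻¹ = z
  · -- root elements
    obtain ⟨g, hg, hgN⟩ := SetLike.not_le_iff_exists.1 hne
    obtain ⟨σ, a, b, d, h1⟩ := semi g (hQ hg)
    have h2 : ∀ x : F, a * σ x = x := by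
      intro x
      obtain ⟨z, hz, hez⟩ := hC.sur ![x, 0]
      have hzl : z ∈ l := (line z).2 ⟨hz, by rw [hez]; rfl⟩
      have h3 := h1 z hz
      rw [hcase g hg z hzl, hez] at h3
      have h4 := congrFun h3 0
      have h5 : x = a * σ x + b * σ 0 := h4
      rw [map_zero, mul_zero, add_zero] at h5
      exact h5.symm
    have ha : a = 1 := by
      have := h2 1
      rwa [map_one, mul_one] at this
    subst ha
    have h3 : ∀ x : F, σ x = x := fun x => by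
      have := h2 x
      rwa [one_mul] at this
    have h4 : ∀ v ∈ N, g * v * g⁻¹ ∈ N ∧ e (g * v * g⁻¹) 1 = d * e v 1 := by
      intro v hv
      refine ⟨(mem_normalizer_iff.1 (TN (hQ hg)) v).1 hv, ?_⟩
      rw [h1 v hv, h3, h3]
      rfl
    obtain ⟨m, hm⟩ := T2 ⟨g, hQ hg⟩
    have hm' : g ^ 2 ^ m = 1 := congrArg Subtype.val hm
    obtain ⟨v₁, hv₁, hev₁⟩ := hC.sur ![0, 1]
    have hd : d = 1 := scal_one (p := fun v => e v 1) hm' h4 hv₁ (by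
      rw [hev₁]
      exact one_ne_zero)
    subst hd
    have hR : Rt N e g b := by
      intro v hv
      refine ⟨(h4 v hv).1, ?_⟩
      rw [h1 v hv, h3, h3, one_mul, one_mul]
    have hb : b ≠ 0 := by
      intro h0
      subst h0
      exact hgN (hC.rt_zero hR)
    have hlne : l ≠ ⊥ := by
      intro h0
      obtain ⟨z, hz, hez⟩ := hC.sur ![1, 0]
      have hzl : z ∈ l := (line z).2 ⟨hz, by rw [hez]; rfl⟩
      rw [h0, mem_bot] at hzl
      rw [hzl, hC.one] at hez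
      exact zero_ne_one (congrFun hez 0)
    have h5 := PLocal.OffenderStep.inf_centralizer_ne_bot l T l2 T2 Tl hlne
    obtain ⟨f, hf1⟩ := Subgroup.ne_bot_iff_exists_ne_one.1 h5
    refine ⟨f, f.2.1, f.2.2, fun h0 => hf1 (Subtype.ext h0), ?_⟩
    obtain ⟨v, hv, hev⟩ := hC.sur ![0, b⁻¹ * e f 0]
    obtain ⟨h6, h7⟩ := hC.comm_rt hR hv
    have h8 : g * v * g⁻¹ * v⁻¹ = f := by
      refine hC.eq_of h6 (lN f.2.1) ?_
      rw [h7, hev]
      funext i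
      fin_cases i
      · change b * (b⁻¹ * e f 0) = e f 0
        rw [mul_inv_cancel_left₀ hb]
      · exact ((line _).1 f.2.1).2.symm
    rw [← h8]
    have e1 : g * v * g⁻¹ * v⁻¹ = ⁅v, g⁆⁻¹ := by rw [commutatorElement_inv, commutatorElement_def]
    rw [e1]
    exact inv_mem (commutator_mem_commutator hv hg)
  · push Not at hcase
    obtain ⟨g, hg, z₀, hz₀, hgz⟩ := hcase
    set W : Subgroup G := closure {w | ∃ z ∈ l, w = z * g * z⁻¹ * g⁻¹} with hW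
    have hWl : W ≤ l := by
      rw [hW, closure_le]
      rintro _ ⟨z, hz, rfl⟩
      have h1 : g * z⁻¹ * g⁻¹ ∈ l := (mem_normalizer_iff.1 (Tl (hQ hg)) _).1 (inv_mem hz)
      have e1 : z * g * z⁻¹ * g⁻¹ = z * (g * z⁻¹ * g⁻¹) := by group
      change z * g * z⁻¹ * g⁻¹ ∈ l
      rw [e1]
      exact mul_mem hz h1
    have hWM : W ≤ (⁅N, Q'⁆ : Subgroup G) := by
      rw [hW, closure_le]
      rintro _ ⟨z, hz, rfl⟩
      have := commutator_mem_commutator (lN hz) hg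
      rwa [commutatorElement_def] at this
    have hTW : T ≤ normalizer (W : Set G) := by
      intro t ht
      refine mem_normalizer_of_cj_le ?_
      change W.map (MulAut.conj t).toMonoidHom ≤ W
      rw [map_le_iff_le_comap, hW, closure_le]
      rintro _ ⟨z, hz, rfl⟩
      rw [SetLike.mem_coe, mem_comap]
      have hz' : t * z * t⁻¹ ∈ l := (mem_normalizer_iff.1 (Tl ht) z).1 hz
      have h1 : g * (t * z * t⁻¹)⁻¹ * g⁻¹ = (t * g * t⁻¹) * (t * z * t⁻¹)⁻¹ * (t * g * t⁻¹)⁻¹ := by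
        have h2 := hcom g (hQ hg) t ht (t * (g * z⁻¹ * g⁻¹) * t⁻¹) (by
          exact (mem_normalizer_iff.1 (Tl ht) _).1 ((mem_normalizer_iff.1 (Tl (hQ hg)) _).1 (inv_mem hz)))
        calc g * (t * z * t⁻¹)⁻¹ * g⁻¹
            = g * t * g⁻¹ * t⁻¹ * (t * (g * z⁻¹ * g⁻¹) * t⁻¹) * (g * t * g⁻¹ * t⁻¹)⁻¹ := by group
          _ = t * (g * z⁻¹ * g⁻¹) * t⁻¹ := h2
          _ = (t * g * t⁻¹) * (t * z * t⁻¹)⁻¹ * (t * g * t⁻¹)⁻¹ := by group
      have e1 : (MulAut.conj t).toMonoidHom (z * g * z⁻¹ * g⁻¹) =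
          (t * z * t⁻¹) * g * (t * z * t⁻¹)⁻¹ * g⁻¹ := by
        calc (MulAut.conj t).toMonoidHom (z * g * z⁻¹ * g⁻¹) = t * (z * g * z⁻¹ * g⁻¹) * t⁻¹ := rfl
          _ = (t * z * t⁻¹) * ((t * g * t⁻¹) * (t * z * t⁻¹)⁻¹ * (t * g * t⁻¹)⁻¹) := by group
          _ = (t * z * t⁻¹) * (g * (t * z * t⁻¹)⁻¹ * g⁻¹) := by rw [h1]
          _ = (t * z * t⁻¹) * g * (t * z * t⁻¹)⁻¹ * g⁻¹ := by group
      rw [e1]
      exact subset_closure ⟨_, hz', rfl⟩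
    have hWne : W ≠ ⊥ := by
      intro h0
      have h1 : z₀ * g * z₀⁻¹ * g⁻¹ ∈ W := subset_closure ⟨z₀, hz₀, rfl⟩
      rw [h0, mem_bot] at h1
      apply hgz
      have h2 : g * z₀⁻¹ * g⁻¹ = z₀⁻¹ := by
        calc g * z₀⁻¹ * g⁻¹ = z₀⁻¹ * (z₀ * g * z₀⁻¹ * g⁻¹) := by group
          _ = z₀⁻¹ := by rw [h1, mul_one]
      calc g * z₀ * g⁻¹ = (g * z₀⁻¹ * g⁻¹)⁻¹ := by group
        _ = z₀ := by rw [h2, inv_inv]
    have h5 := PLocal.OffenderStep.inf_centralizer_ne_bot W T (l2.to_le hWl) T2 hTW hWne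
    obtain ⟨f, hf1⟩ := Subgroup.ne_bot_iff_exists_ne_one.1 h5
    exact ⟨f, hWl f.2.1, f.2.2, fun h0 => hf1 (Subtype.ext h0), hWM f.2.1⟩

/-- **PART G (9), second half.** -/
theorem partG_nat [Finite G] [Finite F] [CharP F 2] {V N l A Q T : Subgroup G} {x : G} {L : Set G} (hC : Crd N F e)
    (line : ∀ v, v ∈ l ↔ v ∈ N ∧ e v 1 = 0) (T2 : IsPGroup 2 T) (TN : T ≤ normalizer (N : Set G))
    (semi : ∀ s ∈ T, ∃ (σ : F ≃+* F) (a b d : F), ∀ v ∈ N,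
      e (s * v * s⁻¹) = ![a * σ (e v 0) + b * σ (e v 1), d * σ (e v 1)])
    (QV : Q ≤ centralizer (V : Set G)) (NV : N ≤ V) (AQ : A ≤ normalizer (Q : Set G))
    (hM : ∀ M : Matrix.SpecialLinearGroup (Fin 2) F, ∃ m ∈ L, m ∈ normalizer (Q : Set G) ∧
      ∀ v ∈ N, m * v * m⁻¹ ∈ N ∧ e (m * v * m⁻¹) = M.1.mulVec (e v))
    (Afull : ∀ c, ∃ s ∈ A, Rt N e s c) (Qx : cj x⁻¹ Q ≤ T)
    (xF : ∀ f ∈ l, f ∈ centralizer (T : Set G) → x * f * x⁻¹ = f)
    (h9 : ∀ m ∈ L, m ∈ normalizer (Q : Set G) → cj m l ≠ l → ∀ a ∈ A, ∀ n ∈ cj x N,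
      (m * a * m⁻¹) * n * (m * a * m⁻¹)⁻¹ * n⁻¹ ∈ V) : Q ≤ centralizer ((cj x N : Subgroup G) : Set G) := by
  have lN : l ≤ N := fun v hv => ((line v).1 hv).1
  let Ms : Set G := {m | m ∈ L ∧ m ∈ normalizer (Q : Set G) ∧ ∃ M : Matrix.SpecialLinearGroup (Fin 2) F, M.1 1 0 ≠ 0 ∧
    ∀ v ∈ N, m * v * m⁻¹ ∈ N ∧ e (m * v * m⁻¹) = M.1.mulVec (e v)}
  have hMs : ∀ m ∈ Ms, cj m l ≠ l := by
    rintro m ⟨-, -, M, hM0, hm⟩ h0
    obtain ⟨z, hz, hez⟩ := hC.sur ![1, 0]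
    have hzl : z ∈ l := (line z).2 ⟨hz, by rw [hez]; rfl⟩
    have h1 : m * z * m⁻¹ ∈ l := h0 ▸ (mem_cj.2 (by
      have : m⁻¹ * (m * z * m⁻¹) * m = z := by group
      rw [this]; exact hzl) : m * z * m⁻¹ ∈ cj m l)
    have h2 := ((line _).1 h1).2
    rw [(hm z hz).2, hez] at h2
    apply hM0
    simpa [Matrix.mulVec, dotProduct, Fin.sum_univ_two] using h2
  have QN' : Q ≤ normalizer ((cj x N : Subgroup G) : Set G) := by
    intro g hg
    have h1 : x⁻¹ * g * x ∈ T := Qx (mem_cj.2 (by rw [inv_inv]; have : x * (x⁻¹ * g * x) * x⁻¹ = g := by group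
                                                  rw [this]; exact hg))
    refine mem_normalizer_of_cj_le fun w hw => ?_
    rw [mem_cj] at hw ⊢
    rw [mem_cj] at hw
    have h2 := (mem_normalizer_iff.1 (TN h1) _).1 hw
    have e1 : (x⁻¹ * g * x) * (x⁻¹ * (g⁻¹ * w * g) * x) * (x⁻¹ * g * x)⁻¹ = x⁻¹ * w * x := by group
    rwa [e1] at h2
  have memx : ∀ v ∈ N, x * v * x⁻¹ ∈ cj x N := fun v hv => mem_cj.2 (by
    have : x⁻¹ * (x * v * x⁻¹) * x = v := by group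
    rw [this]; exact hv)
  refine partG (V := V) (N := N) (l := l) (F := l ⊓ centralizer (T : Set G)) (A := A) (Ms := Ms) QV QN' AQ
    (fun m hm => hm.2.1) (fun m hm => h9 m hm.1 hm.2.1 (hMs m hm)) ?_ ?_ ?_ (by rw [card_cj])
    (QV.trans (centralizer_le NV))
  · -- `full`
    rintro f ⟨hfl, -⟩ hf1 m ⟨-, -, M, hM0, hm⟩ z hz
    obtain ⟨hfN, hf1'⟩ := (line f).1 hfl
    have hz' : m⁻¹ * z * m ∈ l := mem_cj.1 hz
    -- `m` normalises `N`
    have hmN : m ∈ normalizer (N : Set G) := mem_normalizer_of_cj_le (by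
      rintro _ ⟨v, hv, rfl⟩
      exact (hm v hv).1)
    have hf0N : m⁻¹ * f * m ∈ N := by
      have := (mem_normalizer_iff.1 (inv_mem hmN) f).1 hfN
      rwa [inv_inv] at this
    set f₀ : G := m⁻¹ * f * m with hf₀
    have e1 : m * f₀ * m⁻¹ = f := by rw [hf₀]; group
    have h1 : e f₀ 1 ≠ 0 := by
      intro h0
      have h2 := (hm f₀ hf0N).2
      rw [e1] at h2
      have h3 := congrFun h2 1
      rw [hf1'] at h3
      have h4 : M.1 1 0 * e f₀ 0 = 0 := by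
        have h5 : M.1.mulVec (e f₀) 1 = M.1 1 0 * e f₀ 0 + M.1 1 1 * e f₀ 1 := by
          simp [Matrix.mulVec, dotProduct, Fin.sum_univ_two]
        rw [h5, h0, mul_zero, add_zero] at h3
        exact h3.symm
      have h5 : e f₀ 0 = 0 := (mul_eq_zero.1 h4).resolve_left hM0
      have h6 : f₀ = 1 := by
        refine hC.inj _ hf0N ?_
        funext i
        fin_cases i
        · exact h5
        · exact h0
      apply hf1
      rw [← e1, h6]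
      group
    obtain ⟨hz0N, hz01⟩ := (line _).1 hz'
    obtain ⟨a, ha, hr⟩ := Afull (e (m⁻¹ * z * m) 0 * (e f₀ 1)⁻¹)
    refine ⟨a, ha, ?_⟩
    obtain ⟨h2, h3⟩ := hC.comm_rt hr hf0N
    have h4 : a * f₀ * a⁻¹ * f₀⁻¹ = m⁻¹ * z * m := by
      refine hC.eq_of h2 hz0N ?_
      rw [h3]
      funext i
      fin_cases i
      · change e (m⁻¹ * z * m) 0 * (e f₀ 1)⁻¹ * e f₀ 1 = e (m⁻¹ * z * m) 0
        rw [inv_mul_cancel_right₀ h1]
      · exact hz01.symm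
    calc z = m * (m⁻¹ * z * m) * m⁻¹ := by group
      _ = m * (a * f₀ * a⁻¹ * f₀⁻¹) * m⁻¹ := by rw [h4]
      _ = (m * a * m⁻¹) * (m * f₀ * m⁻¹) * (m * a * m⁻¹)⁻¹ * (m * f₀ * m⁻¹)⁻¹ := by group
      _ = _ := by rw [e1]
  · -- `gen`
    intro w hw
    obtain ⟨m₁, hm₁L, hm₁Q, hm₁⟩ := hM ⟨!![1, 0; 1, 1], by rw [Matrix.det_fin_two_of]; ring⟩
    obtain ⟨m₂, hm₂L, hm₂Q, hm₂⟩ := hM ⟨!![0, 1; 1, 0], by
      rw [Matrix.det_fin_two_of]
      have : (0 : F) * 0 - 1 * 1 = -1 := by ring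
      rw [this, CharTwo.neg_eq]⟩
    have h1 : m₁ ∈ Ms := ⟨hm₁L, hm₁Q, _, by simp, hm₁⟩
    have h2 : m₂ ∈ Ms := ⟨hm₂L, hm₂Q, _, by simp, hm₂⟩
    obtain ⟨z₁, hz₁, hez₁⟩ := hC.sur ![e w 0, 0]
    obtain ⟨z₂, hz₂, hez₂⟩ := hC.sur ![e w 0 + e w 1, 0]
    have hz₁l : z₁ ∈ l := (line z₁).2 ⟨hz₁, by rw [hez₁]; rfl⟩
    have hz₂l : z₂ ∈ l := (line z₂).2 ⟨hz₂, by rw [hez₂]; rfl⟩
    have h3 : w = (m₁ * z₁ * m₁⁻¹) * (m₂ * z₂ * m₂⁻¹) := by
      refine hC.eq_of hw (mul_mem (hm₁ z₁ hz₁).1 (hm₂ z₂ hz₂).1) ?_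
      rw [hC.mul _ (hm₁ z₁ hz₁).1 _ (hm₂ z₂ hz₂).1, (hm₁ z₁ hz₁).2, (hm₂ z₂ hz₂).2, hez₁, hez₂]
      funext i
      fin_cases i
      · simp
      · simp only [Matrix.mulVec, dotProduct, Fin.sum_univ_two, Pi.add_apply]
        change e w 1 = 1 * e w 0 + 1 * 0 + (1 * (e w 0 + e w 1) + 0 * 0)
        have : 1 * e w 0 + 1 * 0 + (1 * (e w 0 + e w 1) + 0 * 0) = (e w 0 + e w 0) + e w 1 := by ring
        rw [this, CharTwo.add_self_eq_zero, zero_add]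
    rw [h3]
    refine mul_mem ?_ ?_
    · refine (le_iSup₂_of_le (f := fun m (_ : m ∈ Ms) => cj m l) m₁ h1 le_rfl) (mem_cj.2 ?_)
      have : m₁⁻¹ * (m₁ * z₁ * m₁⁻¹) * m₁ = z₁ := by group
      rw [this]; exact hz₁l
    · refine (le_iSup₂_of_le (f := fun m (_ : m ∈ Ms) => cj m l) m₂ h2 le_rfl) (mem_cj.2 ?_)
      have : m₂⁻¹ * (m₂ * z₂ * m₂⁻¹) * m₂ = z₂ := by group
      rw [this]; exact hz₂l
  · -- `hF`
    intro hne
    have hne' : ¬ cj x⁻¹ Q ≤ centralizer (N : Set G) := by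
      intro h0
      apply hne
      intro g hg
      rw [mem_centralizer_iff]
      intro w hw
      have hw' : x⁻¹ * w * x ∈ N := mem_cj.1 hw
      have h1 : x⁻¹ * g * x ∈ centralizer (N : Set G) := h0 (mem_cj.2 (by
        rw [inv_inv]
        have : x * (x⁻¹ * g * x) * x⁻¹ = g := by group
        rw [this]; exact hg))
      have h2 := mem_centralizer_iff.1 h1 _ hw'
      calc w * g = x * ((x⁻¹ * w * x) * (x⁻¹ * g * x)) * x⁻¹ := by group
        _ = x * ((x⁻¹ * g * x) * (x⁻¹ * w * x)) * x⁻¹ := by rw [h2]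
        _ = g * w := by group
    obtain ⟨f, hfl, hfT, hf1, hfM⟩ := exF hC line T2 TN semi Qx hne'
    refine ⟨f, ⟨hfl, hfT⟩, hf1, ?_⟩
    have h1 : (⁅N, cj x⁻¹ Q⁆ : Subgroup G) ≤ cj x⁻¹ (⁅cj x N, Q⁆ : Subgroup G) := by
      rw [commutator_le]
      intro n hn g hg
      rw [mem_cj, inv_inv] at hg ⊢
      have e1 : x * ⁅n, g⁆ * x⁻¹ = ⁅x * n * x⁻¹, x * g * x⁻¹⁆ := by
        rw [commutatorElement_def, commutatorElement_def]; group
      rw [e1]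
      exact commutator_mem_commutator (memx n hn) hg
    have h2 := h1 hfM
    rw [mem_cj, inv_inv, xF f hfl hfT] at h2
    exact h2

end Cfsg.Agent.Omega.NOThreeL.RWide.UniT.PartG
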