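import Cfsg.Agent.Omega.NOThreeL.RWide.UniT.ParT
import Cfsg.Agent.Omega.NOThreeL.RWide.UniT.Act
import Cfsg.Agent.Omega.NOThreeL.RWide.UniT.Root
import Cfsg.Agent.Omega.NOThreeL.RWide.UniT.FrOf
import Cfsg.Agent.Omega.NOThreeL.RWide.ParA.Glue

/-!
# `parT` (helper995 #27590): the plug

* `frT` : the frame `Fr` from `TFm` and `Rts`;
* **`parT_of'`** : `parT` from `Rts`, (A1), (A2).
-/

set_option autoImplicit false
set_option linter.unusedSectionVars false

namespace Cfsg.Agent.Omega.NOThreeL.RWide.UniT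

open Subgroup Cfsg Cfsg.Agent.Omega.MinPar Cfsg.Agent.Omega.Frame
open Cfsg.Agent.ZN (zc o2 zl)
open Cfsg.Agent.ZN.ChoiceBase (cj AA)
open Cfsg.Agent.MinSimple.MinParabolic (IsMinPar)
open Cfsg.Agent.Omega.EDel.ThmU (XF)
open Cfsg.Agent.Omega.NOThreeL.RWide.TAct (TT BB Tf OT)
open Cfsg.Agent.Omega.NOThreeL.RWide.ParQ (toTf)

universe u v

variable {G : Type u} [Group G] [Finite G] {ι : Type v} [Finite ι] [Nonempty ι] {S : Sylow 2 G} {V : Subgroup G}
  {N l E : ι → Subgroup G}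

/-- **the frame** -/
theorem frT (hc : IsCharacteristicTwoType G) (h : TFm S V N l E) (three : ∀ i j : ι, ∃ k, k ≠ i ∧ k ≠ j)
    (r : Rts (TT (S : Subgroup G) N) (OT (TT (S : Subgroup G) N)) N l) (j : ι) (P : Subgroup G)
    (hP : IsMinPar (TT (S : Subgroup G) N) P) (hPY : P ≤ YY (TAct.FF (S : Subgroup G) N l) j)
    (hmv : ¬ P ≤ centralizer (TAct.FF (S : Subgroup G) N l j : Set G)) :
    Fr (TT (S : Subgroup G) N) (OT (TT (S : Subgroup G) N)) P N l
      (fun c => XS (zc (TT (S : Subgroup G) N)) (XF (TAct.FF (S : Subgroup G) N l) j c)) j :=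
  fr_of hc h.toBls (ParA.Glue.typ0 h three) r hP hPY hmv

/-- **`parT`** from `Rts`, (A1), (A2). -/
theorem parT_of' (hFF : FFThm.Stmt.{u}) (hc : IsCharacteristicTwoType G) (h : TFm S V N l E)
    (three : ∀ i j : ι, ∃ k, k ≠ i ∧ k ≠ j)
    (ln : ∀ c ∈ centralizer (zc (S : Subgroup G) : Set G), ∀ b, ∃ b', cj c (l b) = l b')
    (r : Rts (TT (S : Subgroup G) N) (OT (TT (S : Subgroup G) N)) N l)
    (A1 : ∀ j P, IsMinPar (TT (S : Subgroup G) N) P → P ≤ YY (TAct.FF (S : Subgroup G) N l) j →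
      ¬ P ≤ centralizer (TAct.FF (S : Subgroup G) N l j : Set G) → zl (TT (S : Subgroup G) N) P ≤ ⨆ b, l b →
      ∀ b, P ≤ normalizer (N b : Set G))
    (A2 : ∀ j P, Fr (TT (S : Subgroup G) N) (OT (TT (S : Subgroup G) N)) P N l
        (fun c => XS (zc (TT (S : Subgroup G) N)) (XF (TAct.FF (S : Subgroup G) N l) j c)) j →
      P ≤ YY (TAct.FF (S : Subgroup G) N l) j → ¬ zl (TT (S : Subgroup G) N) P ≤ ⨆ b, l b →
      ∃ A ∈ AA (OT (TT (S : Subgroup G) N)), ¬ A ≤ o2 P) :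
    ∀ j P, IsMinPar (TT (S : Subgroup G) N) P → P ≤ YY (TAct.FF (S : Subgroup G) N l) j →
      P ≤ centralizer (TAct.FF (S : Subgroup G) N l j : Set G) ∨ ∀ i, P ≤ normalizer (N i : Set G) :=
  parT_of h ln (frT hc h three r) (fun _ _ hfr hex => Act.active' hFF hfr hex) A1 A2

/-- **`parT`** from `Rts` and the passive case. -/
theorem parT_of_passive (hFF : FFThm.Stmt.{u}) (hc : IsCharacteristicTwoType G) (h : TFm S V N l E)
    (three : ∀ i j : ι, ∃ k, k ≠ i ∧ k ≠ j)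
    (ln : ∀ c ∈ centralizer (zc (S : Subgroup G) : Set G), ∀ b, ∃ b', cj c (l b) = l b')
    (r : Rts (TT (S : Subgroup G) N) (OT (TT (S : Subgroup G) N)) N l)
    (passive : ∀ j P, IsMinPar (TT (S : Subgroup G) N) P → P ≤ YY (TAct.FF (S : Subgroup G) N l) j →
      ¬ P ≤ centralizer (TAct.FF (S : Subgroup G) N l j : Set G) →
      (∀ A ∈ AA (OT (TT (S : Subgroup G) N)), A ≤ o2 P) → ∀ b, P ≤ normalizer (N b : Set G)) :
    ∀ j P, IsMinPar (TT (S : Subgroup G) N) P → P ≤ YY (TAct.FF (S : Subgroup G) N l) j →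
      P ≤ centralizer (TAct.FF (S : Subgroup G) N l j : Set G) ∨ ∀ i, P ≤ normalizer (N i : Set G) := by
  intro j P hP hPY
  by_cases hF : P ≤ centralizer (TAct.FF (S : Subgroup G) N l j : Set G)
  · exact Or.inl hF
  refine Or.inr ?_
  by_cases hA : ∃ A ∈ AA (OT (TT (S : Subgroup G) N)), ¬ A ≤ o2 P
  · exact end_V h ln hPY (Act.active' hFF (frT hc h three r j P hP hPY hF) hA)
  · push Not at hA
    exact passive j P hP hPY hF hA

end Cfsg.Agent.Omega.NOThreeL.RWide.UniT
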