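import Cfsg.Agent.Omega.KL.TwoS.Fr
import Cfsg.Agent.PLocal.OffenderStep
import Mathlib.Algebra.CharP.Two
import Mathlib.FieldTheory.Finite.Basic
import Mathlib.LinearAlgebra.Matrix.SpecialLinearGroup

/-!
# Pure lemmas for `par` of `TypT` (helper995 #27055; helper819 #27183)

`Crd N F e` : the group `N` has coordinates `e : N ≅ F²`; `Rt N e g c` : `g` acts on `N` as `x ↦ x + c y`, `y ↦ y`.

* `scal` : the scalar trick over the exchange (`#27055` (1) (a), (9) first half);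
* `scal2` : the scalar trick for `g' ^ a = g` (`#27055` (3));
* `partG` : `#27055` (9) second half (pure form); `exF` : its input; `partG_nat` : (9) second half over coordinates.
-/

set_option autoImplicit false
set_option linter.unusedSectionVars false

namespace Cfsg.Agent.Omega.NOThreeL.RWide.UniT.Pure

open Subgroup Cfsg
open Cfsg.Agent.ZN.ChoiceBase (cj mem_cj cj_eq_of_mem_normalizer mem_normalizer_iff_cj card_cj)
open Cfsg.Agent.Omega.KL.TwoS (Mx relIndex_le_of_sup sup_of_relIndex_le comm_of_sq)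
open Cfsg.Agent.Omega.OM.KTwo (exists_mul_of_mem_sup)
open Cfsg.Agent.Omega.NoFF.Basic (comm_symm)
open scoped commutatorElement

universe u

variable {G : Type u} [Group G]

/-- coordinates of `N` in `F²` -/
structure Crd (N : Subgroup G) (F : Type) [Field F] (e : G → Fin 2 → F) : Prop where
  mul : ∀ v ∈ N, ∀ w ∈ N, e (v * w) = e v + e w
  inj : ∀ v ∈ N, e v = 0 → v = 1
  sur : ∀ x : Fin 2 → F, ∃ v ∈ N, e v = x

/-- `g` acts on `N` as the root element `c` -/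
def Rt (N : Subgroup G) {F : Type} [Field F] (e : G → Fin 2 → F) (g : G) (c : F) : Prop :=
  ∀ v ∈ N, g * v * g⁻¹ ∈ N ∧ e (g * v * g⁻¹) = ![e v 0 + c * e v 1, e v 1]

namespace Crd

variable {N : Subgroup G} {F : Type} [Field F] {e : G → Fin 2 → F} (h : Crd N F e)
include h

theorem one : e 1 = 0 := by
  have h1 := h.mul 1 (one_mem _) 1 (one_mem _)
  rw [mul_one] at h1
  exact left_eq_add.1 h1

theorem inv {v : G} (hv : v ∈ N) : e v⁻¹ = - e v := by
  have h1 := h.mul v⁻¹ (inv_mem hv) v hv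
  rw [inv_mul_cancel, h.one] at h1
  exact eq_neg_of_add_eq_zero_left h1.symm

theorem eq_of {v w : G} (hv : v ∈ N) (hw : w ∈ N) (he : e v = e w) : v = w := by
  have h1 : v * w⁻¹ = 1 := by
    refine h.inj _ (mul_mem hv (inv_mem hw)) ?_
    rw [h.mul _ hv _ (inv_mem hw), h.inv hw, he, add_neg_cancel]
  exact mul_inv_eq_one.1 h1

/-- the commutator with a root element -/
theorem comm_rt {g : G} {c : F} (hg : Rt N e g c) {v : G} (hv : v ∈ N) :
    g * v * g⁻¹ * v⁻¹ ∈ N ∧ e (g * v * g⁻¹ * v⁻¹) = ![c * e v 1, 0] := by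
  obtain ⟨h1, h2⟩ := hg v hv
  refine ⟨mul_mem h1 (inv_mem hv), ?_⟩
  rw [h.mul _ h1 _ (inv_mem hv), h.inv hv, h2]
  funext i
  fin_cases i
  · change e v 0 + c * e v 1 + - e v 0 = c * e v 1
    ring
  · change e v 1 + - e v 1 = 0
    ring

/-- a root element with `c = 0` centralises `N` -/
theorem rt_zero {g : G} (hg : Rt N e g 0) : g ∈ centralizer (N : Set G) := by
  rw [mem_centralizer_iff]
  intro v hv
  obtain ⟨h1, h2⟩ := hg v hv
  have h3 : g * v * g⁻¹ = v := by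
    refine h.eq_of h1 hv ?_
    rw [h2]
    funext i
    fin_cases i
    · change e v 0 + 0 * e v 1 = e v 0
      ring
    · rfl
  calc v * g = g * v * g⁻¹ * g := by rw [h3]
    _ = g * v := by group

/-- `a` acts on the line as a scalar and `a ^ 2 = 1` : `a` centralises the line -/
theorem scal_core [CharP F 2] {a : G} (ha : a ^ 2 = 1) (d : F)
    (hd : ∀ z ∈ N, e z 1 = 0 → a * z * a⁻¹ ∈ N ∧ e (a * z * a⁻¹) = ![d * e z 0, 0]) :
    ∀ z ∈ N, e z 1 = 0 → a * z * a⁻¹ = z := by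
  obtain ⟨z₀, hz₀, hez₀⟩ := h.sur ![1, 0]
  obtain ⟨h1, h2⟩ := hd z₀ hz₀ (by rw [hez₀]; rfl)
  have h3 := (hd _ h1 (by rw [h2]; rfl)).2
  have e1 : a * (a * z₀ * a⁻¹) * a⁻¹ = z₀ := by
    have : a * (a * z₀ * a⁻¹) * a⁻¹ = (a * a) * z₀ * (a * a)⁻¹ := by group
    rw [this, ← pow_two, ha, inv_one, mul_one, one_mul]
  rw [e1, h2, hez₀] at h3
  have h4 := congrFun h3 0
  have h5 : (1 : F) = d * (d * 1) := h4
  have h6 : (d + 1) * (d + 1) = 0 := by
    have : (d + 1) * (d + 1) = d * (d * 1) + (d + d) + 1 := by ring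
    rw [this, ← h5, CharTwo.add_self_eq_zero, add_zero, CharTwo.add_self_eq_zero]
  have h7 : d = 1 := by
    have h8 : d + 1 = 0 := mul_self_eq_zero.1 h6
    calc d = d + 1 + 1 := by rw [add_assoc, CharTwo.add_self_eq_zero, add_zero]
      _ = 1 := by rw [h8, zero_add]
  intro z hz hz1
  obtain ⟨h8, h9⟩ := hd z hz hz1
  refine h.eq_of h8 hz ?_
  rw [h9, h7, one_mul]
  funext i
  fin_cases i
  · rfl
  · exact hz1.symm

end Crd

section scal

variable {F : Type} [Field F] [CharP F 2] {e : G → Fin 2 → F}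

/-- **The scalar trick, pairs.** `a g' a⁻¹ = g`, both root elements, `a` moves `v ∈ N` by elements centralised by `g`. -/
theorem scal2 {N : Subgroup G} {a g g' : G} {c c' : F} (hC : Crd N F e) (ha2 : a ^ 2 = 1) (hg : a * g' * a⁻¹ = g)
    (h1 : Rt N e g c) (h2 : Rt N e g' c') (hc : c ≠ 0)
    (hco : ∀ v ∈ N, ∃ u, a * v * a⁻¹ = v * u ∧ g * u = u * g) : ∀ z ∈ N, e z 1 = 0 → a * z * a⁻¹ = z := by
  have key : ∀ v ∈ N, a * (g' * v * g'⁻¹ * v⁻¹) * a⁻¹ = g * v * g⁻¹ * v⁻¹ := by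
    intro v hv
    obtain ⟨u, hu, hgu⟩ := hco v hv
    calc a * (g' * v * g'⁻¹ * v⁻¹) * a⁻¹
        = (a * g' * a⁻¹) * (a * v * a⁻¹) * (a * g' * a⁻¹)⁻¹ * (a * v * a⁻¹)⁻¹ := by group
      _ = g * (v * u) * g⁻¹ * (v * u)⁻¹ := by rw [hg, hu]
      _ = g * v * g⁻¹ * (g * u * g⁻¹) * u⁻¹ * v⁻¹ := by group
      _ = g * v * g⁻¹ * v⁻¹ := by rw [hgu]; group
  have hc' : c' ≠ 0 := by
    intro h0
    subst h0
    obtain ⟨v, hv, hev⟩ := hC.sur ![0, 1]
    have h3 := key v hv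
    have h4 := mem_centralizer_iff.1 (hC.rt_zero h2) v hv
    rw [← h4, mul_inv_cancel_right, mul_inv_cancel, mul_one, mul_inv_cancel] at h3
    have h5 := (hC.comm_rt h1 hv).2
    rw [← h3, hC.one, hev] at h5
    have h6 : (0 : F) = c * 1 := congrFun h5 0
    rw [mul_one] at h6
    exact hc h6.symm
  refine hC.scal_core ha2 (c * c'⁻¹) fun z hz hz1 => ?_
  obtain ⟨v, hv, hev⟩ := hC.sur ![0, c'⁻¹ * e z 0]
  have hev1 : e v 1 = c'⁻¹ * e z 0 := by rw [hev]; rfl
  obtain ⟨h3, h4⟩ := hC.comm_rt h2 hv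
  have h5 : g' * v * g'⁻¹ * v⁻¹ = z := by
    refine hC.eq_of h3 hz ?_
    rw [h4, hev1, mul_inv_cancel_left₀ hc']
    funext i
    fin_cases i
    · rfl
    · exact hz1.symm
  obtain ⟨h6, h7⟩ := hC.comm_rt h1 hv
  have h8 := key v hv
  rw [h5] at h8
  rw [h8]
  refine ⟨h6, ?_⟩
  rw [h7, hev1, mul_assoc]

/-- **The scalar trick over the exchange** : `E₀ = A₀ U` elementary abelian of maximal order in `O`, `A₀` induces the full
root group on `N`, `a` (`a ^ 2 = 1`) centralises `A₀`, and `N`, `N ^ a`, `U` lie in an elementary abelian `W ≤ O` :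
`a` centralises the line. -/
theorem scal [Finite G] [Finite F] {O A₀ U W N : Subgroup G} {a : G} (hC : Crd N F e) (hE : Mx O (A₀ ⊔ U))
    (hW : W ≤ O) (hW2 : ∀ w ∈ W, w ^ 2 = 1) (hN : N ≤ W) (hNa : cj a N ≤ W) (hU : U ≤ W) (ha2 : a ^ 2 = 1)
    (hac : ∀ c ∈ A₀, a * c = c * a) (root : ∀ s ∈ A₀, ∃ c, Rt N e s c) (full : ∀ c, ∃ s ∈ A₀, Rt N e s c) :
    ∀ z ∈ N, e z 1 = 0 → a * z * a⁻¹ = z := by
  set X : Subgroup G := N ⊔ cj a N ⊔ U with hX
  have hXW : X ≤ W := sup_le (sup_le hN hNa) hU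
  have hX2 : ∀ x ∈ X, x ^ 2 = 1 := fun x hx => hW2 x (hXW hx)
  have hXc : X ≤ centralizer (X : Set G) := comm_of_sq hX2
  have hNX : N ≤ X := le_sup_left.trans le_sup_left
  have hUX : U ≤ X := le_sup_right
  have hNaX : cj a N ≤ X := le_sup_right.trans le_sup_left
  have h1 := hE.thom (N := X) (hXW.trans hW) hX2
  have h2 : (centralizer (X : Set G)).relIndex (A₀ ⊔ U) ≤ (centralizer (X : Set G)).relIndex A₀ :=
    relIndex_le_of_sup le_sup_left hE.comm (sup_le le_sup_left (le_sup_of_le_right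
      (le_inf le_sup_right (hUX.trans hXc))))
  have : NeZero (1 : F) := inferInstance
  obtain ⟨v₁, hv₁, hev₁⟩ := hC.sur ![0, 1]
  have hcf : ∀ s ∈ A₀, ∀ c, Rt N e s c → e (s * v₁ * s⁻¹) 0 = c := by
    intro s _ c hc
    rw [(hc v₁ hv₁).2, hev₁]
    change (0 : F) + c * 1 = c
    ring
  -- `|A₀ : C_(A₀)(X)| ≤ |F|`
  have h3 : (centralizer (X : Set G)).relIndex A₀ ≤ Nat.card F := by
    let f : A₀ →* Multiplicative F := MonoidHom.mk' (fun s => Multiplicative.ofAdd (e ((s : G) * v₁ * (s : G)⁻¹) 0))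
      (by
        intro s t
        obtain ⟨c, hc⟩ := root s s.2
        obtain ⟨d, hd⟩ := root t t.2
        have e1 : ((s * t : A₀) : G) * v₁ * ((s * t : A₀) : G)⁻¹ = s * ((t : G) * v₁ * (t : G)⁻¹) * (s : G)⁻¹ := by
          rw [Subgroup.coe_mul]; group
        change Multiplicative.ofAdd (e (((s * t : A₀) : G) * v₁ * ((s * t : A₀) : G)⁻¹) 0) =
          Multiplicative.ofAdd (e ((s : G) * v₁ * (s : G)⁻¹) 0) * Multiplicative.ofAdd (e ((t : G) * v₁ * (t : G)⁻¹) 0)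
        rw [← ofAdd_add, e1, hcf s s.2 c hc, hcf t t.2 d hd]
        obtain ⟨h4, h5⟩ := hd v₁ hv₁
        rw [(hc _ h4).2, h5, hev₁]
        congr 1
        change (0 : F) + d * 1 + c * 1 = c + d
        ring)
    have hker : f.ker ≤ (centralizer (X : Set G)).subgroupOf A₀ := by
      intro s hs
      rw [mem_subgroupOf]
      obtain ⟨c, hc⟩ := root s s.2
      have h4 : e ((s : G) * v₁ * (s : G)⁻¹) 0 = 0 := by
        have h5 : Multiplicative.ofAdd (e ((s : G) * v₁ * (s : G)⁻¹) 0) = 1 := hs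
        exact Multiplicative.ofAdd.injective (h5.trans ofAdd_zero.symm)
      rw [hcf s s.2 c hc] at h4
      subst h4
      have h5 : (s : G) ∈ centralizer (N : Set G) := hC.rt_zero hc
      have h6 : (s : G) ∈ centralizer (U : Set G) := (comm_of_sq hE.sq) (mem_sup_left s.2) |> fun h =>
        centralizer_le (show (U : Set G) ⊆ ((A₀ ⊔ U : Subgroup G) : Set G) from fun x hx => mem_sup_right hx) h
      have h7 : (s : G) ∈ centralizer ((cj a N : Subgroup G) : Set G) := by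
        rw [mem_centralizer_iff]
        intro w hw
        have hw' : a⁻¹ * w * a ∈ N := mem_cj.1 hw
        have h8 := mem_centralizer_iff.1 h5 _ hw'
        have h9 := hac s s.2
        have h10 : (s : G) * a⁻¹ = a⁻¹ * s := by
          calc (s : G) * a⁻¹ = a⁻¹ * (a * s) * a⁻¹ := by group
            _ = a⁻¹ * s := by rw [h9]; group
        calc w * (s : G) = a * (a⁻¹ * w * a) * (a⁻¹ * s) := by group
          _ = a * (a⁻¹ * w * a * s) * a⁻¹ := by rw [← h10]; group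
          _ = a * (s * (a⁻¹ * w * a)) * a⁻¹ := by rw [h8]
          _ = (a * s) * a⁻¹ * w := by group
          _ = s * w := by rw [h9]; group
      have h8 : X ≤ centralizer ({(s : G)} : Set G) := by
        refine sup_le (sup_le ?_ ?_) ?_
        · intro v hv
          exact mem_centralizer_singleton_iff.2 (mem_centralizer_iff.1 h5 v hv)
        · intro v hv
          exact mem_centralizer_singleton_iff.2 (mem_centralizer_iff.1 h7 v hv)
        · intro v hv
          exact mem_centralizer_singleton_iff.2 (mem_centralizer_iff.1 h6 v hv)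
      exact mem_centralizer_iff.2 fun v hv => mem_centralizer_singleton_iff.1 (h8 hv)
    have h4 := Nat.le_of_dvd (Nat.pos_of_ne_zero (by exact Subgroup.index_ne_zero_of_finite)) (index_dvd_of_le hker)
    refine h4.trans ?_
    rw [index_ker]
    exact (Nat.card_le_card_of_injective (Subtype.val : f.range → Multiplicative F) Subtype.val_injective).trans
      (le_of_eq (Nat.card_congr Multiplicative.toAdd))
  -- `|F| ≤ |N : C_N(A₀)|`
  have h4 : Nat.card F ≤ (centralizer ((A₀ ⊔ U : Subgroup G) : Set G)).relIndex N := by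
    let g : N →* Multiplicative F := MonoidHom.mk' (fun v => Multiplicative.ofAdd (e (v : G) 1)) (by
      intro v w
      change Multiplicative.ofAdd (e ((v * w : N) : G) 1) = Multiplicative.ofAdd (e (v : G) 1) * Multiplicative.ofAdd (e (w : G) 1)
      rw [← ofAdd_add, Subgroup.coe_mul, hC.mul _ v.2 _ w.2]
      rfl)
    have hsur : Function.Surjective g := by
      intro x
      obtain ⟨v, hv, hev⟩ := hC.sur ![0, Multiplicative.toAdd x]
      refine ⟨⟨v, hv⟩, ?_⟩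
      change Multiplicative.ofAdd (e v 1) = x
      rw [hev]
      rfl
    have hker : (centralizer ((A₀ ⊔ U : Subgroup G) : Set G)).subgroupOf N ≤ g.ker := by
      intro v hv
      rw [mem_subgroupOf] at hv
      obtain ⟨s, hs, hr⟩ := full 1
      have h5 := mem_centralizer_iff.1 hv s (mem_sup_left hs)
      have h6 := (hC.comm_rt hr v.2).2
      rw [h5, mul_inv_cancel_right, mul_inv_cancel, hC.one] at h6
      have h7 : (0 : F) = 1 * e v 1 := congrFun h6 0
      rw [one_mul] at h7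
      change Multiplicative.ofAdd (e (v : G) 1) = 1
      rw [← h7]
      rfl
    have h5 := Nat.le_of_dvd (Nat.pos_of_ne_zero (by exact Subgroup.index_ne_zero_of_finite)) (index_dvd_of_le hker)
    refine le_trans (le_of_eq ?_) h5
    rw [index_ker, MonoidHom.range_eq_top.2 hsur]
    exact (Nat.card_congr (Multiplicative.toAdd.symm)).trans (Nat.card_congr Subgroup.topEquiv.toEquiv.symm)
  have h5 := sup_of_relIndex_le hNX hXc (((h1.trans h2).trans h3).trans h4)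
  -- `a` moves the elements of `N` to `N C(A₀)`
  have h6 : ∀ v ∈ N, ∃ w ∈ N, ∀ s ∈ A₀, a * (s * v * s⁻¹ * v⁻¹) * a⁻¹ = s * w * s⁻¹ * w⁻¹ := by
    intro v hv
    have h7 : a * v * a⁻¹ ∈ X := hNaX (mem_cj.2 (by
      have : a⁻¹ * (a * v * a⁻¹) * a = v := by group
      rw [this]; exact hv))
    have h8 := h5 h7
    have h8' : X ⊓ centralizer ((A₀ ⊔ U : Subgroup G) : Set G) ≤ centralizer (N : Set G) :=
      (inf_le_left.trans hXc).trans (centralizer_le hNX)
    obtain ⟨w, hw, c, hc, hwc⟩ := exists_mul_of_mem_sup (h8'.trans (centralizer_le_normalizer _)) h8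
    refine ⟨w, hw, fun s hs => ?_⟩
    have h9 := hac s hs
    have h10 : s * c = c * s := (mem_centralizer_iff.1 (mem_inf.1 hc).2) s (mem_sup_left hs)
    calc a * (s * v * s⁻¹ * v⁻¹) * a⁻¹
        = (a * s * a⁻¹) * (a * v * a⁻¹) * (a * s * a⁻¹)⁻¹ * (a * v * a⁻¹)⁻¹ := by group
      _ = s * (a * v * a⁻¹) * s⁻¹ * (a * v * a⁻¹)⁻¹ := by rw [h9, mul_inv_cancel_right]
      _ = s * (w * c) * s⁻¹ * (w * c)⁻¹ := by rw [hwc]
      _ = s * w * s⁻¹ * (s * c * s⁻¹) * c⁻¹ * w⁻¹ := by group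
      _ = s * w * s⁻¹ * w⁻¹ := by rw [h10]; group
  obtain ⟨w₁, hw₁, hk⟩ := h6 v₁ hv₁
  refine hC.scal_core ha2 (e w₁ 1) fun z hz hz1 => ?_
  obtain ⟨s, hs, hr⟩ := full (e z 0)
  obtain ⟨h7, h8⟩ := hC.comm_rt hr hv₁
  have h9 : s * v₁ * s⁻¹ * v₁⁻¹ = z := by
    refine hC.eq_of h7 hz ?_
    rw [h8, hev₁]
    funext i
    fin_cases i
    · change e z 0 * 1 = e z 0
      rw [mul_one]
    · exact hz1.symm
  obtain ⟨h10, h11⟩ := hC.comm_rt hr hw₁
  have h12 := hk s hs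
  rw [h9] at h12
  rw [h12]
  refine ⟨h10, ?_⟩
  rw [h11, mul_comm]

end scal

/-! ### (9), second half -/

/-- **PART G, pure.** -/
theorem partG [Finite G] {V N l F A Q N' : Subgroup G} {Ms : Set G} (QV : Q ≤ centralizer (V : Set G))
    (QN' : Q ≤ normalizer (N' : Set G)) (AQ : A ≤ normalizer (Q : Set G)) (MQ : ∀ m ∈ Ms, m ∈ normalizer (Q : Set G))
    (h9 : ∀ m ∈ Ms, ∀ a ∈ A, ∀ n ∈ N', (m * a * m⁻¹) * n * (m * a * m⁻¹)⁻¹ * n⁻¹ ∈ V)
    (full : ∀ f ∈ F, f ≠ 1 → ∀ m ∈ Ms, ∀ z ∈ cj m l, ∃ a ∈ A, z = (m * a * m⁻¹) * f * (m * a * m⁻¹)⁻¹ * f⁻¹)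
    (gen : N ≤ ⨆ m ∈ Ms, cj m l)
    (hF : ¬ Q ≤ centralizer (N' : Set G) → ∃ f ∈ F, f ≠ 1 ∧ f ∈ (⁅N', Q⁆ : Subgroup G))
    (hcard : Nat.card N' ≤ Nat.card N) (QN : Q ≤ centralizer (N : Set G)) : Q ≤ centralizer (N' : Set G) := by
  by_contra hne
  obtain ⟨f, hf, hf1, hfM⟩ := hF hne
  -- `M = [N', Q] ≤ N'`
  have hMN : (⁅N', Q⁆ : Subgroup G) ≤ N' := by
    rw [commutator_le]
    intro n hn g hg
    have h1 : g * n⁻¹ * g⁻¹ ∈ N' := (mem_normalizer_iff.1 (QN' hg) _).1 (inv_mem hn)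
    have e1 : ⁅n, g⁆ = n * (g * n⁻¹ * g⁻¹) := by rw [commutatorElement_def]; group
    rw [e1]
    exact mul_mem hn h1
  -- `M` is `A ^ m`-invariant
  have hinv : ∀ m ∈ Ms, ∀ a ∈ A, ∀ x ∈ (⁅N', Q⁆ : Subgroup G), (m * a * m⁻¹) * x * (m * a * m⁻¹)⁻¹ ∈ (⁅N', Q⁆ : Subgroup G) := by
    intro m hm a ha x hx
    set b : G := m * a * m⁻¹ with hb
    have hbQ : b ∈ normalizer (Q : Set G) := mul_mem (mul_mem (MQ m hm) (AQ ha)) (inv_mem (MQ m hm))
    have h1 : (⁅N', Q⁆ : Subgroup G) ≤ cj b⁻¹ (⁅N', Q⁆ : Subgroup G) := by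
      rw [commutator_le]
      intro n hn g hg
      rw [mem_cj, inv_inv]
      have h2 := h9 m hm a ha n⁻¹ (inv_mem hn)
      rw [← hb, inv_inv] at h2
      -- `b n b⁻¹ = n z`
      have h3 : n⁻¹ * (b * n * b⁻¹) ∈ V := by
        have h4 := inv_mem h2
        have e1 : (b * n⁻¹ * b⁻¹ * n)⁻¹ = n⁻¹ * (b * n * b⁻¹) := by group
        rwa [e1] at h4
      set z : G := n⁻¹ * (b * n * b⁻¹) with hz
      have e2 : b * n * b⁻¹ = n * z := by rw [hz]; group
      have h5 : b * g * b⁻¹ ∈ Q := (mem_normalizer_iff.1 hbQ _).1 hg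
      have h6 : z * (b * g * b⁻¹) = (b * g * b⁻¹) * z := mem_centralizer_iff.1 (QV h5) z h3
      have e3 : b * ⁅n, g⁆ * b⁻¹ = ⁅n, b * g * b⁻¹⁆ := by
        rw [commutatorElement_def, commutatorElement_def]
        calc b * (n * g * n⁻¹ * g⁻¹) * b⁻¹
            = (b * n * b⁻¹) * (b * g * b⁻¹) * (b * n * b⁻¹)⁻¹ * (b * g * b⁻¹)⁻¹ := by group
          _ = n * (z * (b * g * b⁻¹)) * z⁻¹ * n⁻¹ * (b * g * b⁻¹)⁻¹ := by rw [e2]; group
          _ = n * (b * g * b⁻¹) * n⁻¹ * (b * g * b⁻¹)⁻¹ := by rw [h6]; group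
      rw [e3]
      exact commutator_mem_commutator hn h5
    have h2 := h1 hx
    rwa [mem_cj, inv_inv] at h2
  have h1 : N ≤ N' := by
    refine gen.trans (iSup₂_le fun m hm z hz => hMN ?_)
    obtain ⟨a, ha, e1⟩ := full f hf hf1 m hm z hz
    rw [e1]
    exact mul_mem (hinv m hm a ha f hfM) (inv_mem hfM)
  have h2 := Subgroup.eq_of_le_of_card_ge h1 hcard
  rw [← h2] at hne
  exact hne QN

section fixed

variable {F : Type} [Field F] {e : G → Fin 2 → F}

/-- automorphisms of a finite field commute -/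
theorem aut_comm [Finite F] (σ τ : F ≃+* F) (x : F) : σ (τ x) = τ (σ x) := by
  by_cases hx : x = 0
  · rw [hx, map_zero, map_zero, map_zero]
  obtain ⟨g, hg⟩ := IsCyclic.exists_generator (α := Fˣ)
  have key : ∀ ρ : F ≃+* F, ∃ n : ℤ, ∀ y : Fˣ, ρ (y : F) = ((y ^ n : Fˣ) : F) := by
    intro ρ
    obtain ⟨n, hn⟩ := mem_zpowers_iff.1 (hg (Units.map (ρ : F →* F) g))
    refine ⟨n, fun y => ?_⟩
    obtain ⟨k, rfl⟩ := mem_zpowers_iff.1 (hg y)
    have h1 : ρ ((g ^ k : Fˣ) : F) = ((Units.map (ρ : F →* F) (g ^ k) : Fˣ) : F) := rfl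
    rw [h1, map_zpow, ← hn, ← zpow_mul, ← zpow_mul, mul_comm]
  obtain ⟨m, hm⟩ := key σ
  obtain ⟨n, hn⟩ := key τ
  have h1 := hm (Units.mk0 x hx)
  have h2 := hn (Units.mk0 x hx)
  rw [Units.val_mk0] at h1 h2
  rw [h1, h2, hm, hn, ← zpow_mul, ← zpow_mul, mul_comm]

end fixed

end Cfsg.Agent.Omega.NOThreeL.RWide.UniT.Pure
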