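import Cfsg.Agent.Omega.NOThreeL.RWide.SemiCnt
import Cfsg.Agent.Omega.NOThreeL.RWide.TFm

/-!
# The root lemma over the natural blocks (helper995 #27055, helper528 #27296; helper655 `SemiCnt`)

`A ≤ T` of exponent 2, `T = TT S N` the kernel of `S` on the blocks of `Bls S V N l E`.

* `NB.cnt` : `|A : C_A(N)| |C_N(A)| ≤ |N|`; equality only if `A` is trivial on `N` or the full root group;
* `Bls.best_block` : if `A` is best on `V`, equality holds on every block;
* **`Bls.root_le`** : so `A ≤ C_G(⨆ l)`; **`Bls.root_full`** : `A` is trivial or full on every block.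
-/

set_option autoImplicit false
set_option linter.unusedSectionVars false

namespace Cfsg.Agent.Omega.NOThreeL.RWide.UniT.RootCnt

open Subgroup Cfsg
open Cfsg.Agent.ZN.ChoiceBase (cj cj_eq_of_mem_normalizer)
open Cfsg.Agent.Omega.NOThreeL.RWide.TBlk (NB Bls exists_comp)
open Cfsg.Agent.Omega.NOThreeL.RWide.TAct (TT)
open Cfsg.Agent.Omega.NOThreeL.RWide.SemiCnt (Sm semi_cnt)

universe u v

variable {G : Type u} [Group G] {ι : Type v}

section nb

variable {S E N l : Subgroup G} {F : Type} [Field F] {e : G → Fin 2 → F}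

theorem nb_inj (h : NB S E N l F e) {v w : G} (hv : v ∈ N) (hw : w ∈ N) (hvw : e v = e w) : v = w := by
  have h1 : e (v * w⁻¹) = 0 := by
    have h2 := h.mul (v * w⁻¹) (mul_mem hv (inv_mem hw)) w hw
    rw [inv_mul_cancel_right, hvw] at h2
    exact right_eq_add.1 h2
  exact mul_inv_eq_one.1 (h.inj _ (mul_mem hv (inv_mem hw)) h1)

/-- **one block** -/
theorem nb_cnt [Finite G] [Finite F] [CharP F 2] (h : NB S E N l F e) {A : Subgroup G} (hA : A ≤ S)
    (hAN : A ≤ normalizer (N : Set G)) (A2 : ∀ a ∈ A, a ^ 2 = 1) :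
    (centralizer (N : Set G)).relIndex A * Nat.card ↥(N ⊓ centralizer (A : Set G)) ≤ Nat.card N ∧
      (Nat.card N ≤ (centralizer (N : Set G)).relIndex A * Nat.card ↥(N ⊓ centralizer (A : Set G)) →
        A ≤ centralizer (l : Set G) ∧ (A ≤ centralizer (N : Set G) ∨
          ∀ c : F, ∃ a ∈ A, ∀ v ∈ N, e (a * v * a⁻¹) = ![e v 0 + c * e v 1, e v 1])) := by
  classical
  let E' : N ≃ (Fin 2 → F) := Equiv.ofBijective (fun v : N => e v)
    ⟨fun v w hvw => Subtype.ext (nb_inj h v.2 w.2 hvw), fun x => by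
      obtain ⟨v, hv, hx⟩ := h.sur x
      exact ⟨⟨v, hv⟩, hx⟩⟩
  have hE' : ∀ v : N, E' v = e v := fun _ => rfl
  have hc : ∀ a ∈ A, ∀ v ∈ N, a * v * a⁻¹ ∈ N := fun a ha v hv => (mem_normalizer_iff.1 (hAN ha) v).1 hv
  let f : A →* Function.End (Fin 2 → F) :=
    { toFun := fun a w => E' ⟨a * (E'.symm w : N) * (a : G)⁻¹, hc a a.2 _ (E'.symm w).2⟩
      map_one' := by
        funext w
        have e1 : (⟨((1 : A) : G) * (E'.symm w : N) * ((1 : A) : G)⁻¹, hc _ (1 : A).2 _ (E'.symm w).2⟩ : N) =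
            E'.symm w := Subtype.ext (by simp)
        change E' _ = _
        rw [e1, Equiv.apply_symm_apply]
        rfl
      map_mul' := by
        intro a b
        funext w
        change E' _ = E' _
        congr 1
        apply Subtype.ext
        rw [Equiv.symm_apply_apply]
        simp only [coe_mul, mul_inv_rev]
        group }
  let ρ : A →* Equiv.Perm (Fin 2 → F) := f.toHomPerm
  have hρ : ∀ (a : A) (v : N), ρ a (e v) = e (a * v * (a : G)⁻¹) := by
    intro a v
    change E' _ = _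
    rw [hE']
    have e1 : E'.symm (e v) = v := by
      rw [← hE' v, Equiv.symm_apply_apply]
    rw [e1]
  have hw : ∀ w : Fin 2 → F, ∃ v : N, e v = w := fun w => ⟨E'.symm w, by rw [← hE', Equiv.apply_symm_apply]⟩
  have h2 : ∀ g v, ρ g (ρ g v) = v := by
    intro g v
    have h3 : g * g = 1 := Subtype.ext (by
      have := A2 g g.2
      rw [pow_two] at this
      exact this)
    have h4 : ρ (g * g) v = v := by rw [h3, map_one]; rfl
    rwa [map_mul] at h4
  have hsm : ∀ g, ∃ σ a b d, Sm (ρ g) σ a b d := by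
    intro g
    obtain ⟨σ, a, b, d, h3⟩ := h.semi g (hA g.2) (hAN g.2)
    refine ⟨σ, a, b, d, fun w => ?_⟩
    obtain ⟨v, rfl⟩ := hw w
    rw [hρ]
    exact h3 v v.2
  -- cards
  have hker : ρ.ker = (centralizer (N : Set G)).subgroupOf A := by
    ext a
    rw [MonoidHom.mem_ker, mem_subgroupOf, mem_centralizer_iff]
    constructor
    · intro h3 v hv
      have h4 := hρ a ⟨v, hv⟩
      rw [h3] at h4
      have h5 : v = a * v * (a : G)⁻¹ := nb_inj h hv (hc a a.2 v hv) h4
      calc v * a = (a * v * (a : G)⁻¹) * a := by rw [← h5]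
        _ = a * v := by group
    · intro h3
      apply Equiv.ext
      intro w
      obtain ⟨v, rfl⟩ := hw w
      rw [hρ, ← h3 v v.2, mul_inv_cancel_right]
      rfl
  have hr : Nat.card ρ.range = (centralizer (N : Set G)).relIndex A := by
    rw [relIndex, ← hker, index_ker]
  have hN : Nat.card N = Nat.card F ^ 2 := by
    rw [Nat.card_congr E', Nat.card_fun, Nat.card_eq_fintype_card (α := Fin 2), Fintype.card_fin]
  have hfix : Nat.card {v : Fin 2 → F // ∀ g, ρ g v = v} = Nat.card ↥(N ⊓ centralizer (A : Set G)) := by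
    refine Nat.card_congr ⟨fun w => ⟨(E'.symm w.1 : N), (E'.symm w.1).2, ?_⟩, fun v => ⟨e v.1, ?_⟩, ?_, ?_⟩
    · refine mem_centralizer_iff.2 fun a ha => ?_
      have h3 := hρ ⟨a, ha⟩ (E'.symm w.1)
      have h4 : e (E'.symm w.1 : N) = w.1 := by rw [← hE', Equiv.apply_symm_apply]
      rw [h4, w.2] at h3
      have h5 : ((E'.symm w.1 : N) : G) = a * (E'.symm w.1 : N) * a⁻¹ :=
        nb_inj h (E'.symm w.1).2 (hc a ha _ (E'.symm w.1).2) (h4.trans h3)
      calc a * (E'.symm w.1 : N) = (a * (E'.symm w.1 : N) * a⁻¹) * a := by group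
        _ = (E'.symm w.1 : N) * a := by rw [← h5]
    · intro g
      have h3 := hρ g ⟨v.1, v.2.1⟩
      rw [h3]
      have h4 := mem_centralizer_iff.1 v.2.2 g g.2
      change e (g * v.1 * (g : G)⁻¹) = e v.1
      rw [h4, mul_inv_cancel_right]
    · intro w
      apply Subtype.ext
      change e ((E'.symm w.1 : N) : G) = w.1
      rw [← hE', Equiv.apply_symm_apply]
    · intro v
      apply Subtype.ext
      have h3 : E'.symm (e v.1) = ⟨v.1, v.2.1⟩ := by
        rw [Equiv.symm_apply_eq]
        rfl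
      change ((E'.symm (e v.1) : N) : G) = v.1
      rw [h3]
  have h3 := semi_cnt ρ hsm h2
  rw [hr, hfix, ← hN] at h3
  refine ⟨h3.1, fun hle => ?_⟩
  have hx := h3.2 (le_antisymm h3.1 hle)
  have hAl : A ≤ centralizer (l : Set G) := by
    intro a ha
    refine mem_centralizer_iff.2 fun v hv => ?_
    obtain ⟨hvN, hv1⟩ := (h.line v).1 hv
    have h4 : e v = ![e v 0, 0] := by
      funext i
      fin_cases i
      · rfl
      · exact hv1
    have h5 := hρ ⟨a, ha⟩ ⟨v, hvN⟩
    change ρ ⟨a, ha⟩ (e v) = e (a * v * a⁻¹) at h5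
    rw [h4, hx, ← h4] at h5
    have h6 : v = a * v * a⁻¹ := nb_inj h hvN (hc a ha v hvN) h5
    calc v * a = (a * v * a⁻¹) * a := by rw [← h6]
      _ = a * v := by group
  refine ⟨hAl, ?_⟩
  -- all elements are root elements
  have hroot : ∀ g, ∃ b : F, ∀ w, ρ g w = ![w 0 + b * w 1, w 1] := by
    intro g
    obtain ⟨σ, a, b, d, hS⟩ := hsm g
    have h4 : ∀ x, a * σ x = x := by
      intro x
      have h5 := hx g x
      rw [hS] at h5
      simpa using congrFun h5 0
    have h5 : a = 1 := by simpa using h4 1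
    refine ⟨b, hS.lin (h2 g) fun x => ?_⟩
    have := h4 x
    rwa [h5, one_mul] at this
  choose β hβ using hroot
  by_cases hb : ∀ g, β g = 0
  · left
    intro a ha
    refine mem_centralizer_iff.2 fun v hv => ?_
    have h5 := hρ ⟨a, ha⟩ ⟨v, hv⟩
    change ρ ⟨a, ha⟩ (e v) = e (a * v * a⁻¹) at h5
    rw [hβ, hb] at h5
    have h6 : e v = ![e v 0 + 0 * e v 1, e v 1] := by
      funext i
      fin_cases i <;> simp
    rw [← h6] at h5
    have h7 : v = a * v * a⁻¹ := nb_inj h hv (hc a ha v hv) h5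
    calc v * a = (a * v * a⁻¹) * a := by rw [← h7]
      _ = a * v := by group
  · right
    push Not at hb
    obtain ⟨g₀, hg₀⟩ := hb
    have h4 : Nat.card {v : Fin 2 → F // ∀ g, ρ g v = v} ≤ Nat.card F := by
      refine Nat.card_le_card_of_injective (fun v => v.1 0) ?_
      have h5 : ∀ v : {v : Fin 2 → F // ∀ g, ρ g v = v}, v.1 1 = 0 := by
        rintro ⟨v, hv⟩
        have := congrFun (hv g₀) 0
        rw [hβ] at this
        simp only [Matrix.cons_val_zero, add_eq_left, mul_eq_zero] at this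
        exact this.resolve_left hg₀
      intro v w hvw
      apply Subtype.ext
      funext i
      fin_cases i
      · exact hvw
      · simp [h5 v, h5 w]
    rw [hfix] at h4
    have hq : 0 < Nat.card F := Nat.card_pos
    have h5 : Nat.card F ≤ Nat.card ρ.range := by
      rw [hr]
      have h6 : Nat.card F * Nat.card F ≤ (centralizer (N : Set G)).relIndex A * Nat.card F := by
        calc Nat.card F * Nat.card F = Nat.card N := by rw [hN, pow_two]
          _ ≤ _ := hle
          _ ≤ _ := Nat.mul_le_mul_left _ h4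
      exact Nat.le_of_mul_le_mul_right h6 hq
    let γ : ρ.range → F := fun r => (r.1 ![0, 1]) 0
    have hγ : ∀ g, γ ⟨ρ g, g, rfl⟩ = β g := by
      intro g
      change (ρ g ![0, 1]) 0 = β g
      rw [hβ]
      simp
    have hγi : Function.Injective γ := by
      rintro ⟨r, g, rfl⟩ ⟨r', g', rfl⟩ hh
      rw [hγ, hγ] at hh
      apply Subtype.ext
      apply Equiv.ext
      intro v
      change ρ g v = ρ g' v
      rw [hβ, hβ, hh]
    have hγs : Function.Surjective γ := by
      have h6 : Function.Bijective γ := (Nat.bijective_iff_injective_and_card γ).2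
        ⟨hγi, le_antisymm (Nat.card_le_card_of_injective γ hγi) h5⟩
      exact h6.2
    intro c
    obtain ⟨⟨r, g, rfl⟩, hc'⟩ := hγs c
    rw [hγ] at hc'
    refine ⟨g, g.2, fun v hv => ?_⟩
    have h6 := hρ g ⟨v, hv⟩
    change ρ g (e v) = e (g * v * (g : G)⁻¹) at h6
    rw [← h6, hβ, hc']

end nb

section bls

variable {S V : Subgroup G} {N l E : ι → Subgroup G}

/-- **if `A` is best on `V` then on every block** -/
theorem best_block [Finite G] [Finite ι] (h : Bls S V N l E) {A : Subgroup G} (hA : A ≤ TT S N)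
    (A2 : ∀ a ∈ A, a ^ 2 = 1)
    (best : Nat.card V ≤ (centralizer (V : Set G)).relIndex A * Nat.card ↥(V ⊓ centralizer (A : Set G))) (b : ι) :
    Nat.card (N b) ≤ (centralizer (N b : Set G)).relIndex A * Nat.card ↥(N b ⊓ centralizer (A : Set G)) := by
  classical
  have := Fintype.ofFinite ι
  obtain ⟨κ, hκ⟩ := exists_co h.comm h.indep
  have hAN : ∀ b, A ≤ normalizer (N b : Set G) := fun b => (hA.trans inf_le_right).trans (iInf_le _ b)
  have hAc : ∀ a ∈ A, ∀ i, ∀ v ∈ N i, a * v * a⁻¹ ∈ N i := fun a ha i v hv =>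
    (mem_normalizer_iff.1 (hAN i ha) v).1 hv
  -- (i)
  have h1 : (centralizer (V : Set G)).relIndex A ≤ ∏ b, (centralizer (N b : Set G)).relIndex A := by
    have e1 : (⨅ b, centralizer (N b : Set G)) ≤ centralizer (V : Set G) := by
      rw [← h.sup]
      have h3 : (⨆ b, N b) ≤ centralizer ((⨅ b, centralizer (N b : Set G) : Subgroup G) : Set G) :=
        iSup_le fun b => by
          rw [le_centralizer_iff]
          exact iInf_le _ b
      rwa [le_centralizer_iff] at h3
    have e2 : (centralizer (V : Set G)).relIndex A ≤ (⨅ b, centralizer (N b : Set G)).relIndex A :=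
      Nat.le_of_dvd (Nat.pos_of_ne_zero (index_ne_zero_of_finite (H := (⨅ b, centralizer (N b : Set G)).subgroupOf A)))
        (relIndex_dvd_of_le_left A e1)
    exact e2.trans (relIndex_iInf_le _)
  -- (ii)
  have h2 : Nat.card ↥(V ⊓ centralizer (A : Set G)) ≤ ∏ b, Nat.card ↥(N b ⊓ centralizer (A : Set G)) := by
    rw [← Nat.card_pi]
    have hV : ∀ {v : G}, v ∈ V → v ∈ ⨆ b, N b := fun {v} hv => h.sup ▸ hv
    refine Nat.card_le_card_of_injective (fun v b => ⟨κ v.1 b, hκ.mem _ (hV v.2.1) b, ?_⟩) ?_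
    · refine mem_centralizer_iff.2 fun a ha => ?_
      have h3 := (hκ.conj (hAc a ha) (hV v.2.1)).2 b
      have h4 := mem_centralizer_iff.1 v.2.2 a ha
      rw [h4, mul_inv_cancel_right] at h3
      rw [eq_mul_inv_iff_mul_eq] at h3
      exact h3.symm
    · intro v w hvw
      apply Subtype.ext
      refine hκ.ext' (hV v.2.1) (hV w.2.1) fun c => ?_
      exact congrArg Subtype.val (congrFun hvw c)
  -- (iii)
  have h3 : ∏ b, Nat.card (N b) ≤ Nat.card V := by
    rw [← Nat.card_pi]
    choose g hg hg' using fun p : (∀ b, N b) => exists_comp hκ (fun b => (p b : G)) (fun b => (p b).2)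
    refine Nat.card_le_card_of_injective (fun p => ⟨g p, h.sup ▸ hg p⟩) ?_
    intro p p' hpp
    funext b
    apply Subtype.ext
    have h4 : g p = g p' := congrArg Subtype.val hpp
    rw [← hg' p b, ← hg' p' b, h4]
  by_contra hlt
  push Not at hlt
  have h4 : ∏ b, (centralizer (N b : Set G)).relIndex A * Nat.card ↥(N b ⊓ centralizer (A : Set G)) <
      ∏ b, Nat.card (N b) := by
    refine Finset.prod_lt_prod (fun c _ => ?_) (fun c _ => ?_) ⟨b, Finset.mem_univ b, hlt⟩
    · exact Nat.mul_pos (Nat.pos_of_ne_zero (index_ne_zero_of_finite (H := (centralizer (N c : Set G)).subgroupOf A)))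
        Nat.card_pos
    · obtain ⟨F, _, _, _, e, he⟩ := h.nat c
      exact (nb_cnt he (hA.trans inf_le_left) (hAN c) A2).1
  rw [Finset.prod_mul_distrib] at h4
  exact absurd (h3.trans (best.trans (Nat.mul_le_mul h1 h2))) (not_le.2 h4)

/-- **The root lemma, one block.** -/
theorem root_full [Finite G] (h : Bls S V N l E) {A : Subgroup G} (hA : A ≤ TT S N)
    (A2 : ∀ a ∈ A, a ^ 2 = 1) {b : ι}
    (best : Nat.card (N b) ≤ (centralizer (N b : Set G)).relIndex A * Nat.card ↥(N b ⊓ centralizer (A : Set G))) :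
    A ≤ centralizer (l b : Set G) ∧ (A ≤ centralizer (N b : Set G) ∨
      ∃ (F : Type) (_ : Field F) (_ : Finite F) (_ : CharP F 2) (e : G → Fin 2 → F), NB S (E b) (N b) (l b) F e ∧
        ∀ c : F, ∃ a ∈ A, ∀ v ∈ N b, e (a * v * a⁻¹) = ![e v 0 + c * e v 1, e v 1]) := by
  have hAN : A ≤ normalizer (N b : Set G) := (hA.trans inf_le_right).trans (iInf_le _ b)
  obtain ⟨F, i1, i2, i3, e, he⟩ := h.nat b
  have h1 := (nb_cnt he (hA.trans inf_le_left) hAN A2).2 best
  exact ⟨h1.1, h1.2.imp id fun h2 => ⟨F, i1, i2, i3, e, he, h2⟩⟩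

/-- **The root lemma.** -/
theorem root_le [Finite G] [Finite ι] (h : Bls S V N l E) {A : Subgroup G} (hA : A ≤ TT S N)
    (A2 : ∀ a ∈ A, a ^ 2 = 1)
    (best : Nat.card V ≤ (centralizer (V : Set G)).relIndex A * Nat.card ↥(V ⊓ centralizer (A : Set G))) :
    A ≤ centralizer ((⨆ b, l b : Subgroup G) : Set G) := by
  rw [le_centralizer_iff]
  refine iSup_le fun b => ?_
  rw [le_centralizer_iff]
  exact (root_full h hA A2 (best_block h hA A2 best b)).1

end bls

end Cfsg.Agent.Omega.NOThreeL.RWide.UniT.RootCnt
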