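import Cfsg.Agent.Omega.NOThreeL.RWide.UniT.RootCnt
import Cfsg.Agent.Omega.NOThreeL.RWide.UniT.Fr
import Cfsg.Agent.Omega.NOThreeL.RWide.RootB

/-!
# The field `off` of `Rts` (helper995 #27590): the root lemma over natural blocks

* `nb_full_of` : a root group of exponent 2 with all parameters is `Full`;
* **`nb_off`** : one block;  **`off_of`** : the field `off` of `Rts (TT S N) O N l` over `Bls S V N l E`.
-/

set_option autoImplicit false
set_option linter.unusedSectionVars false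

namespace Cfsg.Agent.Omega.NOThreeL.RWide.UniT

open Subgroup Cfsg
open Cfsg.Agent.Omega.NOThreeL.RWide.TBlk (NB Bls)
open Cfsg.Agent.Omega.NOThreeL.RWide.TAct (TT)
open Cfsg.Agent.Omega.NOThreeL.RWide.UniT.RootCnt (nb_inj nb_cnt)

universe u v

variable {G : Type u} [Group G] {ι : Type v}

namespace RootOff

section nb

variable {S E N l : Subgroup G} {F : Type} [Field F] {e : G → Fin 2 → F}

/-- `a v a⁻¹ v⁻¹` in coordinates -/
theorem comm_eq (h : NB S E N l F e) {a v : G} {c : F} (hv : v ∈ N) (hav : a * v * a⁻¹ ∈ N)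
    (hc : e (a * v * a⁻¹) = ![e v 0 + c * e v 1, e v 1]) : e (a * v * a⁻¹ * v⁻¹) = ![c * e v 1, 0] := by
  have h1 := h.mul (a * v * a⁻¹ * v⁻¹) (mul_mem hav (inv_mem hv)) v hv
  rw [inv_mul_cancel_right, hc] at h1
  funext i
  have h2 := congrFun h1 i
  fin_cases i
  · simp only [Fin.zero_eta, Matrix.cons_val_zero, Pi.add_apply] at h2 ⊢
    linear_combination -h2
  · simp only [Fin.mk_one, Matrix.cons_val_one, Matrix.cons_val_fin_one, Pi.add_apply] at h2 ⊢
    linear_combination -h2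

/-- `|A| = |A ∩ C(N)| |A : C_A(N)|` -/
theorem card_split (A N : Subgroup G) :
    Nat.card ↥(A ⊓ centralizer (N : Set G)) * (centralizer (N : Set G)).relIndex A = Nat.card A := by
  rw [← inf_relIndex_left A (centralizer (N : Set G))]
  have := relIndex_mul_relIndex (⊥ : Subgroup G) (A ⊓ centralizer (N : Set G)) A bot_le inf_le_left
  rwa [relIndex_bot_left, relIndex_bot_left] at this

/-- a group of exponent 2 of root elements with all parameters is `Full` -/
theorem nb_full_of [Finite G] (h : NB S E N l F e) {A : Subgroup G} (hAN : A ≤ normalizer (N : Set G))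
    (hAl : A ≤ centralizer (l : Set G)) (hr : ∀ a ∈ A, ∃ c : F, ∀ v ∈ N, e (a * v * a⁻¹) = ![e v 0 + c * e v 1, e v 1])
    (hall : ∀ c : F, ∃ a ∈ A, ∀ v ∈ N, e (a * v * a⁻¹) = ![e v 0 + c * e v 1, e v 1]) : Full A N l := by
  have hc : ∀ a ∈ A, ∀ v ∈ N, a * v * a⁻¹ ∈ N := fun a ha v hv => (mem_normalizer_iff.1 (hAN ha) v).1 hv
  have inl : ∀ a ∈ A, ∀ v ∈ N, a * v * a⁻¹ * v⁻¹ ∈ l := by
    intro a ha v hv
    obtain ⟨c, h1⟩ := hr a ha
    refine (h.line _).2 ⟨mul_mem (hc a ha v hv) (inv_mem hv), ?_⟩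
    rw [comm_eq h hv (hc a ha v hv) (h1 v hv)]
    rfl
  have onA : ∀ v ∈ N, v ∉ l → ∀ z ∈ l, ∃ a ∈ A, a * v * a⁻¹ * v⁻¹ = z := by
    intro v hv hvl z hz
    have h1 : e v 1 ≠ 0 := fun h0 => hvl ((h.line v).2 ⟨hv, h0⟩)
    obtain ⟨hzN, hz1⟩ := (h.line z).1 hz
    obtain ⟨a, ha, h2⟩ := hall (e z 0 / e v 1)
    refine ⟨a, ha, nb_inj h (mul_mem (hc a ha v hv) (inv_mem hv)) hzN ?_⟩
    rw [comm_eq h hv (hc a ha v hv) (h2 v hv), div_mul_cancel₀ _ h1]
    funext i
    fin_cases i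
    · rfl
    · exact hz1.symm
  have onN : ∀ a ∈ A, a ∉ centralizer (N : Set G) → ∀ z ∈ l, ∃ v ∈ N, a * v * a⁻¹ * v⁻¹ = z := by
    intro a ha hac z hz
    obtain ⟨c, h1⟩ := hr a ha
    obtain ⟨hzN, hz1⟩ := (h.line z).1 hz
    have hc0 : c ≠ 0 := by
      rintro rfl
      apply hac
      refine mem_centralizer_iff.2 fun v hv => ?_
      have h3 := h1 v hv
      have h4 : e v = ![e v 0 + 0 * e v 1, e v 1] := by
        funext i
        fin_cases i <;> simp
      rw [← h4] at h3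
      have h5 : a * v * a⁻¹ = v := nb_inj h (hc a ha v hv) hv h3
      calc v * a = (a * v * a⁻¹) * a := by rw [h5]
        _ = a * v := by group
    obtain ⟨v, hv, h2⟩ := h.sur ![0, e z 0 / c]
    refine ⟨v, hv, nb_inj h (mul_mem (hc a ha v hv) (inv_mem hv)) hzN ?_⟩
    rw [comm_eq h hv (hc a ha v hv) (h1 v hv), h2]
    funext i
    fin_cases i
    · simp [mul_div_cancel₀ _ hc0]
    · exact hz1.symm
  obtain ⟨v₀, hv₀, h₀⟩ := h.sur ![0, 1]
  have hv₀l : v₀ ∉ l := by
    intro h1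
    have h2 := ((h.line v₀).1 h1).2
    rw [h₀] at h2
    exact one_ne_zero h2
  have hcent : ∀ a ∈ A, a * v₀ * a⁻¹ * v₀⁻¹ = 1 → a ∈ centralizer (N : Set G) := by
    intro a ha h1
    by_contra hac
    obtain ⟨c, h3⟩ := hr a ha
    have h4 := comm_eq h hv₀ (hc a ha v₀ hv₀) (h3 v₀ hv₀)
    have e1 : e 1 = 0 := TFmNB.e_one_of h
    rw [h1, e1, h₀] at h4
    have hc0 : c = 0 := by simpa using (congrFun h4 0).symm
    subst hc0
    apply hac
    refine mem_centralizer_iff.2 fun v hv => ?_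
    have h5 := h3 v hv
    have h6 : e v = ![e v 0 + 0 * e v 1, e v 1] := by
      funext i
      fin_cases i <;> simp
    rw [← h6] at h5
    have h7 : a * v * a⁻¹ = v := nb_inj h (hc a ha v hv) hv h5
    calc v * a = (a * v * a⁻¹) * a := by rw [h7]
      _ = a * v := by group
  refine ⟨hAl, inl, onA, onN, ?_, ?_⟩
  · -- `a ↦ a v₀ a⁻¹ v₀⁻¹`
    have lcom : ∀ a ∈ A, ∀ z ∈ l, a * z * a⁻¹ = z := fun a ha z hz => by
      rw [← mem_centralizer_iff.1 (hAl ha) z hz, mul_inv_cancel_right]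
    have lN : l ≤ N := TFmNB.lN_of h
    have label : ∀ z ∈ l, ∀ w ∈ l, z * w = w * z := by
      intro z hz w hw
      apply nb_inj h (mul_mem (lN hz) (lN hw)) (mul_mem (lN hw) (lN hz))
      rw [h.mul _ (lN hz) _ (lN hw), h.mul _ (lN hw) _ (lN hz), add_comm]
    let φ : A →* l :=
      { toFun := fun a => ⟨a * v₀ * (a : G)⁻¹ * v₀⁻¹, inl a a.2 v₀ hv₀⟩
        map_one' := Subtype.ext (by simp)
        map_mul' := by
          intro a b
          apply Subtype.ext
          change (a : G) * b * v₀ * ((a : G) * b)⁻¹ * v₀⁻¹ =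
            ((a : G) * v₀ * (a : G)⁻¹ * v₀⁻¹) * ((b : G) * v₀ * (b : G)⁻¹ * v₀⁻¹)
          have h1 := lcom a a.2 _ (inl b b.2 v₀ hv₀)
          have h2 := label _ (inl a a.2 v₀ hv₀) _ (inl b b.2 v₀ hv₀)
          rw [h2]
          calc (a : G) * b * v₀ * ((a : G) * b)⁻¹ * v₀⁻¹
              = ((a : G) * ((b : G) * v₀ * (b : G)⁻¹ * v₀⁻¹) * (a : G)⁻¹) *
                ((a : G) * v₀ * (a : G)⁻¹ * v₀⁻¹) := by group
            _ = _ := by rw [h1] }
    have hφr : φ.range = ⊤ := by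
      rw [eq_top_iff]
      rintro ⟨z, hz⟩ -
      obtain ⟨a, ha, h1⟩ := onA v₀ hv₀ hv₀l z hz
      exact ⟨⟨a, ha⟩, Subtype.ext h1⟩
    have hφk : φ.ker = (centralizer (N : Set G)).subgroupOf A := by
      ext a
      rw [MonoidHom.mem_ker, mem_subgroupOf]
      constructor
      · intro h1
        exact hcent a a.2 (congrArg Subtype.val h1)
      · intro h1
        apply Subtype.ext
        change (a : G) * v₀ * (a : G)⁻¹ * v₀⁻¹ = 1
        rw [← mem_centralizer_iff.1 h1 v₀ hv₀, mul_inv_cancel_right, mul_inv_cancel]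
    have h1 : (centralizer (N : Set G)).relIndex A = Nat.card l := by
      rw [relIndex, ← hφk, index_ker, hφr]
      exact Nat.card_congr Subgroup.topEquiv.toEquiv
    rw [← h1, card_split]
  · intro h1
    obtain ⟨a, ha, h2⟩ := hall 1
    have h3 := h2 v₀ hv₀
    have h4 : a * v₀ * a⁻¹ = v₀ := by
      rw [← mem_centralizer_iff.1 (h1 ha) v₀ hv₀, mul_inv_cancel_right]
    rw [h4, h₀] at h3
    have := congrFun h3 0
    simp at this

/-- **The root lemma, one block.** -/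
theorem nb_off [Finite G] [Finite F] [CharP F 2] (h : NB S E N l F e) {A : Subgroup G} (hA : A ≤ S)
    (hAN : A ≤ normalizer (N : Set G)) (A2 : ∀ a ∈ A, a ^ 2 = 1)
    (hle : Nat.card N * Nat.card ↥(A ⊓ centralizer (N : Set G)) ≤
      Nat.card A * Nat.card ↥(N ⊓ centralizer (A : Set G))) :
    A ≤ centralizer (N : Set G) ∨ Full A N l := by
  have h1 : Nat.card N ≤ (centralizer (N : Set G)).relIndex A * Nat.card ↥(N ⊓ centralizer (A : Set G)) := by
    rw [← card_split A N] at hle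
    have h2 : 0 < Nat.card ↥(A ⊓ centralizer (N : Set G)) := Nat.card_pos
    refine Nat.le_of_mul_le_mul_left (c := Nat.card ↥(A ⊓ centralizer (N : Set G))) ?_ h2
    calc Nat.card ↥(A ⊓ centralizer (N : Set G)) * Nat.card N
        = Nat.card N * Nat.card ↥(A ⊓ centralizer (N : Set G)) := mul_comm _ _
      _ ≤ _ := hle
      _ = _ := by ring
  obtain ⟨hAl, h2⟩ := (nb_cnt h hA hAN A2).2 h1
  refine h2.imp id fun hall => nb_full_of h hAN hAl (fun a ha => ?_) hall
  exact RootB.act_root h.sur h.line ⟨1, by rw [pow_one]; exact A2 a ha⟩ (hAN ha) (hAl ha) (h.semi a (hA ha) (hAN ha))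

end nb

end RootOff

/-- **The field `off` of `Rts`.** -/
theorem off_of [Finite G] {S V : Subgroup G} {N l E : ι → Subgroup G} (h : Bls S V N l E) (b : ι) (A : Subgroup G)
    (hA : A ≤ TT S N) (hAe : IsElementaryAbelian 2 A)
    (hle : Nat.card (N b) * Nat.card ↥(A ⊓ centralizer (N b : Set G)) ≤
      Nat.card A * Nat.card ↥(N b ⊓ centralizer (A : Set G))) :
    A ≤ centralizer (N b : Set G) ∨ Full A (N b) (l b) := by
  have hAN : A ≤ normalizer (N b : Set G) := (hA.trans inf_le_right).trans (iInf_le _ b)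
  obtain ⟨F, i1, i2, i3, e, he⟩ := h.nat b
  exact RootOff.nb_off he (hA.trans inf_le_left) hAN (fun a ha => hAe.2 a ha) hle

end Cfsg.Agent.Omega.NOThreeL.RWide.UniT
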